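import Cfsg.Agent.Lib.Characterizations.ExtraNine.Final
import Cfsg.Agent.Lib.Characterizations.CoType.Setup
import Cfsg.Agent.Lib.Components.Constrained

/-!
From the hypotheses on `C(z)` to the data.
-/

set_option autoImplicit false
set_option linter.unusedSectionVars false

namespace CfsgLib.Characterizations.ExtraNine

open Equiv Subgroup
open scoped commutatorElement
open CfsgLib.ThreeTransp.Extraspecial CfsgLib.ThreeTransp.ExtraspecialCore

variable {G : Type*} [Group G] [Finite G]

/-- An extension of an extraspecial group of order `2⁹` by such a subgroup of `S₃ × S₆` is no involution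
centraliser of a simple group. -/
theorem not_simple (z : G) (hz : orderOf z = 2)
    (hQ : Cfsg.IsExtraspecial 2 ↥(Cfsg.pCore 2 ↥(centralizer ({z} : Set G))))
    (hQ9 : Nat.card ↥(Cfsg.pCore 2 ↥(centralizer ({z} : Set G))) = 2 ^ 9)
    (hCQ : centralizer ((Cfsg.pCore 2 ↥(centralizer ({z} : Set G))) : Set ↥(centralizer ({z} : Set G))) ≤
      Cfsg.pCore 2 ↥(centralizer ({z} : Set G)))
    (φ : centralizer ({z} : Set G) →* K)
    (hker : φ.ker = Cfsg.pCore 2 ↥(centralizer ({z} : Set G)))
    (halt : ∀ g : K, Perm.sign g.1 = 1 → Perm.sign g.2 = 1 → g ∈ φ.range)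
    (hodd : ∃ g ∈ φ.range, Perm.sign g.1 = -1) (hs : IsSimpleGroup G) : False := by
  have eQ : ↥(Cfsg.pCore 2 ↥(centralizer ({z} : Set G))) ≃* ↥(core z) :=
    Subgroup.equivMapOfInjective _ _ (centralizer ({z} : Set G)).subtype_injective
  have hE : Cfsg.IsExtraspecial 2 ↥(core z) := CfsgLib.Characterizations.CoType.isExtraspecial_congr' eQ hQ
  obtain ⟨w, hw⟩ := exists_extra hE
  have hzmem : ∀ x, x ∈ centralizer ((core z : Subgroup G) : Set G) → x * z = z * x → x ∈ core z := by
    intro x hx hxz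
    refine ⟨⟨x, mem_centralizer_singleton_iff.2 hxz⟩, hCQ (mem_centralizer_iff.2 fun q hq => ?_), rfl⟩
    exact Subtype.ext (mem_centralizer_iff.1 hx (q : G) ⟨q, hq, rfl⟩)
  have hzcore : z ∈ core z := hzmem z (mem_centralizer_iff.2 fun q hq =>
    mem_centralizer_singleton_iff.1 (core_le_centralizer z hq)) rfl
  have hC : centralizer ((core z : Subgroup G) : Set G) ≤ core z := fun x hx =>
    hzmem x hx (mem_centralizer_iff.1 hx z hzcore).symm
  let c : Ctx G :=
    { z := z, hz := hz, hE := hE, hC := hC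
      card := by rw [← Nat.card_congr eQ.toEquiv, hQ9]
      φ := φ
      hker := fun h => by
        rw [← MonoidHom.mem_ker, hker]
        exact ⟨fun hh => ⟨h, hh, rfl⟩, fun ⟨h', hh, e⟩ => by rwa [show h = h' from Subtype.ext e.symm]⟩
      alt := halt, odd := hodd }
  haveI : Group.IsPerfect G := by
    rw [Group.isPerfect_def]
    refine ((inferInstance : (commutator G).Normal).eq_bot_or_eq_top).resolve_left fun h => ?_
    have hab : ∀ a b : G, a * b = b * a := fun a b => by
      have h1 : ⁅a, b⁆ ∈ commutator G := Subgroup.commutator_mem_commutator (mem_top a) (mem_top b)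
      rw [h, mem_bot] at h1
      exact commutatorElement_eq_one_iff_mul_comm.1 h1
    obtain ⟨a, ha⟩ := halt (1, pa) (map_one _) (by decide +kernel)
    obtain ⟨b, hb⟩ := halt (1, pn) (map_one _) (by decide +kernel)
    have e : φ a * φ b = φ b * φ a := by rw [← map_mul, ← map_mul]; congr 1; exact Subtype.ext (hab a b)
    rw [ha, hb, Prod.mk_mul_mk, Prod.mk_mul_mk, Prod.ext_iff] at e
    exact absurd e.2 (by decide +kernel)
  exact c.impossible CfsgLib.Components.pResidual_eq_top_of_perfect

/-- The even part of `S₃ × S₆`. -/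
abbrev evenPart : Subgroup K :=
  MonoidHom.ker (Perm.sign.comp (MonoidHom.fst (Perm (Fin 3)) (Perm (Fin 6))) *
    Perm.sign.comp (MonoidHom.snd (Perm (Fin 3)) (Perm (Fin 6))))

theorem three_two : ∀ s : Perm (Fin 3), s * gth.1 * s⁻¹ * gth.1⁻¹ = 1 → s ^ 3 = 1 := by decide +kernel

theorem mem_evenPart {g : K} : g ∈ evenPart ↔ Perm.sign g.1 * Perm.sign g.2 = 1 := Iff.rfl

theorem evenPart_gth : gth ∈ evenPart := mem_evenPart.2 (by decide +kernel)

theorem evenPart_core {N : Subgroup evenPart} [N.Normal] (hN : IsPGroup 2 N) : N = ⊥ := by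
  have hfst : ∀ x ∈ N, ((x : evenPart) : K).1 = 1 := by
    intro x hx
    set t : evenPart := ⟨gth, evenPart_gth⟩ with ht
    have hc : x * t * x⁻¹ * t⁻¹ ∈ N := by
      rw [show x * t * x⁻¹ * t⁻¹ = x * (t * x⁻¹ * t⁻¹) by group]
      exact mul_mem hx ((inferInstance : N.Normal).conj_mem _ (inv_mem hx) _)
    have hpow : ∀ {y : evenPart}, y ∈ N → y ^ 3 = 1 → y = 1 := by
      intro y hy h3
      obtain ⟨k, hk⟩ := hN ⟨y, hy⟩
      have hk' : y ^ (2 ^ k) = 1 := congrArg Subtype.val hk
      have hd := Nat.dvd_gcd (orderOf_dvd_of_pow_eq_one h3) (orderOf_dvd_of_pow_eq_one hk')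
      rw [(Nat.Coprime.pow_right k (by norm_num : Nat.Coprime 3 2))] at hd
      exact orderOf_eq_one_iff.1 (Nat.dvd_one.1 hd)
    have h1 := hpow hc (by
      apply Subtype.ext
      apply Prod.ext
      · show (((x : evenPart) : K).1 * gth.1 * ((x : evenPart) : K).1⁻¹ * gth.1⁻¹) ^ 3 = 1
        revert hc
        generalize ((x : evenPart) : K).1 = s
        intro _
        revert s
        decide +kernel
      · show (((x : evenPart) : K).2 * 1 * ((x : evenPart) : K).2⁻¹ * (1 : Perm (Fin 6))⁻¹) ^ 3 = 1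
        simp)
    have h2 : ((x : evenPart) : K).1 * gth.1 * ((x : evenPart) : K).1⁻¹ * gth.1⁻¹ = 1 :=
      congrArg (fun y : evenPart => ((y : K)).1) h1
    have h3 := three_two _ h2
    obtain ⟨k, hk⟩ := hN ⟨x, hx⟩
    have hk' : ((x : evenPart) : K).1 ^ (2 ^ k) = 1 :=
      congrArg (fun y : N => ((y : evenPart) : K).1) hk
    have hd := Nat.dvd_gcd (orderOf_dvd_of_pow_eq_one h3) (orderOf_dvd_of_pow_eq_one hk')
    rw [(Nat.Coprime.pow_right k (by norm_num : Nat.Coprime 3 2))] at hd
    exact orderOf_eq_one_iff.1 (Nat.dvd_one.1 hd)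
  let j : alternatingGroup (Fin 6) →* evenPart :=
    MonoidHom.mk' (fun p => ⟨(1, p), mem_evenPart.2 (by
      rw [map_one, one_mul]; exact Perm.mem_alternatingGroup.1 p.2)⟩) fun p q =>
      Subtype.ext (by simp [Prod.mk_mul_mk])
  have hj : Function.Injective j := fun p q e =>
    Subtype.ext (congrArg (fun y : evenPart => ((y : K)).2) e)
  haveI := alternatingGroup.isSimpleGroup (α := Fin 6) (by simp)
  rw [Subgroup.eq_bot_iff_forall]
  intro x hx
  have hx1 := hfst x hx
  have hx2 : Perm.sign ((x : evenPart) : K).2 = 1 := by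
    have := mem_evenPart.1 x.2
    rwa [hx1, map_one, one_mul] at this
  rcases (inferInstance : (N.comap j).Normal).eq_bot_or_eq_top with h | h
  · have hm : (⟨((x : evenPart) : K).2, Perm.mem_alternatingGroup.2 hx2⟩ : alternatingGroup (Fin 6)) ∈ N.comap j := by
      show j _ ∈ N
      rwa [show j ⟨((x : evenPart) : K).2, Perm.mem_alternatingGroup.2 hx2⟩ = x from
        Subtype.ext (Prod.ext hx1.symm rfl)]
    rw [h, mem_bot] at hm
    exact Subtype.ext (Prod.ext hx1 (congrArg Subtype.val hm))
  · exfalso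
    have hp : IsPGroup 2 (⊤ : Subgroup (alternatingGroup (Fin 6))) := h ▸ hN.comap_of_injective j hj
    obtain ⟨k, hk⟩ := IsPGroup.iff_card.1 hp
    rw [Subgroup.card_top, card_alt] at hk
    have : k ≤ 9 := by
      by_contra hk9
      push Not at hk9
      have := Nat.pow_le_pow_right (show 0 < 2 by norm_num) hk9
      omega
    interval_cases k <;> omega

end CfsgLib.Characterizations.ExtraNine
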