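import Cfsg.Agent.Lib.Characterizations.ExtraNine.Facts

/-!
An automorphism of the symmetric group of degree six taking `(0 1 2)` and `(3 4 5)` to
`(0 1 2)(3 4 5)` and `(0 1 2)(3 5 4)`, from the action on the six totals.
-/

set_option autoImplicit false

namespace CfsgLib.Characterizations.ExtraNine

open Equiv

/-- The colour of each duad in each total. -/
def colTable : ℕ := 54298497371288775676618923394959178697406850427370513172754463932156313820757954700348606472359859594412087553698335611386419143731841270287914432509205188617118383436067913248202506110915619365130790776394605592439665472596647202218514400242981779071014478087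

/-- Two synthemes of each total. -/
def synTable : ℕ := 163556984124033753864005648647910968039867160998223844391293083481336246048976866128400

/-- The colour of `{a, b}` in the total `j`. -/
def col (j a b : ℕ) : ℕ := (colTable >>> (4 * (j * 36 + a * 6 + b))) % 16

/-- The point number `n` in the listing of two synthemes of the total `i`. -/
def syn (i n : ℕ) : Fin 6 := Fin.ofNat 6 ((synTable >>> (4 * (i * 12 + n))) % 16)

/-- Does `p` take the total `i` to the total `j`? -/
def toTotal (p : Perm (Fin 6)) (i j : ℕ) : Bool :=
  let d : ℕ → ℕ := fun n => col j (p (syn i (2 * n))).val (p (syn i (2 * n + 1))).val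
  d 0 == d 1 && d 1 == d 2 && d 3 == d 4 && d 4 == d 5

/-- The action on the totals. -/
def onTotals (p : Perm (Fin 6)) (i : Fin 6) : Fin 6 :=
  if toTotal p i.val 0 then 0 else if toTotal p i.val 1 then 1 else if toTotal p i.val 2 then 2
  else if toTotal p i.val 3 then 3 else if toTotal p i.val 4 then 4 else 5

theorem onTotals_gen : ∀ (q : Perm (Fin 6)) (i : Fin 6),
    onTotals (swap 0 1 * q) i = onTotals (swap 0 1) (onTotals q i) ∧
    onTotals (finRotate 6 * q) i = onTotals (finRotate 6) (onTotals q i) := by decide +kernel

theorem onTotals_one : ∀ i, onTotals 1 i = i := by decide +kernel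

theorem onTotals_faithful : ∀ p, (∀ i, onTotals p i = i) → p = 1 := by decide +kernel

theorem onTotals_mul (p q : Perm (Fin 6)) (i : Fin 6) :
    onTotals (p * q) i = onTotals p (onTotals q i) := by
  refine forall_of_gen perm_six_gen
    (fun p => ∀ q i, onTotals (p * q) i = onTotals p (onTotals q i)) ?_ ?_ ?_ p q i
  · intro q i; rw [one_mul, onTotals_one]
  · rintro a (rfl | rfl) q i
    · exact (onTotals_gen q i).1
    · exact (onTotals_gen q i).2
  · intro a b ha hb q i
    rw [mul_assoc, ha, hb, ha]

/-- The action on the totals as a homomorphism. -/
def exoticHom : Perm (Fin 6) →* Perm (Fin 6) where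
  toFun p :=
    { toFun := onTotals p
      invFun := onTotals p⁻¹
      left_inv := fun i => by rw [← onTotals_mul, inv_mul_cancel, onTotals_one]
      right_inv := fun i => by rw [← onTotals_mul, mul_inv_cancel, onTotals_one] }
  map_one' := Equiv.ext onTotals_one
  map_mul' p q := Equiv.ext fun i => onTotals_mul p q i

theorem exoticHom_injective : Function.Injective exoticHom :=
  (injective_iff_map_eq_one _).2 fun p hp =>
    onTotals_faithful p fun i => DFunLike.congr_fun hp i

/-- The exotic automorphism. -/
noncomputable def exotic : Perm (Fin 6) ≃* Perm (Fin 6) :=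
  MulEquiv.ofBijective exoticHom (Finite.injective_iff_bijective.1 exoticHom_injective)

theorem exotic_sign (p : Perm (Fin 6)) : Perm.sign (exotic p) = Perm.sign p := by
  have h := Equiv.Perm.eq_sign_of_surjective_hom (s := Perm.sign.comp exoticHom)
    (by
      rw [MonoidHom.coe_comp]
      exact (Perm.sign_surjective (Fin 6)).comp
        (Finite.injective_iff_surjective.1 exoticHom_injective))
  exact DFunLike.congr_fun h p

theorem onTotals_pa_pb : ∀ i, onTotals pa i = (pa * pb) i ∧ onTotals pb i = (pa * pb ^ 2) i := by
  decide +kernel

theorem exotic_pa : exotic pa = pa * pb := Equiv.ext fun i => (onTotals_pa_pb i).1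

theorem exotic_pb : exotic pb = pa * pb ^ 2 := Equiv.ext fun i => (onTotals_pa_pb i).2

end CfsgLib.Characterizations.ExtraNine
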