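import Cfsg.Agent.Lib.Characterizations.ExtraNine.Rep
import Cfsg.Agent.Lib.Characterizations.ExtraNine.Exotic

/-!
Coordinates on a quadratic space with a group between `A₃ × A₆` and `S₃ × S₆` in which the element
of order three of the first factor fixes only zero.
-/

set_option autoImplicit false

namespace CfsgLib.Characterizations.ExtraNine

open Equiv

/-- The four generators of the monomial part. -/
def gen4 : Fin 4 → K := ![gth, ga, gb, gn]

/-- The elements taking the first basis vector to a multiple of an image under a power of `n`. -/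
def wmk (m : Fin 3) (k : Fin 4) : K := gth ^ m.val * gn ^ k.val

theorem gen4_decomp : ∀ (j : Fin 4) (i : Fin 8), ∃ (m : Fin 3) (k : Fin 4) (p q : Fin 3),
    gen4 j * bw i = wmk m k * (ga ^ p.val * gb ^ q.val) := by decide +kernel

theorem wmk_mul_gth : ∀ (m p : Fin 3) (k : Fin 4), wmk m k * gth ^ p.val = wmk (m + p) k := by
  decide +kernel

theorem act_ab : ∀ p q : Fin 3, act (ga ^ p.val * gb ^ q.val) 19 = act (gth ^ p.val) 19 := by
  decide +kernel

theorem wmk_cases : ∀ (m : Fin 3) (k : Fin 4), (∃ i, wmk m k = bw i) ∨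
    ∃ i j, wmk m k = gth * bw j ∧ bw j = gth * bw i ∧
      act (wmk m k) 19 = Bm i ^^^ Bm j := by decide +kernel

theorem gr_conj : ∀ i, ∃ m k, gr * bw i * gr⁻¹ = wmk m k := by decide +kernel

theorem bw_sign : ∀ i, Perm.sign (bw i).1 = 1 ∧ Perm.sign (bw i).2 = 1 := by decide +kernel

theorem sign_three : ∀ s : Perm (Fin 3), Perm.sign s = 1 →
    (∃ m : Fin 3, s = gth.1 ^ m.val) ∧ s * gth.1 = gth.1 * s := by decide +kernel

theorem gs_facts : gs * gs = 1 ∧ Perm.sign gs.1 = 1 ∧ Perm.sign gs.2 = -1 ∧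
    gs * gth * gs⁻¹ = gth := by decide +kernel

theorem gt_facts : ∀ k : Fin 2, Perm.sign (gt k).1 = -1 ∧ gt k * gth * (gt k)⁻¹ = gth ^ 2 ∧
    ((k = 0 ∧ Perm.sign (gt k).2 = 1) ∨ (k = 1 ∧ Perm.sign (gt k).2 = -1)) := by decide +kernel

theorem gt_reparam : ∀ (k : Fin 2) (m : Fin 3),
    gth ^ m.val * gt k * gth ^ (2 * m.val) = gth ^ (2 * m.val) * gt k := by decide +kernel

theorem vectors : act 1 19 = 19 ∧ act gth 19 = 33 ∧ act (gth ^ 2) 19 = 50 ∧
    (19 : Vec) ≠ 0 ∧ (33 : Vec) ≠ 0 ∧ (50 : Vec) ≠ 0 ∧ ga * gth = gth * ga ∧ gb * gth = gth * gb ∧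
    ga * gb = gb * ga ∧ gn * gth = gth * gn := by decide +kernel

theorem lin_e (f : Fin 8 → Vec) (i : Fin 8) : lin f (e i) = f i := by
  fin_cases i <;> simp +decide [lin, sel, zero_xor']

theorem testBit_e : ∀ i j : Fin 8, (e i).val.testBit j.val = decide (i = j) := by decide +kernel

theorem conj_sign (g h : K) (h1 : Perm.sign h.1 = 1) (h2 : Perm.sign h.2 = 1) :
    Perm.sign (g * h * g⁻¹).1 = 1 ∧ Perm.sign (g * h * g⁻¹).2 = 1 := by
  constructor
  · rw [Prod.fst_mul, Prod.fst_mul, map_mul, map_mul, h1, mul_one, ← map_mul, Prod.fst_inv,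
      mul_inv_cancel, map_one]
  · rw [Prod.snd_mul, Prod.snd_mul, map_mul, map_mul, h2, mul_one, ← map_mul, Prod.snd_inv,
      mul_inv_cancel, map_one]

theorem ga_gb_sign : Perm.sign ga.1 = 1 ∧ Perm.sign ga.2 = 1 ∧ Perm.sign gb.1 = 1 ∧
    Perm.sign gb.2 = 1 := by decide +kernel

theorem C_xor (v w : Vec) : C (v ^^^ w) = C v ^^^ C w := lin_xor _ v w

namespace Rep

variable {V : Type*} [AddCommGroup V] (D : Rep V)

theorem one_mem' : (1 : K) ∈ D.KI := one_mem _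

theorem ab_mem (p q : ℕ) : ga ^ p * gb ^ q ∈ D.KI :=
  mul_mem (pow_mem D.ga_mem _) (pow_mem D.gb_mem _)

theorem gen4_mem (j : Fin 4) : gen4 j ∈ D.KI := by
  fin_cases j
  exacts [D.gth_mem, D.ga_mem, D.gb_mem, D.gn_mem]

theorem even_mem {g : K} (h1 : Perm.sign g.1 = 1) (h2 : Perm.sign g.2 = 1) : g ∈ D.KI :=
  D.alt_le g h1 h2

theorem bw_mem (i : Fin 8) : bw i ∈ D.KI := D.even_mem (bw_sign i).1 (bw_sign i).2

theorem wmk_mem (m : Fin 3) (k : Fin 4) : wmk m k ∈ D.KI :=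
  mul_mem (pow_mem D.gth_mem _) (pow_mem D.gn_mem _)

theorem op_pow_succ {g : K} (hg : g ∈ D.KI) (n : ℕ) (v : V) :
    D.op (g ^ (n + 1)) v = D.op g (D.op (g ^ n) v) := by
  rw [pow_succ', D.op_mul _ hg _ (pow_mem hg n)]

theorem op_pow_fix {g : K} (hg : g ∈ D.KI) {v : V} (h : D.op g v = v) (n : ℕ) :
    D.op (g ^ n) v = v := by
  induction n with
  | zero => rw [pow_zero, D.op_one]
  | succ n ih => rw [D.op_pow_succ hg, ih, h]

theorem eigen_pow {g : K} (hg : g ∈ D.KI) (hc : g * gth = gth * g) {v : V} (h : D.op g v = D.op gth v)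
    (n : ℕ) : D.op (g ^ n) v = D.op (gth ^ n) v := by
  induction n with
  | zero => rw [pow_zero, pow_zero]
  | succ n ih =>
    have hc' : g * gth ^ n = gth ^ n * g := (Commute.pow_right hc n)
    rw [D.op_pow_succ hg, ih, ← D.op_mul _ hg _ (pow_mem D.gth_mem n), hc',
      D.op_mul _ (pow_mem D.gth_mem n) _ hg, h, ← D.op_mul _ (pow_mem D.gth_mem n) _ D.gth_mem,
      ← pow_succ]

/-- Fixed point freeness of `t` gives `1 + t + t² = 0`. -/
theorem t_sum (hfpf : ∀ v, D.op gth v = v → v = 0) (v : V) :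
    v + D.op gth v + D.op (gth ^ 2) v = 0 := by
  refine hfpf _ ?_
  have h3 : gth ^ 3 = 1 := K_relations.2.2.2.2.2.1
  have e1 : D.op gth (D.op gth v) = D.op (gth ^ 2) v := by
    rw [← D.op_mul _ D.gth_mem _ D.gth_mem, pow_two]
  have e2 : D.op gth (D.op (gth ^ 2) v) = v := by
    rw [← D.op_mul _ D.gth_mem _ (pow_mem D.gth_mem 2), ← pow_succ', h3, D.op_one]
  rw [D.op_add _ D.gth_mem, D.op_add _ D.gth_mem, e1, e2]
  abel

theorem op_sq (hfpf : ∀ v, D.op gth v = v → v = 0) (v : V) :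
    D.op (gth ^ 2) v = v + D.op gth v := by
  have h := D.t_sum hfpf v
  have h2 := D.two (v + D.op gth v)
  exact (add_left_cancel (h.trans h2.symm))

/-- The projection onto the eigenspace with `g = t^i`. -/
def part (g : K) (i : ℕ) (v : V) : V :=
  v + D.op (gth ^ (2 * i)) (D.op g v) + D.op (gth ^ i) (D.op (g ^ 2) v)

theorem part_eigen {g : K} (hg : g ∈ D.KI) (hc : g * gth = gth * g) (h3 : g ^ 3 = 1) (i : ℕ) (v : V) :
    D.op g (D.part g i v) = D.op (gth ^ i) (D.part g i v) := by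
  have ht : ∀ n, gth ^ n ∈ D.KI := fun n => pow_mem D.gth_mem n
  have hc' : ∀ n : ℕ, g * gth ^ n = gth ^ n * g := fun n => Commute.pow_right hc n
  have hpull : ∀ (n : ℕ) (x : V), D.op g (D.op (gth ^ n) x) = D.op (gth ^ n) (D.op g x) := fun n x => by
    rw [← D.op_mul _ hg _ (ht n), hc', D.op_mul _ (ht n) _ hg]
  have hgg : D.op g (D.op g v) = D.op (g ^ 2) v := by rw [← D.op_mul _ hg _ hg, pow_two]
  have hggg : D.op g (D.op (g ^ 2) v) = v := by
    rw [← D.op_mul _ hg _ (pow_mem hg 2), ← pow_succ', h3, D.op_one]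
  have ht3 : gth ^ (i + 2 * i) = 1 := by
    rw [show i + 2 * i = 3 * i by omega, pow_mul, K_relations.2.2.2.2.2.1, one_pow]
  have e1 : D.op (gth ^ i) (D.op (gth ^ (2 * i)) (D.op g v)) = D.op g v := by
    rw [← D.op_mul _ (ht _) _ (ht _), ← pow_add, ht3, D.op_one]
  have e2 : D.op (gth ^ i) (D.op (gth ^ i) (D.op (g ^ 2) v)) =
      D.op (gth ^ (2 * i)) (D.op (g ^ 2) v) := by
    rw [← D.op_mul _ (ht _) _ (ht _), ← pow_add, ← two_mul]
  unfold part
  rw [D.op_add _ hg, D.op_add _ hg, hpull, hpull, hgg, hggg, D.op_add _ (ht i), D.op_add _ (ht i), e1, e2]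
  abel

theorem part_sum (hfpf : ∀ v, D.op gth v = v → v = 0) (g : K) (v : V) :
    D.part g 0 v + D.part g 1 v + D.part g 2 v = v := by
  have h3 : gth ^ 3 = 1 := K_relations.2.2.2.2.2.1
  have h4 : gth ^ (2 * 2) = gth := by
    rw [show 2 * 2 = 3 + 1 from rfl, pow_add, h3, one_mul, pow_one]
  unfold part
  rw [Nat.mul_zero, pow_zero, D.op_one, D.op_one, Nat.mul_one, pow_one, h4]
  have s1 := D.t_sum hfpf (D.op g v)
  have s2 := D.t_sum hfpf (D.op (g ^ 2) v)
  calc _ = (v + v) + v + (D.op g v + D.op gth (D.op g v) + D.op (gth ^ 2) (D.op g v)) +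
        (D.op (g ^ 2) v + D.op gth (D.op (g ^ 2) v) + D.op (gth ^ 2) (D.op (g ^ 2) v)) := by abel
    _ = v := by rw [D.two, s1, s2, zero_add, add_zero, add_zero]

/-- The vectors with `a = t^i` and `b = t^j`. -/
def Eig (i j : ℕ) (e : V) : Prop :=
  e ≠ 0 ∧ D.op ga e = D.op (gth ^ i) e ∧ D.op gb e = D.op (gth ^ j) e

theorem exists_eig (hfpf : ∀ v, D.op gth v = v → v = 0) :
    ∃ i j e, i % 3 ≠ 0 ∧ j < 3 ∧ i < 3 ∧ D.Eig i j e := by
  obtain ⟨-, -, -, -, -, -, hat, hbt, hab, -⟩ := vectors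
  have ha3 : ga ^ 3 = 1 := K_relations.2.2.2.1
  have hb3 : gb ^ 3 = 1 := K_relations.2.2.2.2.1
  obtain ⟨v, hv⟩ : ∃ v, D.op ga v ≠ v := by
    by_contra h
    push Not at h
    exact (by decide +kernel : ga ≠ 1) (D.faithful ga D.ga_mem h)
  obtain ⟨i, hi, hi0, u, hu, hua⟩ : ∃ i, i < 3 ∧ i % 3 ≠ 0 ∧ ∃ u, u ≠ 0 ∧
      D.op ga u = D.op (gth ^ i) u := by
    by_contra h
    push Not at h
    have h1 : D.part ga 1 v = 0 := by
      by_contra hne
      exact h 1 (by norm_num) (by norm_num) _ hne (D.part_eigen D.ga_mem hat ha3 1 v)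
    have h2 : D.part ga 2 v = 0 := by
      by_contra hne
      exact h 2 (by norm_num) (by norm_num) _ hne (D.part_eigen D.ga_mem hat ha3 2 v)
    have hs := D.part_sum hfpf ga v
    rw [h1, h2, add_zero, add_zero] at hs
    have h0 := D.part_eigen D.ga_mem hat ha3 0 v
    rw [hs, pow_zero, D.op_one] at h0
    exact hv h0
  obtain ⟨j, hj, hne⟩ : ∃ j, j < 3 ∧ D.part gb j u ≠ 0 := by
    by_contra h
    push Not at h
    have hs := D.part_sum hfpf gb u
    rw [h 0 (by norm_num), h 1 (by norm_num), h 2 (by norm_num), add_zero, add_zero] at hs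
    exact hu hs.symm
  refine ⟨i, j, _, hi0, hj, hi, hne, ?_, D.part_eigen D.gb_mem hbt hb3 j u⟩
  have ht : ∀ n, gth ^ n ∈ D.KI := fun n => pow_mem D.gth_mem n
  have h1 : ∀ g ∈ D.KI, ga * g = g * ga → gth * g = g * gth → ∀ x : V,
      D.op ga x = D.op (gth ^ i) x → D.op ga (D.op g x) = D.op (gth ^ i) (D.op g x) := by
    intro g hg hag htg x hx
    rw [← D.op_mul _ D.ga_mem _ hg, hag, D.op_mul _ hg _ D.ga_mem, hx, ← D.op_mul _ hg _ (ht i),
      ← (Commute.pow_left htg i).eq, D.op_mul _ (ht i) _ hg]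
  have hc1 : ∀ n : ℕ, gth * gth ^ n = gth ^ n * gth := fun n => (Commute.self_pow gth n).eq
  unfold part
  rw [D.op_add _ D.ga_mem, D.op_add _ D.ga_mem, D.op_add _ (ht i), D.op_add _ (ht i), hua]
  congr 1
  · congr 1
    refine h1 _ (ht _) (Commute.pow_right hat _) (hc1 _) _ ?_
    exact h1 gb D.gb_mem hab hbt.symm u hua
  · refine h1 _ (ht _) (Commute.pow_right hat _) (hc1 _) _ ?_
    exact h1 _ (pow_mem D.gb_mem 2) (Commute.pow_right hab 2) (Commute.pow_right hbt.symm 2) u hua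

theorem eig_congr {i j i' j' : ℕ} {e : V} (h : D.Eig i j e) (hi : i % 3 = i' % 3) (hj : j % 3 = j' % 3) :
    D.Eig i' j' e := by
  have h3 : ∀ a b : ℕ, a % 3 = b % 3 → gth ^ a = gth ^ b := fun a b hab => by
    rw [pow_eq_pow_mod a K_relations.2.2.2.2.2.1, pow_eq_pow_mod b K_relations.2.2.2.2.2.1, hab]
  exact ⟨h.1, by rw [← h3 i i' hi]; exact h.2.1, by rw [← h3 j j' hj]; exact h.2.2⟩

theorem eig_gn {i j : ℕ} {e : V} (h : D.Eig i j e) : D.Eig (2 * j) i (D.op gn e) := by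
  obtain ⟨he, ha, hb⟩ := h
  obtain ⟨-, -, -, -, -, -, -, hbt, -, hnt⟩ := vectors
  have r1 : ga * gn = gn * gb ^ 2 := by decide +kernel
  have r2 : gb * gn = gn * ga := by decide +kernel
  have hnt' : ∀ n : ℕ, gn * gth ^ n = gth ^ n * gn := fun n => Commute.pow_right hnt n
  have hb2 : D.op (gb ^ 2) e = D.op (gth ^ (2 * j)) e := by
    rw [pow_two, D.op_mul _ D.gb_mem _ D.gb_mem, hb, ← D.op_mul _ D.gb_mem _ (pow_mem D.gth_mem j),
      (Commute.pow_right hbt j).eq, D.op_mul _ (pow_mem D.gth_mem j) _ D.gb_mem, hb,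
      ← D.op_mul _ (pow_mem D.gth_mem j) _ (pow_mem D.gth_mem j), ← pow_add, ← two_mul]
  refine ⟨fun h0 => he ?_, ?_, ?_⟩
  · have := congrArg (D.op gn⁻¹) h0
    rwa [D.op_inv_op D.gn_mem, D.op_zero (inv_mem D.gn_mem)] at this
  · rw [← D.op_mul _ D.ga_mem _ D.gn_mem, r1, D.op_mul _ D.gn_mem _ (pow_mem D.gb_mem 2), hb2,
      ← D.op_mul _ D.gn_mem _ (pow_mem D.gth_mem _), hnt', D.op_mul _ (pow_mem D.gth_mem _) _ D.gn_mem]
  · rw [← D.op_mul _ D.gb_mem _ D.gn_mem, r2, D.op_mul _ D.gn_mem _ D.ga_mem, ha,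
      ← D.op_mul _ D.gn_mem _ (pow_mem D.gth_mem _), hnt', D.op_mul _ (pow_mem D.gth_mem _) _ D.gn_mem]

theorem pull_fpf (hfpf : ∀ v, D.op gth v = v → v = 0) (ψ : Perm (Fin 6) ≃* Perm (Fin 6))
    (hψ : ∀ p, Perm.sign (ψ p) = Perm.sign p) :
    ∀ v, (D.pull ψ hψ).op gth v = v → v = 0 := fun v h => hfpf v (by
  have e : ((gth.1, ψ gth.2) : K) = gth := by
    rw [show gth.2 = 1 from rfl, map_one]
    exact rfl
  have : (D.pull ψ hψ).op gth v = D.op gth v := congrArg (fun g => D.op g v) e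
  rwa [this] at h)

/-- After an automorphism of the second factor some nonzero vector has `a = t` and `b = 1`. -/
theorem exists_base (hfpf : ∀ v, D.op gth v = v → v = 0) :
    ∃ (ψ : Perm (Fin 6) ≃* Perm (Fin 6)) (hψ : ∀ p, Perm.sign (ψ p) = Perm.sign p) (e : V),
      (D.pull ψ hψ).Eig 1 0 e := by
  obtain ⟨i, j, e, hi0, hj, hi, he⟩ := D.exists_eig hfpf
  rcases Nat.eq_zero_or_pos j with rfl | hj0
  · refine ⟨MulEquiv.refl _, fun _ => rfl, ?_⟩
    obtain rfl | rfl : i = 1 ∨ i = 2 := by omega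
    · exact ⟨e, he⟩
    · exact ⟨_, D.eig_congr (D.eig_gn (D.eig_gn he)) (by norm_num) (by norm_num)⟩
  obtain ⟨f, hf⟩ : ∃ f, D.Eig 1 1 f := by
    obtain ⟨rfl, rfl⟩ | ⟨rfl, rfl⟩ | ⟨rfl, rfl⟩ | ⟨rfl, rfl⟩ :
        (i = 1 ∧ j = 1) ∨ (i = 1 ∧ j = 2) ∨ (i = 2 ∧ j = 1) ∨ (i = 2 ∧ j = 2) := by omega
    · exact ⟨e, he⟩
    · exact ⟨_, D.eig_congr (D.eig_gn he) (by norm_num) (by norm_num)⟩
    · exact ⟨_, D.eig_congr (D.eig_gn (D.eig_gn (D.eig_gn he))) (by norm_num) (by norm_num)⟩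
    · exact ⟨_, D.eig_congr (D.eig_gn (D.eig_gn he)) (by norm_num) (by norm_num)⟩
  refine ⟨exotic, exotic_sign, ?_⟩
  obtain ⟨-, -, -, -, -, -, hat, hbt, -, -⟩ := vectors
  obtain ⟨hf0, hfa, hfb⟩ := hf
  rw [pow_one] at hfa hfb
  have hta : ∀ g : K, g = ga * gb → D.op g f = D.op (gth ^ 2) f := by
    rintro g rfl
    rw [D.op_mul _ D.ga_mem _ D.gb_mem, hfb, ← D.op_mul _ D.ga_mem _ D.gth_mem, hat,
      D.op_mul _ D.gth_mem _ D.ga_mem, hfa, ← D.op_mul _ D.gth_mem _ D.gth_mem, pow_two]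
  have htb : ∀ g : K, g = ga * gb ^ 2 → D.op g f = D.op (gth ^ 3) f := by
    rintro g rfl
    rw [D.op_mul _ D.ga_mem _ (pow_mem D.gb_mem 2), D.eigen_pow D.gb_mem hbt hfb,
      ← D.op_mul _ D.ga_mem _ (pow_mem D.gth_mem 2), (Commute.pow_right hat 2).eq,
      D.op_mul _ (pow_mem D.gth_mem 2) _ D.ga_mem, hfa,
      ← D.op_mul _ (pow_mem D.gth_mem 2) _ D.gth_mem, ← pow_succ]
  set D' := D.pull exotic exotic_sign with hD'
  have htn : ∀ (n : ℕ) (v : V), D'.op (gth ^ n) v = D.op (gth ^ n) v := fun n v => by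
    refine congrArg (fun g => D.op g v) (Prod.ext rfl ?_)
    show exotic ((gth ^ n).2) = (gth ^ n).2
    rw [Prod.pow_snd, show gth.2 = 1 from rfl, one_pow, map_one]
  have h : D'.Eig 2 0 f := by
    refine ⟨hf0, ?_, ?_⟩
    · rw [htn]
      exact hta _ (Prod.ext (mul_one 1).symm exotic_pa)
    · rw [htn, pow_zero, D.op_one]
      refine (htb _ (Prod.ext ?_ ?_)).trans (by rw [K_relations.2.2.2.2.2.1, D.op_one])
      · show (1 : Perm (Fin 3)) = 1 * ((gb ^ 2).1)
        rw [one_mul, Prod.pow_fst, show gb.1 = 1 from rfl, one_pow]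
      · show exotic pb = pa * (gb ^ 2).2
        rw [Prod.pow_snd, exotic_pb]
        exact rfl
  exact ⟨_, D'.eig_congr (D'.eig_gn (D'.eig_gn h)) (by norm_num) (by norm_num)⟩

/-- The sum of the vectors `bw i • e` over the bits of the coordinates. -/
def coordMap (e : V) (v : Vec) : V :=
  ∑ i : Fin 8, if (C v).val.testBit i.val then D.op (bw i) e else 0

theorem coordMap_xor (e : V) (v w : Vec) :
    D.coordMap e (v ^^^ w) = D.coordMap e v + D.coordMap e w := by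
  unfold coordMap
  rw [← Finset.sum_add_distrib]
  refine Finset.sum_congr rfl fun i _ => ?_
  rw [C_xor, xor_val, Nat.testBit_xor]
  cases (C v).val.testBit i.val <;> cases (C w).val.testBit i.val <;> simp [D.two]

theorem coordMap_Bm (e : V) (i : Fin 8) : D.coordMap e (Bm i) = D.op (bw i) e := by
  unfold coordMap
  rw [C_Bm, Finset.sum_eq_single i]
  · rw [testBit_e, decide_eq_true rfl, if_pos rfl]
  · intro j _ hj
    rw [testBit_e, decide_eq_false (fun h => hj h.symm)]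
    simp
  · simp

theorem map_zero' {f : Vec → V} (hf : ∀ v w, f (v ^^^ w) = f v + f w) : f 0 = 0 := by
  have h := hf 0 0
  rw [xor_self'] at h
  simpa using h

/-- An additive map on the model is determined by the adapted basis. -/
theorem ext_Bm {f g : Vec → V} (hf : ∀ v w, f (v ^^^ w) = f v + f w)
    (hg : ∀ v w, g (v ^^^ w) = g v + g w) (h : ∀ i, f (Bm i) = g (Bm i)) (v : Vec) : f v = g v := by
  have hs : ∀ k : Vec → V, (∀ v w, k (v ^^^ w) = k v + k w) → ∀ (u x : Vec) i,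
      k (sel u i x) = if u.val.testBit i then k x else 0 := fun k hk u x i => by
    unfold sel
    split_ifs with hb
    · rfl
    · exact map_zero' hk
  rw [← lin_Bm_C v]
  simp only [lin, hf, hg, hs f hf, hs g hg, h]

/-- The map `Φ` is equivariant at `g`. -/
def Equi (Φ : Vec → V) (g : K) : Prop := g ∈ D.KI ∧ ∀ v, D.op g (Φ v) = Φ (act g v)

theorem equi_one (Φ : Vec → V) : D.Equi Φ 1 := ⟨one_mem _, fun v => by rw [D.op_one, act_one]⟩

theorem equi_mul {Φ : Vec → V} {g h : K} (hg : D.Equi Φ g) (hh : D.Equi Φ h) : D.Equi Φ (g * h) :=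
  ⟨mul_mem hg.1 hh.1, fun v => by rw [D.op_mul _ hg.1 _ hh.1, hh.2, hg.2, act_mul]⟩

theorem equi_pow {Φ : Vec → V} {g : K} (hg : D.Equi Φ g) : ∀ n, D.Equi Φ (g ^ n)
  | 0 => by rw [pow_zero]; exact D.equi_one Φ
  | n + 1 => by rw [pow_succ]; exact D.equi_mul (equi_pow hg n) hg

theorem equi_inv {Φ : Vec → V} {g : K} (hg : D.Equi Φ g) : D.Equi Φ g⁻¹ := by
  refine ⟨inv_mem hg.1, fun v => ?_⟩
  have h := hg.2 (act g⁻¹ v)
  rw [← act_mul, mul_inv_cancel, act_one] at h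
  rw [← h, D.op_inv_op hg.1]

/-- The model element `h` describes `g` if both conjugate the adapted elements alike and agree on
the first basis vector. -/
theorem op_eq_of_conj (e : V) {g h : K} (hg : g ∈ D.KI)
    (hc : ∀ i, h * bw i * h⁻¹ = g * bw i * g⁻¹)
    (hE : ∀ i, D.Equi (D.coordMap e) (g * bw i * g⁻¹))
    (h19 : D.op g e = D.coordMap e (act h 19)) (v : Vec) :
    D.op g (D.coordMap e v) = D.coordMap e (act h v) := by
  refine ext_Bm (f := fun v => D.op g (D.coordMap e v)) (g := fun v => D.coordMap e (act h v))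
    (fun v w => by simp only [coordMap_xor, D.op_add g hg])
    (fun v w => by simp only [act_xor, coordMap_xor]) (fun i => ?_) v
  show D.op g (D.coordMap e (Bm i)) = D.coordMap e (act h (Bm i))
  rw [coordMap_Bm, ← D.op_conj hg (D.bw_mem i), h19, (hE i).2, ← hc i, ← act_mul,
    inv_mul_cancel_right, act_mul, ← Bm_eq]

/-- Coordinates for a base vector. -/
theorem coord_of_base (hfpf : ∀ v, D.op gth v = v → v = 0) {e : V} (he : D.Eig 1 0 e) :
    ∃ Φ : Vec ≃ V, (∀ v w, Φ (v ^^^ w) = Φ v + Φ w) ∧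
      (∀ g ∈ D.KI, ∀ v, D.op g (Φ v) = Φ (act g v)) ∧
      ∀ v, D.q (Φ v) = if Qf v then 1 else 0 := by
  classical
  obtain ⟨he0, hae, hbe⟩ := he
  rw [pow_one] at hae
  rw [pow_zero, D.op_one] at hbe
  obtain ⟨v19, v33, v50, n19, n33, n50, hat, hbt, hab, hnt⟩ := vectors
  have : Finite V := Nat.finite_of_card_ne_zero (by rw [D.card]; norm_num)
  set Φ := D.coordMap e with hΦ
  have hadd : ∀ v w, Φ (v ^^^ w) = Φ v + Φ w := D.coordMap_xor e
  have hB : ∀ i, Φ (Bm i) = D.op (bw i) e := D.coordMap_Bm e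
  have hΦ0 : Φ 0 = 0 := map_zero' hadd
  have h19 : Φ 19 = e := by
    have := hB 0
    rwa [Bm_eq, show bw 0 = 1 from rfl, act_one, D.op_one] at this
  have hb0 : ∀ i, D.op (bw i) e = Φ (act (bw i) 19) := fun i => by rw [← Bm_eq, hB]
  have hw : ∀ m k, D.op (wmk m k) e = Φ (act (wmk m k) 19) := by
    intro m k
    rcases wmk_cases m k with ⟨i, hi⟩ | ⟨i, j, hj, hji, hact⟩
    · rw [hi, hb0]
    · rw [hact, hadd, hB, hB, hj, hji, D.op_mul _ D.gth_mem _ (mul_mem D.gth_mem (D.bw_mem i)),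
        D.op_mul _ D.gth_mem _ (D.bw_mem i), ← D.op_mul _ D.gth_mem _ D.gth_mem, ← pow_two]
      exact D.op_sq hfpf _
  have hgood : ∀ j i, D.op (gen4 j * bw i) e = Φ (act (gen4 j * bw i) 19) := by
    intro j i
    obtain ⟨m, k, p, q, hd⟩ := gen4_decomp j i
    have hpq : D.op (ga ^ p.val * gb ^ q.val) e = D.op (gth ^ p.val) e := by
      rw [D.op_mul _ (pow_mem D.ga_mem _) _ (pow_mem D.gb_mem _), D.op_pow_fix D.gb_mem hbe,
        D.eigen_pow D.ga_mem hat hae]
    rw [hd, D.op_mul _ (D.wmk_mem m k) _ (D.ab_mem _ _), hpq,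
      ← D.op_mul _ (D.wmk_mem m k) _ (pow_mem D.gth_mem _), wmk_mul_gth, hw, ← wmk_mul_gth,
      act_mul, act_mul (wmk m k) (ga ^ p.val * gb ^ q.val), act_ab]
  have hE4 : ∀ j, D.Equi Φ (gen4 j) := fun j => ⟨D.gen4_mem j, fun v =>
    ext_Bm (f := fun v => D.op (gen4 j) (Φ v)) (g := fun v => Φ (act (gen4 j) v))
      (fun v w => by simp only [hadd, D.op_add _ (D.gen4_mem j)])
      (fun v w => by simp only [act_xor, hadd]) (fun i => by
        show D.op (gen4 j) (Φ (Bm i)) = Φ (act (gen4 j) (Bm i))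
        rw [hB, ← D.op_mul _ (D.gen4_mem j) _ (D.bw_mem i), hgood, act_mul, ← Bm_eq]) v⟩
  have hEt : D.Equi Φ gth := hE4 0
  have hEa : D.Equi Φ ga := hE4 1
  have hEb : D.Equi Φ gb := hE4 2
  have hEn : D.Equi Φ gn := hE4 3
  -- injectivity
  have hinj : Function.Injective Φ := by
    have hEw : ∀ n, D.Equi Φ (gth ^ n) := D.equi_pow hEt
    have hEA : ∀ n, D.Equi Φ (ga ^ n) := D.equi_pow hEa
    have hEB : ∀ n, D.Equi Φ (gb ^ n) := D.equi_pow hEb
    have key : ∀ v, Φ v = 0 → v = 0 := by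
      intro v hv
      rcases proj_detect v with h | ⟨k, hk⟩
      · exact h
      exfalso
      set x := act (gn ^ k.val) v with hx
      have hx0 : Φ x = 0 := by rw [hx, ← (D.equi_pow hEn k.val).2, hv, D.op_zero (pow_mem D.gn_mem _)]
      have hz : ∀ g, D.Equi Φ g → ∀ u, Φ u = 0 → Φ (act g u) = 0 := fun g hg u hu => by
        rw [← hg.2, hu, D.op_zero hg.1]
      have hw0 : Φ (x ^^^ act (gth ^ 2) (act ga x) ^^^ act gth (act (ga ^ 2) x)) = 0 := by
        rw [hadd, hadd, hx0, hz _ (hEw 2) _ (hz _ hEa _ hx0), hz _ hEt _ (hz _ (hEA 2) _ hx0),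
          add_zero, add_zero]
      have hp : Φ (proj x) = 0 := by
        unfold proj
        rw [hadd, hadd, hw0, hz _ hEb _ hw0, hz _ (hEB 2) _ hw0, add_zero, add_zero]
      have hne : ∀ g, D.Equi Φ g → Φ (act g 19) ≠ 0 := fun g hg h => he0 (by
        rw [← hg.2, h19] at h
        have := congrArg (D.op g⁻¹) h
        rwa [D.op_inv_op hg.1, D.op_zero (inv_mem hg.1)] at this)
      rcases hk with hk | hk | hk <;> rw [hk] at hp
      · exact hne 1 (D.equi_one Φ) (by rw [act_one]; exact hp)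
      · exact hne gth hEt (by rw [v33]; exact hp)
      · exact hne _ (hEw 2) (by rw [v50]; exact hp)
    intro v w h
    exact eq_of_xor_eq_zero (key _ (by rw [hadd, h, D.two]))
  have hbij : Function.Bijective Φ :=
    (Nat.bijective_iff_injective_and_card Φ).2 ⟨hinj, by rw [D.card, Nat.card_fin]⟩
  -- the element `r`
  have hEwmk : ∀ m k, D.Equi Φ (wmk m k) := fun m k =>
    D.equi_mul (D.equi_pow hEt _) (D.equi_pow hEn _)
  have hEr : ∀ i, D.Equi Φ (gr * bw i * gr⁻¹) := fun i => by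
    obtain ⟨m, k, h⟩ := gr_conj i
    rw [h]
    exact hEwmk m k
  obtain ⟨x, hx⟩ := hbij.2 (D.op gr e)
  have hRX : ∀ v, D.op gr (Φ v) = Φ (RX x v) := by
    intro v
    refine ext_Bm (f := fun v => D.op gr (Φ v)) (g := fun v => Φ (RX x v))
      (fun v w => by simp only [hadd, D.op_add _ D.gr_mem])
      (fun v w => by simp only [RX, C_xor, lin_xor, hadd]) (fun i => ?_) v
    show D.op gr (Φ (Bm i)) = Φ (RX x (Bm i))
    rw [hB, ← D.op_conj D.gr_mem (D.bw_mem i), ← hx, (hEr i).2, RX, C_Bm, lin_e]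
  have hgg : ∀ g ∈ D.KI, ∀ u, D.op gr (D.op g u) = D.op (gr * g) u := fun g hg u =>
    (D.op_mul _ D.gr_mem _ hg u).symm
  have hxr : x = act gr 19 := by
    refine RX_unique x (fun i => hinj ?_) (fun i => hinj ?_)
    · rw [← hRX, ← hRX, ← D.op_mul _ D.gr_mem _ D.gr_mem, K_relations.1, D.op_one]
    · rw [← hRX, ← hEa.2, ← hEb.2, ← hRX, ← hEa.2, ← hEb.2, ← hRX, ← hEa.2, ← hEb.2]
      have hm : ga * gb ∈ D.KI := mul_mem D.ga_mem D.gb_mem
      simp only [← D.op_mul _ D.ga_mem _ D.gb_mem, ← D.op_mul _ D.gr_mem _ hm]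
      rw [← D.op_mul _ (mul_mem D.gr_mem hm) _ (mul_mem D.gr_mem hm),
        ← D.op_mul _ (mul_mem (mul_mem D.gr_mem hm) (mul_mem D.gr_mem hm)) _ (mul_mem D.gr_mem hm),
        ← pow_two, ← pow_succ, K_relations.2.1, D.op_one]
  have hErr : D.Equi Φ gr :=
    ⟨D.gr_mem, D.op_eq_of_conj e D.gr_mem (fun i => rfl) hEr (by rw [← hx, hxr])⟩
  -- the even part
  have hEv : ∀ g : K, Perm.sign g.1 = 1 → Perm.sign g.2 = 1 → D.Equi Φ g := by
    intro g h1 h2
    let H : Subgroup (Perm (Fin 6)) :=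
      { carrier := {p | D.Equi Φ ((1, p) : K)}
        one_mem' := D.equi_one Φ
        mul_mem' := fun {p p'} hp hp' => by
          show D.Equi Φ ((1, p * p') : K)
          have := D.equi_mul hp hp'
          rwa [Prod.mk_mul_mk, one_mul] at this
        inv_mem' := fun {p} hp => by
          show D.Equi Φ ((1, p⁻¹) : K)
          have := D.equi_inv hp
          rwa [Prod.inv_mk, inv_one] at this }
    have h6 : g.2 ∈ H := ExtraNine.alt_le H (fun i => by
      fin_cases i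
      exacts [hEa, hEb, hEn, hErr]) (Perm.mem_alternatingGroup.2 h2)
    obtain ⟨⟨m, hm⟩, -⟩ := sign_three g.1 h1
    have := D.equi_mul (D.equi_pow hEt m.val) h6
    have e : gth ^ m.val * ((1, g.2) : K) = g := by
      refine Prod.ext ?_ ?_
      · rw [Prod.fst_mul, Prod.pow_fst, mul_one, ← hm]
      · rw [Prod.snd_mul, Prod.pow_snd, show gth.2 = 1 from rfl, one_pow, one_mul]
    rwa [e] at this
  have hEc : ∀ (g : K) i, D.Equi Φ (g * bw i * g⁻¹) := fun g i =>
    hEv _ (conj_sign g _ (bw_sign i).1 (bw_sign i).2).1 (conj_sign g _ (bw_sign i).1 (bw_sign i).2).2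
  obtain ⟨sa1, sa2, sb1, sb2⟩ := ga_gb_sign
  have ht_comm : ∀ g : K, Perm.sign g.1 = 1 → ∀ n : ℕ, g * gth ^ n = gth ^ n * g := by
    intro g h1 n
    refine Commute.pow_right (Prod.ext (sign_three g.1 h1).2 ?_) n
    rw [Prod.snd_mul, Prod.snd_mul, show gth.2 = 1 from rfl, mul_one, one_mul]
  have hconj : ∀ (g : K) (m : ℕ) i, (gth ^ m * g) * bw i * (gth ^ m * g)⁻¹ = g * bw i * g⁻¹ := by
    intro g m i
    have hs := (conj_sign g _ (bw_sign i).1 (bw_sign i).2).1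
    calc (gth ^ m * g) * bw i * (gth ^ m * g)⁻¹
        = gth ^ m * (g * bw i * g⁻¹) * (gth ^ m)⁻¹ := by group
      _ = _ := by rw [← ht_comm _ hs, mul_inv_cancel_right]
  -- the part centralising `t`
  have hgs : gs ∈ D.KI → D.Equi Φ gs := by
    intro hmem
    obtain ⟨y, hy⟩ := hbij.2 (D.op gs e)
    obtain ⟨hss, hs1, hs2, hst⟩ := gs_facts
    have ha' : D.Equi Φ (gs * ga * gs⁻¹) :=
      hEv _ (conj_sign gs _ sa1 sa2).1 (conj_sign gs _ sa1 sa2).2
    have hb' : D.Equi Φ (gs * gb * gs⁻¹) :=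
      hEv _ (conj_sign gs _ sb1 sb2).1 (conj_sign gs _ sb1 sb2).2
    have hy0 : y ≠ 0 := fun h => he0 (by
      rw [h, hΦ0] at hy
      have := congrArg (D.op gs⁻¹) hy
      rwa [D.op_inv_op hmem, D.op_zero (inv_mem hmem), eq_comm] at this)
    rcases outer_candidates.1 y
      (hinj (by rw [← ha'.2, ← hEt.2, hy, D.op_conj hmem D.ga_mem, hae,
        ← D.op_conj hmem D.gth_mem, hst]))
      (hinj (by rw [← hb'.2, hy, D.op_conj hmem D.gb_mem, hbe])) with h | ⟨m, hm⟩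
    · exact absurd h hy0
    have h19' : D.op gs e = Φ (act (gth ^ m.val * gs) 19) := by rw [← hy, hm, act_mul]
    have hf : ∀ v, D.op gs (Φ v) = Φ (act (gth ^ m.val * gs) v) :=
      D.op_eq_of_conj e hmem (hconj gs m.val) (fun i => hEc gs i) h19'
    have hm0 : m = 0 := by
      refine outer_candidates.2.2 m (hinj ?_)
      have := hf (act (gth ^ m.val * gs) 19)
      rw [← h19', ← D.op_mul _ hmem _ hmem, hss, D.op_one, act_mul, act_mul] at this
      rw [h19]
      exact this.symm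
    subst hm0
    refine ⟨hmem, fun v => ?_⟩
    rw [hf v, Fin.val_zero, pow_zero, one_mul]
  have hE1 : ∀ g ∈ D.KI, Perm.sign g.1 = 1 → D.Equi Φ g := by
    intro g hg h1
    rcases Int.units_eq_one_or (Perm.sign g.2) with h2 | h2
    · exact hEv g h1 h2
    have he' := hEv (g * gs) (by simp [h1, gs_facts.2.1]) (by simp [h2, gs_facts.2.2.1])
    have hmem : gs ∈ D.KI := by simpa using mul_mem (inv_mem hg) he'.1
    have := D.equi_mul he' (hgs hmem)
    rwa [mul_assoc, gs_facts.1, mul_one] at this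
  -- an element inverting `t`
  obtain ⟨g0, hg0, hs0⟩ := D.odd
  obtain ⟨k, hk2⟩ : ∃ k : Fin 2, Perm.sign (gt k).2 = Perm.sign g0.2 := by
    rcases Int.units_eq_one_or (Perm.sign g0.2) with h2 | h2
    · exact ⟨0, by rw [h2]; decide +kernel⟩
    · exact ⟨1, by rw [h2]; decide +kernel⟩
  obtain ⟨hk1, hkt, -⟩ := gt_facts k
  have hmem : gt k ∈ D.KI := by
    have := D.even_mem (g := g0⁻¹ * gt k) (by simp [Perm.sign_inv, hs0, hk1])
      (by simp [Perm.sign_inv, hk2, Int.units_mul_self])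
    simpa using mul_mem hg0 this
  obtain ⟨y, hy⟩ := hbij.2 (D.op (gt k) e)
  have hy0 : y ≠ 0 := fun h => he0 (by
    rw [h, hΦ0] at hy
    have := congrArg (D.op (gt k)⁻¹) hy
    rwa [D.op_inv_op hmem, D.op_zero (inv_mem hmem), eq_comm] at this)
  have hca : D.Equi Φ (gt k * ga * (gt k)⁻¹) :=
    hEv _ (conj_sign (gt k) _ sa1 sa2).1 (conj_sign (gt k) _ sa1 sa2).2
  have hcb : D.Equi Φ (gt k * gb * (gt k)⁻¹) :=
    hEv _ (conj_sign (gt k) _ sb1 sb2).1 (conj_sign (gt k) _ sb1 sb2).2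
  rcases outer_candidates.2.1 k y
    (hinj (by rw [← hca.2, ← (D.equi_pow hEt 2).2, hy, D.op_conj hmem D.ga_mem, hae,
      ← D.op_conj hmem D.gth_mem, hkt]))
    (hinj (by rw [← hcb.2, hy, D.op_conj hmem D.gb_mem, hbe])) with h | ⟨m, hm⟩
  · exact absurd h hy0
  have hf : ∀ v, D.op (gt k) (Φ v) = Φ (act (gth ^ m.val * gt k) v) :=
    D.op_eq_of_conj e hmem (hconj (gt k) m.val) (fun i => hEc (gt k) i)
    (by rw [← hy, hm, act_mul])
  -- reparametrise
  set j := 2 * m.val with hj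
  let T : Vec ≃ Vec :=
    { toFun := act (gth ^ j)
      invFun := act (gth ^ j)⁻¹
      left_inv := fun v => by rw [← act_mul, inv_mul_cancel, act_one]
      right_inv := fun v => by rw [← act_mul, mul_inv_cancel, act_one] }
  let Ψ : Vec ≃ V := T.trans (Equiv.ofBijective Φ hbij)
  have hΨ : ∀ v, Ψ v = Φ (act (gth ^ j) v) := fun v => rfl
  have hΨadd : ∀ v w, Ψ (v ^^^ w) = Ψ v + Ψ w := fun v w => by simp only [hΨ, act_xor, hadd]
  have hF1 : ∀ g ∈ D.KI, Perm.sign g.1 = 1 → ∀ v, D.op g (Ψ v) = Ψ (act g v) := fun g hg h1 v => by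
    rw [hΨ, hΨ, (hE1 g hg h1).2, ← act_mul, ht_comm g h1, act_mul]
  have hFt : ∀ v, D.op (gt k) (Ψ v) = Ψ (act (gt k) v) := fun v => by
    rw [hΨ, hΨ, hf, ← act_mul, ← act_mul, gt_reparam]
  have hall : ∀ g ∈ D.KI, ∀ v, D.op g (Ψ v) = Ψ (act g v) := by
    intro g hg v
    rcases Int.units_eq_one_or (Perm.sign g.1) with h1 | h1
    · exact hF1 g hg h1 v
    have hg' : g * (gt k)⁻¹ ∈ D.KI := mul_mem hg (inv_mem hmem)
    calc D.op g (Ψ v) = D.op (g * (gt k)⁻¹) (D.op (gt k) (Ψ v)) := by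
          rw [← D.op_mul _ hg' _ hmem, inv_mul_cancel_right]
      _ = Ψ (act g v) := by
          rw [hFt, hF1 _ hg' (by simp [Perm.sign_inv, h1, hk1]), ← act_mul, inv_mul_cancel_right]
  refine ⟨Ψ, hΨadd, hall, ?_⟩
  -- the form
  let f : Vec → Bool := fun v => decide (D.q (Ψ v) = 1)
  have hfq : ∀ v, D.q (Ψ v) = if f v then 1 else 0 := fun v => by
    have h01 : ∀ a : ZMod 2, a = if decide (a = 1) then 1 else 0 := by decide
    exact h01 _
  have hinv : ∀ g ∈ D.KI, ∀ v, f (act g v) = f v := fun g hg v => by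
    show decide _ = decide _
    rw [← hall g hg, D.q_op g hg]
  have hword : ∀ (l : List (Fin 5)) u, f (l.foldr (fun i x => act (gen5 i) x) u) = f u := by
    intro l u
    induction l with
    | nil => rfl
    | cons i l ih => rw [List.foldr_cons, hinv _ (D.gen5_mem i), ih]
  have hΨ0 : Ψ 0 = 0 := map_zero' hΨadd
  have hform : ∀ v, f v = orbitFun (f 1) (f 20) (f 18) v := by
    intro v
    by_cases hv : v = 0
    · subst hv
      show decide _ = _
      rw [hΨ0, D.q_zero]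
      rfl
    rcases orbit_cover v with h | ⟨hR, hQ, p, -, -, hp⟩ | ⟨hR, hQ, p, -, -, hp⟩ | ⟨hR, hQ, p, -, -, hp⟩
    · exact absurd h hv
    all_goals
      rw [← congrArg f hp, hword]
      simp [orbitFun, hv, hR, hQ]
  have hcubic : ∀ x y w, cubic f x y w = false := by
    intro x y w
    have h := D.polar_add (Ψ x) (Ψ y) (Ψ w)
    simp only [← hΨadd, hfq] at h
    unfold cubic
    revert h
    generalize f (x ^^^ y ^^^ w) = b1
    generalize f (x ^^^ y) = b2
    generalize f (y ^^^ w) = b3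
    generalize f (x ^^^ w) = b4
    generalize f x = b5
    generalize f y = b6
    generalize f w = b7
    revert b1 b2 b3 b4 b5 b6 b7
    decide
  have hcubic' : ∀ (x : Vec) (i i' : Fin 8), cubic (orbitFun (f 1) (f 20) (f 18)) x (ExtraNine.e i) (ExtraNine.e i') = false := by
    intro x i i'
    rw [← funext hform]
    exact hcubic _ _ _
  rcases form_unique (f 1) (f 20) (f 18) hcubic' with h | h
  · exfalso
    refine he0 (D.nondeg e fun y => ?_)
    have hq0 : ∀ w, D.q w = 0 := fun w => by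
      rw [← Ψ.apply_symm_apply w, hfq, hform, h]
      rfl
    rw [hq0, hq0, hq0, add_zero, add_zero]
  · intro v
    rw [hfq, hform, h]

end Rep

/-- Coordinates. -/
theorem exists_coord {V : Type*} [AddCommGroup V] [Finite V] (D : Rep V)
    (hfpf : ∀ v, D.op gth v = v → v = 0) :
    ∃ (ψ : Perm (Fin 6) ≃* Perm (Fin 6)) (hψ : ∀ p, Perm.sign (ψ p) = Perm.sign p) (Φ : Vec ≃ V),
      (∀ v w, Φ (v ^^^ w) = Φ v + Φ w) ∧
      (∀ g ∈ (D.pull ψ hψ).KI, ∀ v, (D.pull ψ hψ).op g (Φ v) = Φ (act g v)) ∧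
      ∀ v, D.q (Φ v) = if Qf v then 1 else 0 := by
  obtain ⟨ψ, hψ, e, he⟩ := D.exists_base hfpf
  obtain ⟨Φ, h1, h2, h3⟩ := (D.pull ψ hψ).coord_of_base (D.pull_fpf hfpf ψ hψ) he
  exact ⟨ψ, hψ, Φ, h1, h2, h3⟩

end CfsgLib.Characterizations.ExtraNine
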