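import Cfsg.Agent.Lib.Characterizations.ExtraNine.Model
import Mathlib.GroupTheory.SpecificGroups.Alternating.Simple

/-!
Elements of `S₃ × A₆`, generation, and finite facts about the eight dimensional model.
-/

set_option autoImplicit false

namespace CfsgLib.Characterizations.ExtraNine

open Equiv

/-- The generator of order three of the first factor. -/
def gth : K := (swap 0 1 * swap 1 2, 1)
/-- `(0 1 2)`. -/
def pa : Perm (Fin 6) := swap 0 1 * swap 1 2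
/-- `(3 4 5)`. -/
def pb : Perm (Fin 6) := swap 3 4 * swap 4 5
/-- `(0 3 1 4)(2 5)`. -/
def pn : Perm (Fin 6) := swap 0 3 * swap 3 1 * swap 1 4 * swap 2 5
/-- `(0 3)(1 4)`. -/
def pr : Perm (Fin 6) := swap 0 3 * swap 1 4
/-- The four generators of `A₆` in the group. -/
def ga : K := (1, pa)
@[inherit_doc ga] def gb : K := (1, pb)
@[inherit_doc ga] def gn : K := (1, pn)
@[inherit_doc ga] def gr : K := (1, pr)

/-- The generators by number. -/
def gen : Fin 4 → Perm (Fin 6) := ![pa, pb, pn, pr]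

/-- The product of a word. -/
def word (w : List (Fin 4)) : Perm (Fin 6) := (w.map gen).prod

/-- Ninety-one words with different values. -/
def words : List (List (Fin 4)) := [[], [0], [1], [2], [3], [0, 0], [0, 1], [0, 2], [0, 3], [1, 1], [1, 2], [1, 3], [2, 1], [2, 2], [2, 3], [3, 0], [3, 1], [3, 2], [0, 0, 1], [0, 0, 3], [0, 1, 1], [0, 1, 2], [0, 1, 3], [0, 2, 2], [0, 2, 3], [0, 3, 0], [0, 3, 1], [0, 3, 2], [1, 1, 2], [1, 1, 3], [1, 2, 1], [1, 2, 2], [1, 2, 3], [1, 3, 0], [1, 3, 1], [1, 3, 2], [2, 1, 2], [2, 1, 3], [2, 2, 1], [2, 2, 2], [2, 2, 3], [2, 3, 0], [2, 3, 1], [3, 0, 0], [3, 0, 1], [3, 0, 2], [3, 0, 3], [3, 1, 1], [3, 1, 2], [3, 1, 3], [3, 2, 1], [0, 0, 1, 1], [0, 0, 1, 3], [0, 0, 3, 0], [0, 0, 3, 1], [0, 0, 3, 2], [0, 1, 1, 2], [0, 1, 1, 3], [0, 1, 2, 2], [0, 1, 2, 3], [0, 1, 3, 0], [0, 1, 3, 1], [0, 1, 3, 2], [0, 2, 2, 1], [0, 2, 2, 2], [0, 2, 2, 3], [0, 2, 3, 1], [0, 3, 0, 0],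 [0, 3, 0, 1], [0, 3, 0, 2], [0, 3, 0, 3], [0, 3, 1, 1], [0, 3, 1, 2], [0, 3, 1, 3], [0, 3, 2, 1], [1, 1, 2, 1], [1, 1, 2, 3], [1, 1, 3, 0], [1, 1, 3, 1], [1, 1, 3, 2], [1, 2, 1, 2], [1, 2, 1, 3], [1, 2, 2, 2], [1, 2, 2, 3], [1, 2, 3, 0], [1, 2, 3, 1], [1, 3, 0, 0], [1, 3, 0, 1], [1, 3, 0, 2], [1, 3, 0, 3], [1, 3, 1, 1]]

theorem words_nodup : (words.map word).Nodup ∧ words.length = 91 := by decide +kernel

theorem gen_sign : ∀ i, Perm.sign (gen i) = 1 := by decide +kernel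

theorem gen_mem (i : Fin 4) : gen i ∈ alternatingGroup (Fin 6) := Perm.mem_alternatingGroup.2 (gen_sign i)

theorem card_alt : Nat.card (alternatingGroup (Fin 6)) = 360 := by
  rw [nat_card_alternatingGroup, Nat.card_fin]; rfl

/-- `A₆` has no proper subgroup of index at most five. -/
theorem eq_top_of_index (H : Subgroup (alternatingGroup (Fin 6))) (h : H.index ≤ 5) : H = ⊤ := by
  haveI := alternatingGroup.isSimpleGroup (α := Fin 6) (by simp)
  rcases (inferInstance : H.normalCore.Normal).eq_bot_or_eq_top with e | e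
  · exfalso
    have hd : Nat.card (alternatingGroup (Fin 6)) ∣ H.index.factorial := by
      rw [Subgroup.normalCore_eq_ker] at e
      let f := MulAction.toPermHom (alternatingGroup (Fin 6)) (alternatingGroup (Fin 6) ⧸ H)
      have := Subgroup.card_dvd_of_injective f ((MonoidHom.ker_eq_bot_iff f).1 e)
      rwa [Nat.card_perm, ← Subgroup.index_eq_card] at this
    have h0 : H.index ≠ 0 := Subgroup.index_ne_zero_of_finite
    rw [card_alt] at hd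
    have h2 : H.index.factorial ≤ 120 := (Nat.factorial_le h).trans (by decide)
    have := Nat.le_of_dvd (Nat.factorial_pos _) hd
    omega
  · exact eq_top_iff.2 (e ▸ H.normalCore_le)

/-- A subgroup containing the four generators contains `A₆`. -/
theorem alt_le (H : Subgroup (Perm (Fin 6))) (h : ∀ i, gen i ∈ H) {p : Perm (Fin 6)}
    (hp : p ∈ alternatingGroup (Fin 6)) : p ∈ H := by
  classical
  have hw : ∀ w : List (Fin 4), word w ∈ H ∧ word w ∈ alternatingGroup (Fin 6) := fun w =>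
    ⟨list_prod_mem (by simp [h]), list_prod_mem (by simpa [← Equiv.Perm.mem_alternatingGroup] using fun a (_ : a ∈ w) => gen_mem a)⟩
  set H' := H.subgroupOf (alternatingGroup (Fin 6)) with hH'
  have h91 : 91 ≤ Nat.card H' := by
    let f : Fin 91 → H' := fun i =>
      ⟨⟨word (words.get (i.cast words_nodup.2.symm)), (hw _).2⟩, (hw _).1⟩
    have hf : Function.Injective f := fun i j e => by
      have e' : word (words.get (i.cast words_nodup.2.symm)) =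
          word (words.get (j.cast words_nodup.2.symm)) := congrArg (fun x : H' => ((x : _) : Perm (Fin 6))) e
      have hl : (words.map word).length = 91 := by rw [List.length_map, words_nodup.2]
      have := (List.nodup_iff_injective_get.1 words_nodup.1) (a₁ := i.cast hl.symm) (a₂ := j.cast hl.symm)
        (by simpa using e')
      exact Fin.ext (by simpa using congrArg Fin.val this)
    simpa using Nat.card_le_card_of_injective f hf
  have hi := H'.card_mul_index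
  rw [card_alt] at hi
  have : H'.index ≤ 5 := by
    by_contra h5
    push Not at h5
    have : 91 * 6 ≤ 360 := hi ▸ Nat.mul_le_mul h91 h5
    omega
  have htop := eq_top_of_index H' this
  exact (htop.ge (Subgroup.mem_top (⟨p, hp⟩ : alternatingGroup (Fin 6))) : _)

/-- Words for the orbit of `1`. -/
def orbit45 : List (Vec × List (Fin 5)) := [(1, []), (2, [1]), (3, [1, 1]), (4, [4, 1, 1]), (5, [3, 1]),
    (6, [2, 4, 3, 1]), (7, [1, 4, 1, 1]), (8, [3]), (9, [2, 4, 1]), (10, [3, 4, 1]),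
    (11, [4, 3, 1]), (12, [4, 1]), (13, [3, 1, 1]), (14, [1, 1, 4, 1]), (15, [1, 4, 1]),
    (16, [0]), (17, [0, 0]), (32, [1, 0]), (34, [1, 0, 0]), (48, [1, 1, 0]),
    (51, [1, 1, 0, 0]), (64, [4, 1, 1, 0]), (68, [4, 1, 1, 0, 0]), (80, [3, 1, 0]), (85, [3, 1, 0, 0]),
    (96, [2, 4, 3, 1, 0]), (102, [2, 4, 3, 1, 0, 0]), (112, [1, 4, 1, 1, 0]), (119, [1, 4, 1, 1, 0, 0]), (128, [3, 0]),
    (136, [3, 0, 0]), (144, [2, 4, 1, 0]), (153, [2, 4, 1, 0, 0]), (160, [3, 4, 1, 0]), (170, [3, 4, 1, 0, 0]),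
    (176, [4, 3, 1, 0]), (187, [4, 3, 1, 0, 0]), (192, [4, 1, 0]), (204, [4, 1, 0, 0]), (208, [3, 1, 1, 0]),
    (221, [3, 1, 1, 0, 0]), (224, [1, 1, 4, 1, 0]), (238, [1, 1, 4, 1, 0, 0]), (240, [1, 4, 1, 0]), (255, [1, 4, 1, 0, 0])]

/-- Words for the orbit of `20`. -/
def orbit90 : List (Vec × List (Fin 5)) := [(20, []), (21, [4, 3]), (24, [1, 3, 0]), (25, [2, 2]), (28, [2]),
    (29, [3, 4]), (37, [1, 4, 3]), (39, [1]), (40, [3, 2, 0]), (42, [2, 2, 1]),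
    (45, [1, 3, 4]), (47, [2, 1]), (53, [3, 1, 0]), (54, [1, 1]), (56, [3, 0]),
    (59, [4, 0, 0]), (61, [3, 2, 4]), (62, [2, 1, 1]), (65, [4, 3, 0]), (69, [0, 0]),
    (74, [2, 2, 4, 1]), (75, [4, 3, 1, 0]), (78, [4, 2, 1, 1]), (79, [4, 1, 1]), (81, [0]),
    (82, [1, 0]), (83, [2, 4]), (84, [1, 3, 1]), (86, [3, 1]), (87, [3, 2, 1]),
    (99, [3, 1, 0, 0]), (101, [2, 4, 0]), (105, [2, 4, 1, 0]), (106, [2, 4, 3, 1]), (108, [2, 4, 2, 4]),
    (111, [4, 1, 4, 1]), (114, [1, 4, 3, 0]), (117, [1, 0, 0]), (121, [2, 4, 2, 1, 0]), (123, [4, 1, 0, 0]),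
    (124, [4, 1, 4, 3, 0]), (126, [1, 4, 1, 1]), (129, [1, 4]), (130, [4, 2]), (131, [4]),
    (137, [1, 3]), (138, [3, 2]), (139, [3]), (145, [1, 3, 0, 0]), (150, [4, 2, 4, 1]),
    (151, [3, 2, 4, 1]), (152, [1, 4, 0]), (158, [2, 4, 2, 1]), (159, [2, 4, 1]), (162, [3, 2, 0, 0]),
    (164, [4, 2, 2, 4]), (166, [3, 4, 1]), (168, [4, 2, 0]), (172, [4, 2, 1, 0]), (174, [4, 3, 1, 1]),
    (179, [3, 0, 0]), (180, [4, 2, 4]), (183, [3, 4, 1, 1]), (184, [4, 0]), (188, [4, 1, 0]),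
    (191, [4, 3, 1]), (193, [3, 4, 0]), (198, [4, 2, 1]), (199, [4, 1]), (202, [3, 4, 1, 0]),
    (203, [4, 1, 4, 3]), (205, [2, 0, 0]), (209, [2, 0]), (210, [2, 1, 0]), (211, [2, 2, 4]),
    (220, [3, 4, 0, 0]), (222, [3, 1, 1]), (223, [3, 2, 1, 1]), (227, [3, 2, 4, 0]), (228, [1, 1, 4, 1]),
    (231, [1, 1, 4, 2, 1]), (233, [3, 2, 4, 1, 0]), (234, [4, 2, 2, 4, 0]), (237, [2, 2, 4, 0]), (242, [1, 3, 4, 0]),
    (244, [1, 4, 2, 1]), (246, [1, 4, 1]), (249, [4, 2, 4, 1, 0]), (251, [4, 2, 4, 0]), (253, [2, 1, 0, 0])]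

/-- Words for the orbit of `18`. -/
def orbit120 : List (Vec × List (Fin 5)) := [(18, []), (19, [3, 3]), (22, [2, 4, 3]), (23, [3, 1, 4]), (26, [3, 4]),
    (27, [4, 3]), (30, [2, 2, 4, 3]), (31, [3, 1, 1, 4]), (33, [3, 3, 0]), (35, [1]),
    (36, [2, 1, 4, 3]), (38, [1, 3, 1, 4]), (41, [1, 4, 3]), (43, [1, 3, 4]), (44, [2, 2, 1, 4, 3]),
    (46, [1, 3, 1, 1, 4]), (49, [0]), (50, [3, 3, 1]), (52, [3, 2, 1, 4]), (55, [2, 1, 1, 4, 3]),
    (57, [3, 2, 4]), (58, [1, 1, 4, 3]), (60, [3, 2, 1, 1, 4]), (63, [4, 2, 1, 4, 3, 1]), (66, [1, 3, 1, 4, 0]),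
    (67, [4, 3, 2, 1, 4]), (70, [2, 1, 4, 3, 1]), (71, [3, 2, 1, 4, 1]), (72, [4, 0]), (73, [2, 2, 4, 1]),
    (76, [4, 3, 3, 1]), (77, [3, 3, 2, 4, 0]), (88, [3, 3, 3, 0]), (89, [2, 4]), (90, [2, 1, 4]),
    (91, [2, 1, 1, 4]), (92, [2, 4, 3, 3]), (93, [3, 1]), (94, [3, 1, 3, 1, 4]), (95, [2, 1, 4, 3, 3]),
    (97, [3, 1, 4, 0]), (98, [2, 1, 4, 3, 0]), (100, [2, 4, 2, 4]), (103, [2, 4, 3, 1]), (104, [1, 1, 4, 0]),
    (107, [4, 2, 1, 4, 0]), (109, [3, 3, 2, 1, 4, 0]), (110, [3, 3, 1, 4, 1]), (113, [2, 4, 3, 0]), (115, [3, 2, 1, 4, 0]),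
    (116, [4, 3, 2, 1, 4, 0]), (118, [3, 1, 4, 1]), (120, [1, 4, 0]), (122, [2, 2, 1, 4, 1]), (125, [1, 3, 3, 2, 4, 0]),
    (127, [1, 4, 3, 3, 1]), (132, [4, 3, 3]), (133, [3]), (134, [3, 3, 1, 4]), (135, [1, 4, 3, 3]),
    (140, [4]), (141, [3, 3, 3]), (142, [1, 1, 4]), (143, [1, 4]), (146, [1, 3, 4, 0]),
    (147, [1, 1, 4, 3, 0]), (148, [3, 3, 2, 4, 1]), (149, [2, 4, 3, 3, 0]), (154, [3, 2, 4, 1]), (155, [1, 4, 3, 1]),
    (156, [2, 4, 1]), (157, [2, 2, 4, 0]), (161, [4, 3, 0]), (163, [3, 2, 4, 0]), (165, [2, 1, 4, 3, 3, 0]),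
    (167, [4, 2, 2, 1, 4]), (169, [1, 1, 4, 3, 1]), (171, [3, 4, 1]), (173, [2, 2, 1, 4, 0]), (175, [2, 1, 4, 1]),
    (177, [3, 4, 0]), (178, [1, 4, 3, 0]), (181, [4, 2, 1, 1, 4]), (182, [3, 3, 2, 1, 4, 1]), (185, [4, 2, 4]),
    (186, [4, 3, 1]), (189, [4, 2, 1, 4]), (190, [2, 1, 1, 4, 1]), (194, [3, 4, 2, 1, 4]), (195, [4, 2, 1, 4, 3]),
    (196, [4, 1]), (197, [2, 4, 0]), (200, [4, 3, 3, 0]), (201, [4, 1, 4, 3]), (206, [2, 2, 1, 4, 3, 1]),
    (207, [4, 1, 3, 1, 4]), (212, [2, 2, 4]), (213, [3, 3, 3, 1]), (214, [4, 2, 1, 4, 1]), (215, [2, 2, 1, 4]),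
    (216, [3, 0]), (217, [3, 3, 2, 4]), (218, [1, 3, 3, 2, 4]), (219, [3, 3, 2, 1, 4]), (225, [3, 1, 1, 4, 0]),
    (226, [2, 2, 1, 4, 3, 0]), (229, [2, 1, 1, 4, 0]), (230, [1, 1, 4, 1]), (232, [3, 3, 1, 4, 0]), (235, [3, 2, 4, 2, 4]),
    (236, [2, 2, 4, 2, 4]), (239, [2, 2, 4, 3, 1]), (241, [2, 2, 4, 3, 0]), (243, [4, 2, 4, 2, 4]), (245, [2, 1, 4, 0]),
    (247, [1, 4, 1]), (248, [1, 4, 3, 3, 0]), (250, [1, 4, 1, 4, 3]), (252, [4, 2, 1, 4, 3, 0]), (254, [3, 1, 1, 4, 1])]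

/-- The five generators of the even part. -/
def gen5 : Fin 5 → K := ![gth, ga, gb, gn, gr]

/-- Rank one vectors. -/
def R1 (v : Vec) : Bool :=
  v != 0 && (v.val % 16 == 0 || v.val / 16 == 0 || v.val % 16 == v.val / 16)

theorem orbit_cover : ∀ v : Vec, v = 0 ∨
    (R1 v = true ∧ Qf v = false ∧ ∃ p ∈ orbit45, p.1 = v ∧ p.2.foldr (fun i x => act (gen5 i) x) 1 = v) ∨
    (R1 v = false ∧ Qf v = false ∧ ∃ p ∈ orbit90, p.1 = v ∧ p.2.foldr (fun i x => act (gen5 i) x) 20 = v) ∨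
    (R1 v = false ∧ Qf v = true ∧ ∃ p ∈ orbit120, p.1 = v ∧ p.2.foldr (fun i x => act (gen5 i) x) 18 = v) := by
  decide +kernel

/-- The basis adapted to `a` and `b`. -/
def Bm : Fin 8 → Vec := ![19, 33, 141, 88, 18, 49, 133, 216]

/-- Coordinates in this basis. -/
def C : Vec → Vec := lin ![17, 50, 217, 68, 34, 19, 110, 136]

theorem lin_Bm_C : ∀ v : Vec, lin Bm (C v) = v := by decide +kernel

theorem C_Bm : ∀ i, C (Bm i) = e i := by decide +kernel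

/-- The element taking the first basis vector to the others. -/
def bw : Fin 8 → K := ![1, gth, gn, gth * gn, gn ^ 2, gth * gn ^ 2, gn ^ 3, gth * gn ^ 3]

theorem Bm_eq : ∀ i, Bm i = act (bw i) 19 := by decide +kernel

/-- The projection onto the line of the first basis vector. -/
def proj (v : Vec) : Vec :=
  let w := v ^^^ act (gth ^ 2) (act ga v) ^^^ act gth (act (ga ^ 2) v)
  w ^^^ act gb w ^^^ act (gb ^ 2) w

theorem proj_detect : ∀ v : Vec, v = 0 ∨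
    ∃ k : Fin 4, proj (act (gn ^ k.val) v) = 19 ∨ proj (act (gn ^ k.val) v) = 33 ∨
      proj (act (gn ^ k.val) v) = 50 := by decide +kernel

/-- The candidate for the image of the first basis vector under `r`. -/
def RX (x : Vec) : Vec → Vec := fun v => lin (fun i => act (gr * bw i * gr⁻¹) x) (C v)

theorem RX_unique : ∀ x : Vec, (∀ i, RX x (RX x (Bm i)) = Bm i) →
    (∀ i, RX x (act ga (act gb (RX x (act ga (act gb (RX x (act ga (act gb (Bm i))))))))) = Bm i) →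
    x = act gr 19 := by decide +kernel

theorem K_relations : gr * gr = 1 ∧ (gr * (ga * gb)) ^ 3 = 1 ∧ gn ^ 4 = 1 ∧ ga ^ 3 = 1 ∧
    gb ^ 3 = 1 ∧ gth ^ 3 = 1 ∧ gn * ga * gn⁻¹ = gb ∧ gn * gb * gn⁻¹ = ga⁻¹ := by decide +kernel

/-- The outer elements used. -/
def gs : K := (1, swap 0 1)

/-- The representatives of the elements inverting `gth`. -/
def gt : Fin 2 → K := ![(swap 0 1, 1), (swap 0 1, swap 0 1)]

theorem outer_candidates : (∀ x : Vec, act (gs * ga * gs⁻¹) x = act gth x → act (gs * gb * gs⁻¹) x = x →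
      x = 0 ∨ ∃ m : Fin 3, x = act (gth ^ m.val) (act gs 19)) ∧
    (∀ (k : Fin 2) (x : Vec), act (gt k * ga * (gt k)⁻¹) x = act (gth ^ 2) x →
      act (gt k * gb * (gt k)⁻¹) x = x → x = 0 ∨ ∃ m : Fin 3, x = act (gth ^ m.val) (act (gt k) 19)) ∧
    (∀ m : Fin 3, act (gth ^ m.val) (act gs (act (gth ^ m.val) (act gs 19))) = 19 → m = 0) := by
  decide +kernel

/-- A function with the values `a`, `b`, `c` on the three orbits. -/
def orbitFun (a b c : Bool) (v : Vec) : Bool :=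
  v != 0 && (if Qf v then c else if R1 v then a else b)

/-- The cubic identity. -/
def cubic (q : Vec → Bool) (x y w : Vec) : Bool :=
  Bool.xor (Bool.xor (Bool.xor (q (x ^^^ y ^^^ w)) (q (x ^^^ y))) (Bool.xor (q (y ^^^ w)) (q (x ^^^ w))))
    (Bool.xor (Bool.xor (q x) (q y)) (q w))

theorem form_unique : ∀ a b c : Bool, (∀ (x : Vec) (i j : Fin 8), cubic (orbitFun a b c) x (e i) (e j) = false) →
    (∀ v, orbitFun a b c v = false) ∨ ∀ v, orbitFun a b c v = Qf v := by decide +kernel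

/-- Five-cycles whose products with further five-cycles give the generators. -/
def five : Fin 4 → Perm (Fin 6) :=
  ![swap 1 2 * swap 2 3 * swap 3 4 * swap 4 5, swap 1 2 * swap 2 3 * swap 3 5 * swap 5 4,
    swap 1 2 * swap 2 4 * swap 4 5 * swap 5 3, swap 1 2 * swap 2 3 * swap 3 5 * swap 5 4]

/-- The generators of `A₆` are products of two five-cycles. -/
theorem five_products : ∀ i, five i ^ 5 = 1 ∧ ((five i)⁻¹ * gen i) ^ 5 = 1 ∧
    Perm.sign (five i) = 1 := by decide +kernel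

end CfsgLib.Characterizations.ExtraNine
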