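import Cfsg.Agent.Lib.Characterizations.ExtraNine.FirstFacts

/-!
Finite facts for the last step.
-/

set_option autoImplicit false
set_option synthInstance.maxSize 1024
set_option synthInstance.maxHeartbeats 200000
set_option maxRecDepth 20000

namespace CfsgLib.Characterizations.ExtraNine

open Equiv

theorem kind_counts : Nat.card {v : Vec // v ≠ 0 ∧ Qf v = false ∧ R1 v = true} = 45 ∧
    Nat.card {v : Vec // v ≠ 0 ∧ Qf v = false ∧ R1 v = false} = 90 := by
  constructor <;> rw [Nat.card_eq_fintype_card] <;> decide +kernel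

theorem other_orth : ∀ v : Vec, v.val < 16 → v ≠ 0 →
    ∃ y : Fin 16, (y : ℕ) ≠ 0 ∧ Fin.ofNat 256 (y : ℕ) ≠ v ∧ om v (Fin.ofNat 256 (y : ℕ)) = false := by
  decide +kernel

theorem om_facts : om 2 1 = true ∧ om 1 2 = true ∧ om 1 4 = false ∧ inD 2 = false ∧
    ∀ v : Vec, v.val < 16 → om v v = false := by decide +kernel

theorem shift_facts : ∀ v : Vec, (v.val < 16 → (shift v).val / 16 = v.val ∧ (shift v).val % 16 = 0) ∧
    (Fin.ofNat 256 (v.val / 16) : Vec).val < 16 ∧
    (v ^^^ shift (Fin.ofNat 256 (v.val / 16))).val < 16 ∧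
    (v.val / 16 ≠ 0 → (Fin.ofNat 256 (v.val / 16) : Vec) ≠ 0) := by decide +kernel

theorem transvection_shift : ∀ v : Vec, v.val < 16 → act (swap 0 1, 1) (shift v) ^^^ shift v = v := by
  decide +kernel

theorem swap_sq : ((swap 0 1, 1) : K)⁻¹ = (swap 0 1, 1) := by decide +kernel

end CfsgLib.Characterizations.ExtraNine
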