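import Cfsg.Agent.Lib.Characterizations.ExtraNine.Geo
import Cfsg.Agent.Lib.Characterizations.ExtraNine.LastFacts

/-!
A fused involution is impossible: the subgroup of rank one vectors with a fixed first factor and its
conjugate give an invariant complement to the centre, and with it an invariant quadratic refinement
of a symplectic form of rank four that is transitive on nonzero vectors.
-/

set_option autoImplicit false
set_option linter.unusedSectionVars false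

namespace CfsgLib.Characterizations.ExtraNine

open Equiv Subgroup
open CfsgLib.ThreeTransp.Extraspecial CfsgLib.ThreeTransp.ExtraspecialCore

universe uG

variable {G : Type uG} [Group G] [Finite G]

/-- The action as an action. -/
@[reducible] def modelAction : MulAction K Vec where
  smul := act
  one_smul := act_one
  mul_smul g h v := act_mul g h v

namespace Geo

variable (X : Geo G)

theorem card_cent {x : G} (hx : X.IsFused x) :
    Nat.card (centralizer ({X.z} : Set G) ⊓ centralizer ({x} : Set G) : Subgroup G) =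
      2 ^ 8 * Nat.card {a : X.φ.range // act a (X.pv x) = X.pv x} := by
  let C : Subgroup X.H := (centralizer ({x} : Set G)).subgroupOf X.H
  let f : C →* K := X.φ.comp C.subtype
  have hr : Nat.card f.range = Nat.card {a : X.φ.range // act a (X.pv x) = X.pv x} := by
    refine Nat.card_congr
      { toFun := fun a => ⟨⟨a, ?_⟩, ?_⟩
        invFun := fun a => ⟨a.1, ?_⟩
        left_inv := fun _ => rfl
        right_inv := fun _ => rfl }
    · obtain ⟨h, e⟩ := a.2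
      exact ⟨h, e⟩
    · obtain ⟨h, e⟩ := a.2
      show act (a : K) _ = _
      rw [← e, show f h = X.φ (h : X.H) from rfl, ← X.pv_conj (h : X.H) hx.1,
        mul_inv_eq_iff_eq_mul.2 (mem_centralizer_singleton_iff.1
          (show ((h : X.H) : G) ∈ centralizer ({x} : Set G) from h.2))]
    · obtain ⟨⟨_, h, rfl⟩, ha⟩ := a
      have hop : X.op (X.φ h) (X.pr x) = X.pr x := by
        rw [← X.Φ.apply_symm_apply (X.pr x), X.Φ_op _ ⟨h, rfl⟩]
        exact congrArg X.Φ ha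
      obtain ⟨h', hh', hcomm⟩ := X.lift_fix hx.1 h hop
      exact ⟨⟨h', mem_centralizer_singleton_iff.2 hcomm⟩, hh'⟩
  have hk : Nat.card f.ker = Nat.card (core X.z ⊓ centralizer ({x} : Set G) : Subgroup G) := Nat.card_congr
    { toFun := fun a => ⟨((a : C) : X.H), (X.hker _).1 a.2, a.1.2⟩
      invFun := fun a => ⟨⟨⟨a, X.Q_le_H a.2.1⟩, a.2.2⟩, X.φ_Q a.2.1⟩
      left_inv := fun _ => rfl
      right_inv := fun _ => rfl }
  have h256 : Nat.card (core X.z ⊓ centralizer ({x} : Set G) : Subgroup G) = 2 ^ 8 := by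
    have : 2 * Nat.card (core X.z ⊓ centralizer ({x} : Set G) : Subgroup G) = 2 ^ 9 :=
      (Ctx.card_fixed X.extra hx.1 hx.ne_one hx.2.1).trans X.card
    omega
  have hC : Nat.card C = Nat.card (centralizer ({X.z} : Set G) ⊓ centralizer ({x} : Set G) : Subgroup G) :=
    Nat.card_congr
      { toFun := fun a => ⟨(a : X.H), (a : X.H).2, a.2⟩
        invFun := fun a => ⟨⟨a, a.2.1⟩, a.2.2⟩
        left_inv := fun _ => rfl
        right_inv := fun _ => rfl }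
  have h := f.ker.card_mul_index
  rw [Subgroup.index_ker, hk, h256, hr, hC] at h
  exact h.symm

theorem kind_mul {x : G} (hx : X.IsFused x) :
    (if R1 (X.pv x) then 45 else 90) * Nat.card {a : X.φ.range // act a (X.pv x) = X.pv x} =
      Nat.card X.φ.range := by
  letI := modelAction
  obtain ⟨hx0, hxq⟩ := X.fused_props hx
  have horb : ∀ v : Vec, v ∈ MulAction.orbit X.φ.range (X.pv x) ↔ (v ≠ 0 ∧ Qf v = false ∧ R1 v = R1 (X.pv x)) := by
    intro v
    constructor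
    · rintro ⟨a, rfl⟩
      show act (a : K) (X.pv x) ≠ 0 ∧ Qf (act (a : K) (X.pv x)) = false ∧ R1 (act (a : K) (X.pv x)) = _
      refine ⟨fun e => hx0 ?_, by rw [Qf_act]; exact hxq, R1_act _ _⟩
      have := congrArg (act (a : K)⁻¹) e
      rwa [← act_mul, inv_mul_cancel, act_one, act_zero] at this
    · rintro ⟨hv, hq, hk⟩
      obtain ⟨g1, hg1, e1⟩ := X.exists_act hx0 hxq
      obtain ⟨g2, hg2, e2⟩ := X.exists_act hv hq
      refine ⟨⟨g2 * g1⁻¹, mul_mem hg2 (inv_mem hg1)⟩, ?_⟩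
      show act (g2 * g1⁻¹) (X.pv x) = v
      rw [act_mul, ← e1, ← act_mul g1⁻¹, inv_mul_cancel, act_one, ← hk]
      exact e2
  have hc : Nat.card (MulAction.orbit X.φ.range (X.pv x)) = (if R1 (X.pv x) then 45 else 90) := by
    rw [Nat.card_congr (Equiv.subtypeEquivRight horb)]
    cases R1 (X.pv x)
    · exact kind_counts.2
    · exact kind_counts.1
  have h := Nat.card_congr (MulAction.orbitProdStabilizerEquivGroup X.φ.range (X.pv x))
  rw [Nat.card_prod, hc] at h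
  exact h

end Geo

/-- A fused involution with coordinates `1`, interchanged with `z`. -/
structure Base (G : Type uG) [Group G] [Finite G] extends Geo G where
  g : G
  u : G
  hu : u = g * z * g⁻¹
  u_mem : u ∈ core z
  u_ne : u ≠ z
  u_one : toGeo.pv u = 1
  swap_u : g * u * g⁻¹ = z

theorem Geo.exists_swap (X : Geo G) {g : G} (hu : g * X.z * g⁻¹ ∈ X.Q) (hne : g * X.z * g⁻¹ ≠ X.z) :
    Nonempty (Base G) := by
  obtain ⟨_, ⟨hxQ, hxne, k, rfl⟩, hx1⟩ := X.exists_base hu hne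
  have hx : X.IsFused (k * X.z * k⁻¹) := ⟨hxQ, hxne, k, rfl⟩
  set y := k⁻¹ * X.z * k with hy
  have hyf : X.IsFused y := by
    refine ⟨(mem_core_conj_iff k X.z X.z).1 (orth_symm X.hz X.hE X.hC k hxQ), fun e => hxne ?_, k⁻¹, by rw [hy, inv_inv]⟩
    calc k * X.z * k⁻¹ = k * y * k⁻¹ := by rw [e]
      _ = X.z := by rw [hy]; group
  have hcard : Nat.card (centralizer ({X.z} : Set G) ⊓ centralizer ({k * X.z * k⁻¹} : Set G) : Subgroup G) =
      Nat.card (centralizer ({X.z} : Set G) ⊓ centralizer ({y} : Set G) : Subgroup G) := by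
    refine Nat.card_congr
      { toFun := fun a => ⟨k⁻¹ * a * k, mem_centralizer_singleton_iff.2 ?_, mem_centralizer_singleton_iff.2 ?_⟩
        invFun := fun a => ⟨k * a * k⁻¹, mem_centralizer_singleton_iff.2 ?_, mem_centralizer_singleton_iff.2 ?_⟩
        left_inv := fun a => Subtype.ext (by simp [mul_assoc])
        right_inv := fun a => Subtype.ext (by simp [mul_assoc]) }
    · exact centralizer_mem_conj k (mem_centralizer_singleton_iff.1 a.2.2)
    · rw [hy]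
      calc k⁻¹ * a * k * (k⁻¹ * X.z * k) = k⁻¹ * ((a : G) * X.z) * k := by group
        _ = k⁻¹ * X.z * k * (k⁻¹ * a * k) := by rw [mem_centralizer_singleton_iff.1 a.2.1]; group
    · calc k * a * k⁻¹ * X.z = k * ((a : G) * (k⁻¹ * X.z * k)) * k⁻¹ := by group
        _ = X.z * (k * a * k⁻¹) := by
          rw [show (a : G) * (k⁻¹ * X.z * k) = k⁻¹ * X.z * k * a from mem_centralizer_singleton_iff.1 a.2.2]
          group
    · rw [conj_mul, conj_mul, mem_centralizer_singleton_iff.1 a.2.1]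
  have hR : R1 (X.pv y) = true := by
    have h1 := X.kind_mul hx
    have h2 := X.kind_mul hyf
    rw [X.card_cent hx, X.card_cent hyf] at hcard
    have e := Nat.eq_of_mul_eq_mul_left (by norm_num) hcard
    have hR1 : R1 (1 : Vec) = true := by decide
    rw [hx1, if_pos hR1] at h1
    rw [hx1] at e
    rw [← h1, e] at h2
    have hpos : 0 < Nat.card {a : X.φ.range // act a (X.pv y) = X.pv y} := by
      haveI : Nonempty {a : X.φ.range // act a (X.pv y) = X.pv y} := ⟨⟨1, act_one _⟩⟩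
      exact Nat.card_pos
    have := Nat.eq_of_mul_eq_mul_right hpos h2
    by_contra hf
    rw [if_neg hf] at this
    omega
  obtain ⟨hy0, hyq⟩ := X.fused_props hyf
  obtain ⟨a0, ha0, e0⟩ := X.exists_act hy0 hyq
  rw [if_pos hR] at e0
  obtain ⟨a, ha⟩ := inv_mem ha0
  have hpva : X.pv ((a : G) * y * (a : G)⁻¹) = 1 := by
    rw [X.pv_conj a hyf.1, ha, ← e0, ← act_mul, inv_mul_cancel, act_one]
  obtain ⟨b, hb, hbe⟩ : ∃ b ∈ X.H, b * y * b⁻¹ = k * X.z * k⁻¹ := by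
    rcases X.pv_eq (hyf.conj a.2).1 hxQ (hpva.trans hx1.symm) with r | r
    · exact ⟨a, a.2, r.symm⟩
    · obtain ⟨q, hq, hqy⟩ := X.extra.exists_conj_eq (hyf.conj a.2).1 (hyf.conj a.2).ne_one (hyf.conj a.2).2.1
      refine ⟨q * a, mul_mem (X.Q_le_H hq) a.2, ?_⟩
      rw [r, ← hqy]; group
  have hbz : b⁻¹ * X.z * b = X.z := by rw [mul_assoc, ← X.mem_H.1 hb, inv_mul_cancel_left]
  refine ⟨⟨X, k * b⁻¹, k * X.z * k⁻¹, ?_, hxQ, hxne, hx1, ?_⟩⟩
  · show k * X.z * k⁻¹ = k * b⁻¹ * X.z * (k * b⁻¹)⁻¹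
    rw [show k * b⁻¹ * X.z * (k * b⁻¹)⁻¹ = k * (b⁻¹ * X.z * b) * k⁻¹ by group, hbz]
  · show k * b⁻¹ * (k * X.z * k⁻¹) * (k * b⁻¹)⁻¹ = X.z
    rw [show k * b⁻¹ * (k * X.z * k⁻¹) * (k * b⁻¹)⁻¹ = k * (b⁻¹ * (k * X.z * k⁻¹) * b) * k⁻¹ by group, ← hbe, hy]
    group

namespace Base

variable (B : Base G)

theorem inv_g_z : B.g⁻¹ * B.z * B.g = B.u := by rw [← B.swap_u]; group

theorem inv_g_u : B.g⁻¹ * B.u * B.g = B.z := by rw [B.hu]; group

theorem g_mem_core {x : G} : B.g * x * B.g⁻¹ ∈ core B.u ↔ x ∈ B.Q := by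
  rw [B.hu, mem_core_conj_iff]; simp [mul_assoc]

theorem g_mem_Q {x : G} : B.g * x * B.g⁻¹ ∈ B.Q ↔ x ∈ core B.u := by
  show B.g * x * B.g⁻¹ ∈ core B.z ↔ _
  rw [← B.swap_u, mem_core_conj_iff]; simp [mul_assoc]

theorem z_mem_core : B.z ∈ core B.u := by
  rw [← B.swap_u, B.g_mem_core]; exact B.u_mem

/-- The rank one vectors with the fixed first factor, in `Q`. -/
noncomputable def F : Subgroup G where
  carrier := {x | x ∈ B.Q ∧ (B.pv x).val < 16}
  one_mem' := ⟨one_mem _, by rw [(B.pv_eq_zero (one_mem _)).2 (Or.inl rfl)]; decide⟩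
  mul_mem' := by
    rintro x y ⟨hx, hx'⟩ ⟨hy, hy'⟩
    exact ⟨mul_mem hx hy, by rw [B.pv_mul hx hy]; exact first_closed _ hx' _ hy'⟩
  inv_mem' := by
    rintro x ⟨hx, hx'⟩
    refine ⟨inv_mem hx, ?_⟩
    rwa [show B.pv x⁻¹ = B.pv x by rw [Geo.pv, Geo.pv, B.pr_inv hx]]

theorem mem_F {x : G} : x ∈ B.F ↔ x ∈ B.Q ∧ (B.pv x).val < 16 := Iff.rfl

theorem z_mem_F : B.z ∈ B.F := ⟨B.z_mem, by rw [(B.pv_eq_zero B.z_mem).2 (Or.inr rfl)]; decide⟩

theorem u_mem_F : B.u ∈ B.F := ⟨B.u_mem, by rw [B.u_one]; decide⟩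

theorem F_comm {x y : G} (hx : x ∈ B.F) (hy : y ∈ B.F) : x * y = y * x :=
  (B.Bf_pv hx.1 hy.1).1 (first_perp _ hx.2 _ hy.2)

theorem F_sq {x : G} (hx : x ∈ B.F) : x * x = 1 := by
  refine (B.Qf_pv hx.1).1 ?_
  by_cases h : B.pv x = 0
  · rw [h]; decide
  · exact (first_R1 _ hx.2 h).2

theorem mem_core_u {x : G} (hx : x ∈ B.Q) : x ∈ core B.u ↔ inU (B.pv x) = true := by
  rw [B.hu]
  exact B.toGeo.mem_shared (g := B.g) (by rw [← B.hu]; exact B.u_mem) (by rw [← B.hu]; exact B.u_ne)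
    (by rw [← B.hu]; exact B.u_one) hx

theorem F_core {x : G} (hx : x ∈ B.F) : x ∈ core B.u ↔ inD (B.pv x) = true := by
  rw [B.mem_core_u hx.1, (D_facts _).1]
  exact ⟨fun h => ⟨h, hx.2⟩, fun h => h.1⟩

theorem act_first_of_fix {a : K} (ha : act a 1 = 1) {v : Vec} (hv : v.val < 16) : (act a v).val < 16 := by
  refine spanList_mem (fun v => (act a v).val < 16) (by rw [act_zero]; decide) (fun x y hx hy => ?_)
    _ ?_ v (first_decomp v hv)
  · rw [act_xor]; exact first_closed _ hx _ hy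
  · intro i hi; exact stab_first a.1 a.2 ha i hi

theorem norm_F {a : B.H} {x : G} (hx : x ∈ B.F) (h : (B.φ a).1 = 1 ∨ act (B.φ a) 1 = 1) :
    (a : G) * x * (a : G)⁻¹ ∈ B.F := by
  refine ⟨B.conj_mem_Q a.2 hx.1, ?_⟩
  rw [B.pv_conj a hx.1]
  rcases h with h | h
  · rw [show B.φ a = (1, (B.φ a).2) from Prod.ext h rfl]
    exact (first_act _ _ hx.2).1
  · exact act_first_of_fix h hx.2

theorem pair_norm {k : G} (hz : k * B.z = B.z * k) (hu : k * B.u = B.u * k) {x : G} (hx : x ∈ B.F) :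
    k * x * k⁻¹ ∈ B.F := by
  refine B.norm_F (a := ⟨k, B.mem_H.2 hz⟩) hx (Or.inr ?_)
  conv_lhs => rw [← B.u_one, ← B.pv_conj _ B.u_mem]
  rw [mul_inv_eq_iff_eq_mul.2 hu, B.u_one]

theorem g_conj_pair {k : G} (hz : k * B.z = B.z * k) (hu : k * B.u = B.u * k) :
    (B.g⁻¹ * k * B.g) * B.z = B.z * (B.g⁻¹ * k * B.g) ∧
      (B.g⁻¹ * k * B.g) * B.u = B.u * (B.g⁻¹ * k * B.g) := by
  constructor
  · calc _ = B.g⁻¹ * (k * (B.g * B.z * B.g⁻¹)) * B.g := by group
      _ = B.g⁻¹ * ((B.g * B.z * B.g⁻¹) * k) * B.g := by rw [← B.hu, hu]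
      _ = _ := by group
  · calc _ = B.g⁻¹ * (k * (B.g * B.u * B.g⁻¹)) * B.g := by group
      _ = B.g⁻¹ * ((B.g * B.u * B.g⁻¹) * k) * B.g := by rw [B.swap_u, hz]
      _ = _ := by group

theorem g_sq_pair : (B.g * B.g) * B.z = B.z * (B.g * B.g) ∧ (B.g * B.g) * B.u = B.u * (B.g * B.g) := by
  constructor
  · apply mul_inv_eq_iff_eq_mul.1
    calc B.g * B.g * B.z * (B.g * B.g)⁻¹ = B.g * (B.g * B.z * B.g⁻¹) * B.g⁻¹ := by group
      _ = B.z := by rw [← B.hu, B.swap_u]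
  · apply mul_inv_eq_iff_eq_mul.1
    calc B.g * B.g * B.u * (B.g * B.g)⁻¹ = B.g * (B.g * B.u * B.g⁻¹) * B.g⁻¹ := by group
      _ = B.u := by rw [B.swap_u, ← B.hu]

/-- The swap of `z` and `u` preserves the part of `F` in the shared subgroup. -/
theorem shared_iff {x : G} (hx : x ∈ B.Q) (hx' : x ∈ core B.u) :
    B.g⁻¹ * x * B.g ∈ B.F ↔ x ∈ B.F := by
  classical
  let S : G → Prop := fun x => x ∈ B.Q ∧ x ∈ core B.u ∧ B.g⁻¹ * x * B.g ∈ B.F
  have Smul : ∀ a b, S a → S b → S (a * b) := fun a b ha hb => ⟨mul_mem ha.1 hb.1, mul_mem ha.2.1 hb.2.1, by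
    rw [show B.g⁻¹ * (a * b) * B.g = (B.g⁻¹ * a * B.g) * (B.g⁻¹ * b * B.g) by group]
    exact mul_mem ha.2.2 hb.2.2⟩
  have Sz : S B.z := ⟨B.z_mem, B.z_mem_core, by rw [B.inv_g_z]; exact B.u_mem_F⟩
  have huQ' : B.u ∈ core B.u := by
    rw [B.hu]; exact (extra_core_conj B.hz B.hE B.hC B.g).z_mem
  have Su : S B.u := ⟨B.u_mem, huQ', by rw [B.inv_g_u]; exact B.z_mem_F⟩
  have back : ∀ a, a ∈ B.Q → a ∈ core B.u → B.g⁻¹ * a * B.g ∈ B.Q ∧ B.g⁻¹ * a * B.g ∈ core B.u := by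
    intro a ha ha'
    exact ⟨B.g_mem_core.1 (by simpa [mul_assoc] using ha'), B.g_mem_Q.1 (by simpa [mul_assoc] using ha)⟩
  have Spair : ∀ a b, a ∈ B.Q → a ∈ core B.u → b ∈ B.Q → b ∈ core B.u → ¬ S a → ¬ S b → S (a * b) := by
    intro a b ha ha' hb hb' na nb
    refine ⟨mul_mem ha hb, mul_mem ha' hb', ?_⟩
    obtain ⟨a1, a2⟩ := back a ha ha'
    obtain ⟨b1, b2⟩ := back b hb hb'
    rw [show B.g⁻¹ * (a * b) * B.g = (B.g⁻¹ * a * B.g) * (B.g⁻¹ * b * B.g) by group]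
    refine ⟨mul_mem a1 b1, ?_⟩
    rw [B.pv_mul a1 b1]
    have hU1 := (B.mem_core_u a1).1 a2
    have hU2 := (B.mem_core_u b1).1 b2
    have n1 : inD (B.pv (B.g⁻¹ * a * B.g)) = false :=
      Bool.eq_false_iff.2 fun h => na ⟨ha, ha', a1, ((D_facts _).1.1 h).2⟩
    have n2 : inD (B.pv (B.g⁻¹ * b * B.g)) = false :=
      Bool.eq_false_iff.2 fun h => nb ⟨hb, hb', b1, ((D_facts _).1.1 h).2⟩
    exact ((D_facts _).1.1 (U_nonD_xor _ hU1 n1 _ hU2 n2)).2
  obtain ⟨x4, hx4, e4⟩ := B.pv_surj 4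
  obtain ⟨x8, hx8, e8⟩ := B.pv_surj 8
  obtain ⟨x16, hx16, e16⟩ := B.pv_surj 16
  have hin : ∀ {a : G}, a ∈ B.Q → inD (B.pv a) = true → a ∈ core B.u :=
    fun ha h => (B.mem_core_u ha).2 ((D_facts _).1.1 h).1
  obtain ⟨d, hSd, hd, hd0, hd1⟩ : ∃ d, S d ∧ inD (B.pv d) = true ∧ B.pv d ≠ 0 ∧ B.pv d ≠ 1 := by
    have h4 : inD (B.pv x4) = true := by rw [e4]; exact inD_sample.2.2.1
    have h8 : inD (B.pv x8) = true := by rw [e8]; exact inD_sample.2.2.2.1
    by_cases s4 : S x4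
    · exact ⟨x4, s4, h4, by rw [e4]; decide, by rw [e4]; decide⟩
    by_cases s8 : S x8
    · exact ⟨x8, s8, h8, by rw [e8]; decide, by rw [e8]; decide⟩
    exact ⟨x4 * x8, Spair _ _ hx4 (hin hx4 h4) hx8 (hin hx8 h8) s4 s8,
      by rw [B.pv_mul hx4 hx8, e4, e8]; decide, by rw [B.pv_mul hx4 hx8, e4, e8]; decide,
      by rw [B.pv_mul hx4 hx8, e4, e8]; decide⟩
  have hP : ∀ v, inD v = true → ∃ s, S s ∧ B.pv s = v := by
    intro v hv
    refine spanList_mem (fun v => ∃ s, S s ∧ B.pv s = v) ?_ ?_ _ ?_ v (D_orbit _ hd hd0 hd1 v hv)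
    · exact ⟨B.z, Sz, (B.pv_eq_zero B.z_mem).2 (Or.inr rfl)⟩
    · rintro a b ⟨s, hs, rfl⟩ ⟨t, ht, rfl⟩
      exact ⟨s * t, Smul _ _ hs ht, B.pv_mul hs.1 ht.1⟩
    · have hstab : ∀ a ∈ stab45, ∀ v, (∃ s, S s ∧ B.pv s = v) → ∃ s, S s ∧ B.pv s = act a v := by
        rintro a ha _ ⟨s, hs, rfl⟩
        obtain ⟨h1, h2, h3⟩ := stab_ok.1 a ha
        obtain ⟨h, rfl⟩ := B.alt a h2 h3
        have hop : B.op (B.φ h) (B.pr B.u) = B.pr B.u := by
          rw [← B.Φ.apply_symm_apply (B.pr B.u), B.Φ_op _ ⟨h, rfl⟩]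
          have := B.u_one
          rw [Geo.pv] at this
          rw [this, h1]
        obtain ⟨h', hh', hcu⟩ := B.lift_fix B.u_mem h hop
        have hcz := B.mem_H.1 h'.2
        refine ⟨(h' : G) * s * (h' : G)⁻¹, ⟨B.conj_mem_Q h'.2 hs.1, ?_, ?_⟩, ?_⟩
        · exact (mem_normalizer_iff.1 (centralizer_le_normalizer_core _
            (mem_centralizer_singleton_iff.2 hcu)) s).1 hs.2.1
        · obtain ⟨c1, c2⟩ := B.g_conj_pair hcz hcu
          have := B.pair_norm c1 c2 hs.2.2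
          rwa [show B.g⁻¹ * (h' : G) * B.g * (B.g⁻¹ * s * B.g) * (B.g⁻¹ * (h' : G) * B.g)⁻¹ =
            B.g⁻¹ * ((h' : G) * s * (h' : G)⁻¹) * B.g by group] at this
        · rw [B.pv_conj h' hs.1, hh']
      have hd' : ∃ s, S s ∧ B.pv s = B.pv d := ⟨d, hSd, rfl⟩
      intro w hw
      simp only [List.mem_append, List.mem_flatMap, List.mem_map, List.mem_cons, List.not_mem_nil,
        or_false] at hw
      rcases hw with ((rfl | rfl) | ⟨a, ha, rfl⟩) | ⟨a, ha, b, hb, rfl⟩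
      · exact ⟨B.u, Su, B.u_one⟩
      · exact hd'
      · exact hstab a ha _ hd'
      · exact hstab b hb _ (hstab a ha _ hd')
  have hDS : ∀ a, a ∈ B.Q → inD (B.pv a) = true → S a := by
    intro a ha h
    obtain ⟨s, hs, e⟩ := hP _ h
    rcases B.pv_eq hs.1 ha e with r | r <;> rw [r]
    exacts [hs, Smul _ _ hs Sz]
  constructor
  · intro h
    refine ⟨hx, ?_⟩
    by_contra hnot
    have nD : inD (B.pv x) = false := Bool.eq_false_iff.2 fun h' => hnot ((D_facts _).1.1 h').2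
    have hSx : S x := ⟨hx, hx', h⟩
    have hxU := (B.mem_core_u hx).1 hx'
    have h16 : x16 ∈ core B.u := (B.mem_core_u hx16).2 (by rw [e16]; exact inD_sample.2.2.2.2.2.1)
    -- an element of the shared subgroup outside `S`
    have he : ¬ S (B.g * x16 * B.g⁻¹) := fun hs => by
      have := hs.2.2.2
      rw [show B.g⁻¹ * (B.g * x16 * B.g⁻¹) * B.g = x16 by group, e16] at this
      exact absurd this (by decide)
    have heQ : B.g * x16 * B.g⁻¹ ∈ B.Q := B.g_mem_Q.2 h16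
    have he' : B.g * x16 * B.g⁻¹ ∈ core B.u := B.g_mem_core.2 hx16
    have heD : inD (B.pv (B.g * x16 * B.g⁻¹)) = false := Bool.eq_false_iff.2 fun h' => he (hDS _ heQ h')
    have hmul : S (B.g * x16 * B.g⁻¹ * x) := by
      refine hDS _ (mul_mem heQ hx) ?_
      rw [B.pv_mul heQ hx]
      exact U_nonD_xor _ ((B.mem_core_u heQ).1 he') heD _ hxU nD
    apply he
    have := Smul _ _ hmul (⟨inv_mem hx, inv_mem hx', by
      rw [show B.g⁻¹ * x⁻¹ * B.g = (B.g⁻¹ * x * B.g)⁻¹ by group]; exact inv_mem h⟩ : S x⁻¹)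
    rwa [mul_inv_cancel_right] at this
  · intro h
    exact (hDS x hx ((D_facts _).1.2 ⟨(B.mem_core_u hx).1 hx', h.2⟩)).2.2

/-- Membership in the conjugate of `F` under the swap. -/
def InF' (f : G) : Prop := B.g⁻¹ * f * B.g ∈ B.F

theorem InF'.mul {f f' : G} (h : B.InF' f) (h' : B.InF' f') : B.InF' (f * f') := by
  show B.g⁻¹ * (f * f') * B.g ∈ B.F
  rw [show B.g⁻¹ * (f * f') * B.g = (B.g⁻¹ * f * B.g) * (B.g⁻¹ * f' * B.g) by group]
  exact mul_mem h h'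

theorem F'_H {f : G} (h : B.InF' f) : f ∈ B.H := by
  rw [B.mem_H]
  have hc := B.F_comm h B.u_mem_F
  calc f * B.z = B.g * ((B.g⁻¹ * f * B.g) * B.u) * B.g⁻¹ := by rw [← B.inv_g_z]; group
    _ = B.z * f := by rw [hc, ← B.inv_g_z]; group

theorem F'_core {f : G} (h : B.InF' f) : f ∈ core B.u := by
  have := B.g_mem_core.2 h.1
  rwa [show B.g * (B.g⁻¹ * f * B.g) * B.g⁻¹ = f by group] at this

theorem F'_Q {f : G} (h : B.InF' f) : f ∈ B.Q ↔ inD (B.pv (B.g⁻¹ * f * B.g)) = true := by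
  rw [← B.F_core h, ← B.g_mem_Q, show B.g * (B.g⁻¹ * f * B.g) * B.g⁻¹ = f by group]

/-- An element of the conjugate outside `Q`. -/
theorem exists_f0 : ∃ x ∈ B.F, B.pv x = 2 ∧ B.InF' (B.g * x * B.g⁻¹) ∧ B.g * x * B.g⁻¹ ∉ B.Q := by
  obtain ⟨x, hx, e⟩ := B.pv_surj 2
  have hF : x ∈ B.F := ⟨hx, by rw [e]; decide⟩
  have hx' : B.InF' (B.g * x * B.g⁻¹) := by
    show B.g⁻¹ * _ * B.g ∈ B.F
    rwa [show B.g⁻¹ * (B.g * x * B.g⁻¹) * B.g = x by group]
  refine ⟨x, hF, e, hx', fun h => ?_⟩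
  have := (B.F'_Q hx').1 h
  rw [show B.g⁻¹ * (B.g * x * B.g⁻¹) * B.g = x by group, e, om_facts.2.2.2.1] at this
  exact Bool.noConfusion this

theorem φ_const {f f' : B.H} (h : B.InF' f) (h' : B.InF' f') (n : (f : G) ∉ B.Q) (n' : (f' : G) ∉ B.Q) :
    B.φ f = B.φ f' := by
  have hm := InF'.mul B h h'
  have hQ : ((f * f' : B.H) : G) ∈ B.Q := by
    refine (B.F'_Q hm).2 ?_
    rw [show B.g⁻¹ * (((f : G) * f')) * B.g = (B.g⁻¹ * f * B.g) * (B.g⁻¹ * f' * B.g) by group,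
      B.pv_mul h.1 h'.1]
    exact nonD_xor _ h.2 (Bool.eq_false_iff.2 fun e => n ((B.F'_Q h).2 e)) _ h'.2
      (Bool.eq_false_iff.2 fun e => n' ((B.F'_Q h').2 e))
  have hsq : ((f' * f' : B.H) : G) ∈ B.Q := by
    have := B.F_sq h'
    have e : (f' : G) * f' = 1 := by
      calc (f' : G) * f' = B.g * ((B.g⁻¹ * f' * B.g) * (B.g⁻¹ * f' * B.g)) * B.g⁻¹ := by group
        _ = 1 := by rw [this]; group
    show (f' : G) * f' ∈ B.Q
    rw [e]; exact one_mem _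
  have h1 := (B.hker _).2 hQ
  have h2 := (B.hker _).2 hsq
  rw [map_mul] at h1 h2
  exact mul_right_cancel (h1.trans h2.symm)

/-- An element of `H` in `A₆` moving `u` to a given element of `F`. -/
theorem carry {y : G} (hy : y ∈ B.F) (h1 : y ≠ 1) (h2 : y ≠ B.z) :
    ∃ a : B.H, (B.φ a).1 = 1 ∧ (a : G) * B.u * (a : G)⁻¹ = y := by
  have h0 : B.pv y ≠ 0 := fun e => ((B.pv_eq_zero hy.1).1 e).elim h1 h2
  obtain ⟨w, -, hw⟩ := reach _ hy.2 h0
  obtain ⟨a, ha⟩ := B.alt (1, word w) (map_one _)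
    (Perm.mem_alternatingGroup.1 (list_prod_mem (by
      intro x hx
      obtain ⟨i, -, rfl⟩ := List.mem_map.1 hx
      exact gen_mem i)))
  have hau : B.pv ((a : G) * B.u * (a : G)⁻¹) = B.pv y := by rw [B.pv_conj a B.u_mem, ha, B.u_one, hw]
  rcases B.pv_eq (B.conj_mem_Q a.2 B.u_mem) hy.1 hau with r | r
  · exact ⟨a, by rw [ha], r.symm⟩
  · have hne : (a : G) * B.u * (a : G)⁻¹ ≠ 1 ∧ (a : G) * B.u * (a : G)⁻¹ ≠ B.z := by
      constructor <;> intro e <;> rw [e] at r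
      · exact h2 (r.trans (one_mul _))
      · exact h1 (r.trans B.extra.z_sq)
    obtain ⟨q, hq, hqu⟩ := B.extra.exists_conj_eq (B.conj_mem_Q a.2 B.u_mem) hne.1 hne.2
    refine ⟨⟨q, B.Q_le_H hq⟩ * a, by rw [map_mul, B.φ_Q hq, one_mul, ha], ?_⟩
    rw [r, ← hqu]
    show q * (a : G) * B.u * (q * (a : G))⁻¹ = _
    group

theorem carry_inv_F {a : B.H} (ha : (B.φ a).1 = 1) {x : G} (hx : x ∈ B.F) :
    (a : G)⁻¹ * x * (a : G) ∈ B.F := by
  have := B.norm_F (a := a⁻¹) hx (Or.inl (by rw [map_inv, Prod.fst_inv, ha, inv_one]))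
  simpa using this

theorem pv_carry {a : B.H} (ha : (B.φ a).1 = 1) {x : G} (hx : x ∈ B.Q) :
    B.pv ((a : G) * x * (a : G)⁻¹) = act (1, (B.φ a).2) (B.pv x) := by
  rw [B.pv_conj a hx]
  conv_lhs => rw [show B.φ a = (1, (B.φ a).2) from Prod.ext ha rfl]

theorem coherent {a a' : B.H} (ha : (B.φ a).1 = 1) (ha' : (B.φ a').1 = 1) {f0 : B.H}
    (hf0 : B.InF' f0) (hn0 : (f0 : G) ∉ B.Q)
    (hne : B.pv ((a : G) * B.u * (a : G)⁻¹) ≠ B.pv ((a' : G) * B.u * (a' : G)⁻¹))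
    (horth : om (B.pv ((a : G) * B.u * (a : G)⁻¹)) (B.pv ((a' : G) * B.u * (a' : G)⁻¹)) = false) :
    B.φ (a * f0 * a⁻¹) = B.φ (a' * f0 * a'⁻¹) := by
  set y := (a : G) * B.u * (a : G)⁻¹ with hy
  set y' := (a' : G) * B.u * (a' : G)⁻¹ with hy'
  have hyF : y ∈ B.F := B.norm_F B.u_mem_F (Or.inl ha)
  have hy'F : y' ∈ B.F := B.norm_F B.u_mem_F (Or.inl ha')
  have hyv : B.pv y = act (1, (B.φ a).2) 1 := by rw [hy, B.pv_carry ha B.u_mem, B.u_one]
  have hy'v : B.pv y' = act (1, (B.φ a').2) 1 := by rw [hy', B.pv_carry ha' B.u_mem, B.u_one]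
  have horth' : om (B.pv y') (B.pv y) = false := by rw [← (om_symm _ hyF.2 _ hy'F.2).1]; exact horth
  -- `k` interchanges `z` and `y`
  have key : ∀ (c : B.H) (t : G), (B.φ c).1 = 1 → t ∈ B.F →
      om (B.pv ((c : G) * B.u * (c : G)⁻¹)) (B.pv t) = false →
      B.pv t ≠ 0 → B.pv t ≠ B.pv ((c : G) * B.u * (c : G)⁻¹) →
      ∃ d : B.H, (B.φ d).1 = 1 ∧ (d : G) * B.u * (d : G)⁻¹ = (c : G) * B.g⁻¹ * (c : G)⁻¹ * t * ((c : G) * B.g * (c : G)⁻¹) ∧
        B.pv ((d : G) * B.u * (d : G)⁻¹) ≠ B.pv ((c : G) * B.u * (c : G)⁻¹) := by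
    intro c t hc ht hom ht0 htne
    set t1 := (c : G)⁻¹ * t * (c : G) with ht1
    have ht1F : t1 ∈ B.F := B.carry_inv_F hc ht
    have hpt : B.pv t = act (1, (B.φ c).2) (B.pv t1) := by
      rw [← B.pv_carry hc ht1F.1, ht1]; congr 1; group
    have hD : inD (B.pv t1) = true := by
      rw [(D_facts _).2]
      refine ⟨ht1F.2, ?_⟩
      rw [← om_act (B.φ c).2 ht1F.2, ← hpt]
      rwa [B.pv_carry hc B.u_mem, B.u_one] at hom
    have ht1c : t1 ∈ core B.u := (B.F_core ht1F).2 hD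
    have hmid : B.g⁻¹ * t1 * B.g ∈ B.F := (B.shared_iff ht1F.1 ht1c).2 ht1F
    have hres : (c : G) * B.g⁻¹ * (c : G)⁻¹ * t * ((c : G) * B.g * (c : G)⁻¹) =
        (c : G) * (B.g⁻¹ * t1 * B.g) * (c : G)⁻¹ := by rw [ht1]; group
    have hsF : (c : G) * (B.g⁻¹ * t1 * B.g) * (c : G)⁻¹ ∈ B.F := B.norm_F hmid (Or.inl hc)
    -- if the image had the coordinates of the centre, `t` would have those of `z` or of the first point
    have hzero : B.pv (B.g⁻¹ * t1 * B.g) ≠ 0 := by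
      intro e
      rcases (B.pv_eq_zero hmid.1).1 e with e' | e'
      · apply ht0
        have : t = 1 := by
          calc t = (c : G) * (B.g * (B.g⁻¹ * t1 * B.g) * B.g⁻¹) * (c : G)⁻¹ := by rw [ht1]; group
            _ = 1 := by rw [e']; group
        rw [this]; exact (B.pv_eq_zero (one_mem _)).2 (Or.inl rfl)
      · apply htne
        congr 1
        calc t = (c : G) * (B.g * (B.g⁻¹ * t1 * B.g) * B.g⁻¹) * (c : G)⁻¹ := by rw [ht1]; group
          _ = _ := by rw [e', ← B.hu]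
    have hone : B.pv (B.g⁻¹ * t1 * B.g) ≠ 1 := by
      intro e
      apply ht0
      have hcases := B.pv_eq B.u_mem hmid.1 (B.u_one.trans e.symm)
      have : B.pv t1 = 0 ∨ B.pv t1 = 1 := by
        rcases hcases with r | r
        · left
          rw [show t1 = B.g * (B.g⁻¹ * t1 * B.g) * B.g⁻¹ by group, r, B.swap_u]
          exact (B.pv_eq_zero B.z_mem).2 (Or.inr rfl)
        · right
          rw [show t1 = B.g * (B.g⁻¹ * t1 * B.g) * B.g⁻¹ by group, r, ← conj_mul, B.swap_u, ← B.hu,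
            B.pv_mul B.z_mem B.u_mem, (B.pv_eq_zero B.z_mem).2 (Or.inr rfl), zero_xor', B.u_one]
      rcases this with e1 | e1
      · rw [hpt, e1, act_zero]
      · exact absurd (by rw [hpt, e1, B.pv_carry hc B.u_mem, B.u_one]) htne
    have hinj : ∀ v : Vec, act (1, (B.φ c).2) v = 0 → v = 0 := fun v e => by
      have := congrArg (act ((1, (B.φ c).2) : K)⁻¹) e
      rwa [← act_mul, inv_mul_cancel, act_one, act_zero] at this
    have hs0 : B.pv ((c : G) * (B.g⁻¹ * t1 * B.g) * (c : G)⁻¹) ≠ 0 := fun e =>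
      hzero (hinj _ (by rw [← B.pv_carry hc hmid.1]; exact e))
    obtain ⟨d, hd, hdu⟩ := B.carry hsF
      (fun e => hs0 (by rw [e]; exact (B.pv_eq_zero (one_mem _)).2 (Or.inl rfl)))
      (fun e => hs0 (by rw [e]; exact (B.pv_eq_zero B.z_mem).2 (Or.inr rfl)))
    refine ⟨d, hd, hdu.trans hres.symm, ?_⟩
    rw [hdu, B.pv_carry hc hmid.1, B.pv_carry hc B.u_mem, B.u_one]
    intro e
    apply hone
    have := congrArg (act ((1, (B.φ c).2) : K)⁻¹) e
    rwa [← act_mul, ← act_mul, inv_mul_cancel, act_one, act_one] at this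
  have hy0 : B.pv y ≠ 0 := by
    rw [hyv]; intro e
    have := congrArg (act ((1, (B.φ a).2) : K)⁻¹) e
    rw [← act_mul, inv_mul_cancel, act_one, act_zero] at this
    exact absurd this (by decide)
  have hy'0 : B.pv y' ≠ 0 := by
    rw [hy'v]; intro e
    have := congrArg (act ((1, (B.φ a').2) : K)⁻¹) e
    rw [← act_mul, inv_mul_cancel, act_one, act_zero] at this
    exact absurd this (by decide)
  obtain ⟨b, hb, hbu, hbne⟩ := key a y' ha hy'F horth hy'0 hne.symm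
  obtain ⟨b', hb', hb'u, -⟩ := key a' y ha' hyF horth' hy0 hne
  -- the element of `F` and its conjugate leaving `Q`
  set y0 := (b : G) * B.u * (b : G)⁻¹ with hy0d
  have hy0F : y0 ∈ B.F := B.norm_F B.u_mem_F (Or.inl hb)
  have hy00 : B.pv y0 ≠ 0 := by
    rw [hy0d, B.pv_carry hb B.u_mem, B.u_one]; intro e
    have := congrArg (act ((1, (B.φ b).2) : K)⁻¹) e
    rw [← act_mul, inv_mul_cancel, act_one, act_zero] at this
    exact absurd this (by decide)
  obtain ⟨t, ht1, ht2⟩ := perp_sep _ hy0F.2 hy00 _ hyF.2 hy0 hbne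
  obtain ⟨s, hs, hsv⟩ := B.pv_surj (Fin.ofNat 256 t.val)
  have hsF : s ∈ B.F := ⟨hs, by
    rw [hsv]
    show t.val % 256 < 16
    omega⟩
  set x := (b : G)⁻¹ * s * (b : G) with hx
  have hxF : x ∈ B.F := B.carry_inv_F hb hsF
  have hsx : B.pv s = act (1, (B.φ b).2) (B.pv x) := by
    rw [← B.pv_carry hb hxF.1, hx]; congr 1; group
  have hxD : inD (B.pv x) = true := by
    rw [(D_facts _).2]
    refine ⟨hxF.2, ?_⟩
    rw [← om_act (B.φ b).2 hxF.2, ← hsx, hsv]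
    rw [hy0d, B.pv_carry hb B.u_mem, B.u_one] at ht1
    exact ht1
  set s1 := (a : G)⁻¹ * s * (a : G) with hs1
  have hs1F : s1 ∈ B.F := B.carry_inv_F ha hsF
  have hs1n : inD (B.pv s1) = false := by
    refine Bool.eq_false_iff.2 fun e => ?_
    have h := ((D_facts _).2.1 e).2
    rw [← om_act (B.φ a).2 hs1F.2, ← B.pv_carry ha hs1F.1, ← hyv,
      show (a : G) * s1 * (a : G)⁻¹ = s by rw [hs1]; group, hsv, ht2] at h
    exact Bool.noConfusion h
  set f1 := B.g * s1 * B.g⁻¹ with hf1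
  have hf1' : B.InF' f1 := by
    show B.g⁻¹ * f1 * B.g ∈ B.F
    rwa [show B.g⁻¹ * f1 * B.g = s1 by rw [hf1]; group]
  have hf1n : f1 ∉ B.Q := fun h => by
    have := (B.F'_Q hf1').1 h
    rw [show B.g⁻¹ * f1 * B.g = s1 by rw [hf1]; group, hs1n] at this
    exact Bool.noConfusion this
  -- the same element seen from `a'`
  set f := (a : G) * f1 * (a : G)⁻¹ with hf
  set f2 := (a' : G)⁻¹ * f * (a' : G) with hf2
  set K1 := (a : G) * B.g * (a : G)⁻¹ * (b : G) with hK1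
  set K2 := (a' : G) * B.g * (a' : G)⁻¹ * (b' : G) with hK2
  have hbz : ∀ c : B.H, (c : G) * B.z * (c : G)⁻¹ = B.z := fun c =>
    mul_inv_eq_iff_eq_mul.2 (B.mem_H.1 c.2)
  have hinvz : ∀ c : B.H, (c : G)⁻¹ * B.z * (c : G) = B.z := fun c => by
    rw [mul_assoc, ← B.mem_H.1 c.2, inv_mul_cancel_left]
  have hK1z : K1 * B.z * K1⁻¹ = y := by
    calc K1 * B.z * K1⁻¹ = (a : G) * (B.g * ((a : G)⁻¹ * ((b : G) * B.z * (b : G)⁻¹) * (a : G)) * B.g⁻¹) * (a : G)⁻¹ := by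
          rw [hK1]; group
      _ = y := by rw [hbz, hinvz, ← B.hu]
  have hK2z : K2 * B.z * K2⁻¹ = y' := by
    calc K2 * B.z * K2⁻¹ = (a' : G) * (B.g * ((a' : G)⁻¹ * ((b' : G) * B.z * (b' : G)⁻¹) * (a' : G)) * B.g⁻¹) * (a' : G)⁻¹ := by
          rw [hK2]; group
      _ = y' := by rw [hbz, hinvz, ← B.hu]
  have hK1u : K1 * B.u * K1⁻¹ = y' := by
    calc K1 * B.u * K1⁻¹ = ((a : G) * B.g * (a : G)⁻¹) * y0 * ((a : G) * B.g * (a : G)⁻¹)⁻¹ := by
          rw [hK1, hy0d]; group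
      _ = y' := by rw [hbu]; group
  have hK2u : K2 * B.u * K2⁻¹ = y := by
    calc K2 * B.u * K2⁻¹ = ((a' : G) * B.g * (a' : G)⁻¹) * ((b' : G) * B.u * (b' : G)⁻¹) * ((a' : G) * B.g * (a' : G)⁻¹)⁻¹ := by
          rw [hK2]; group
      _ = y := by rw [hb'u]; group
  set c := B.g⁻¹ * K1⁻¹ * K2 with hc
  have hcz : c * B.z = B.z * c := by
    apply mul_inv_eq_iff_eq_mul.1
    calc c * B.z * c⁻¹ = B.g⁻¹ * (K1⁻¹ * (K2 * B.z * K2⁻¹) * K1) * B.g := by rw [hc]; group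
      _ = B.g⁻¹ * B.u * B.g := by rw [hK2z, ← hK1u]; group
      _ = B.z := B.inv_g_u
  have hcu : c * B.u = B.u * c := by
    apply mul_inv_eq_iff_eq_mul.1
    calc c * B.u * c⁻¹ = B.g⁻¹ * (K1⁻¹ * (K2 * B.u * K2⁻¹) * K1) * B.g := by rw [hc]; group
      _ = B.g⁻¹ * B.z * B.g := by rw [hK2u, ← hK1z]; group
      _ = B.u := B.inv_g_z
  have hf2' : B.InF' f2 := by
    have hgx : B.g⁻¹ * x * B.g ∈ B.F := (B.shared_iff hxF.1 ((B.F_core hxF).2 hxD)).2 hxF
    have hcx : c⁻¹ * (B.g⁻¹ * x * B.g) * c ∈ B.F := by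
      have h1 : c⁻¹ * B.z = B.z * c⁻¹ := by rw [inv_mul_eq_iff_eq_mul, ← mul_assoc, hcz, mul_inv_cancel_right]
      have h2 : c⁻¹ * B.u = B.u * c⁻¹ := by rw [inv_mul_eq_iff_eq_mul, ← mul_assoc, hcu, mul_inv_cancel_right]
      simpa using B.pair_norm h1 h2 hgx
    have h1 := B.carry_inv_F ha' (B.norm_F (a := b') hcx (Or.inl hb'))
    show B.g⁻¹ * f2 * B.g ∈ B.F
    refine (iff_of_eq (congrArg (· ∈ B.F) ?_)).2 h1
    rw [hf2, hf, hf1, hs1, hc, hK1, hK2, hx]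
    group
  have hf2n : f2 ∉ B.Q := fun h => hf1n (by
    have h' := B.conj_mem_Q a'.2 h
    rw [show (a' : G) * f2 * (a' : G)⁻¹ = f by rw [hf2]; group] at h'
    have h'' := B.conj_mem_Q (inv_mem a.2) h'
    rwa [show (a : G)⁻¹ * f * ((a : G)⁻¹)⁻¹ = f1 by rw [hf]; group] at h'')
  have e1 := B.φ_const (f := f0) (f' := ⟨f1, B.F'_H hf1'⟩) hf0 hf1' hn0 hf1n
  have e2 := B.φ_const (f := f0) (f' := ⟨f2, B.F'_H hf2'⟩) hf0 hf2' hn0 hf2n
  have e3 : (a * ⟨f1, B.F'_H hf1'⟩ * a⁻¹ : B.H) = a' * ⟨f2, B.F'_H hf2'⟩ * a'⁻¹ := by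
    apply Subtype.ext
    show (a : G) * f1 * (a : G)⁻¹ = (a' : G) * f2 * (a' : G)⁻¹
    rw [hf2, hf]; group
  rw [map_mul, map_mul, e1, ← map_mul, ← map_mul, e3, map_mul, map_mul, ← e2, ← map_mul, ← map_mul]

/-- The image of the conjugate outside `Q` is the reflection of the first factor. -/
theorem φ_value {f0 : B.H} (hf0 : B.InF' f0) (hn0 : (f0 : G) ∉ B.Q) : B.φ f0 = (swap 0 1, 1) := by
  have hfixes : ∀ v : Vec, v.val < 16 → v ≠ 0 → act (B.φ f0) v = v := by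
    intro v hv hv0
    -- first compare the carry to `v` with the identity
    have hcarry : ∀ w : Vec, w.val < 16 → w ≠ 0 →
        ∃ a : B.H, (B.φ a).1 = 1 ∧ B.pv ((a : G) * B.u * (a : G)⁻¹) = w := by
      intro w hw hw0
      obtain ⟨y, hy, e⟩ := B.pv_surj w
      obtain ⟨a, ha, hau⟩ := B.carry (y := y) ⟨hy, by rw [e]; exact hw⟩
        (fun h => hw0 (by rw [← e, h]; exact (B.pv_eq_zero (one_mem _)).2 (Or.inl rfl)))
        (fun h => hw0 (by rw [← e, h]; exact (B.pv_eq_zero B.z_mem).2 (Or.inr rfl)))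
      exact ⟨a, ha, by rw [hau, e]⟩
    have step : ∀ a a' : B.H, (B.φ a).1 = 1 → (B.φ a').1 = 1 →
        om (B.pv ((a : G) * B.u * (a : G)⁻¹)) (B.pv ((a' : G) * B.u * (a' : G)⁻¹)) = false →
        B.φ (a * f0 * a⁻¹) = B.φ (a' * f0 * a'⁻¹) := by
      intro a a' ha ha' hom
      by_cases he : B.pv ((a : G) * B.u * (a : G)⁻¹) = B.pv ((a' : G) * B.u * (a' : G)⁻¹)
      · have hyF : (a : G) * B.u * (a : G)⁻¹ ∈ B.F := B.norm_F B.u_mem_F (Or.inl ha)
        have hy0 : B.pv ((a : G) * B.u * (a : G)⁻¹) ≠ 0 := by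
          rw [B.pv_conj a B.u_mem, B.u_one]; intro e
          have := congrArg (act (B.φ a)⁻¹) e
          rw [← act_mul, inv_mul_cancel, act_one, act_zero] at this
          exact absurd this (by decide)
        obtain ⟨t, ht0, htne, htom⟩ := other_orth _ hyF.2 hy0
        have htv : (Fin.ofNat 256 (t : ℕ) : Vec).val < 16 := by
          show (t : ℕ) % 256 < 16
          omega
        obtain ⟨b, hb, hbv⟩ := hcarry _ htv (fun e => ht0 (by
          have := congrArg Fin.val e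
          change (t : ℕ) % 256 = 0 at this
          omega))
        rw [B.coherent ha hb hf0 hn0 (by rw [hbv]; exact htne.symm) (by rw [hbv]; exact htom),
          B.coherent ha' hb hf0 hn0 (by rw [hbv, ← he]; exact htne.symm) (by rw [hbv, ← he]; exact htom)]
      · exact B.coherent ha ha' hf0 hn0 he hom
    obtain ⟨a, ha, hav⟩ := hcarry v hv hv0
    have h1u : B.pv (((1 : B.H) : G) * B.u * ((1 : B.H) : G)⁻¹) = 1 := by
      rw [OneMemClass.coe_one, one_mul, inv_one, mul_one, B.u_one]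
    obtain ⟨m, hm0, hm1, hm2⟩ := connected v hv hv0 1 (by decide) (by decide)
    have hmv : (Fin.ofNat 256 (m : ℕ) : Vec).val < 16 := by
      show (m : ℕ) % 256 < 16
      omega
    obtain ⟨b, hb, hbv⟩ := hcarry _ hmv (fun e => hm0 (by
      have := congrArg Fin.val e
      change (m : ℕ) % 256 = 0 at this
      omega))
    have h1 : (B.φ (1 : B.H)).1 = 1 := by rw [map_one]; rfl
    have e := (step a b ha hb (by rw [hav, hbv]; exact hm1)).trans
      (step b 1 hb h1 (by rw [hbv, h1u]; exact hm2))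
    rw [one_mul, inv_one, mul_one] at e
    rw [← e, ← hav]
    have hyQ := B.conj_mem_Q a.2 B.u_mem
    rw [← B.pv_conj _ hyQ]
    congr 1
    show (a : G) * f0 * (a : G)⁻¹ * ((a : G) * B.u * (a : G)⁻¹) * ((a : G) * f0 * (a : G)⁻¹)⁻¹ = _
    have hc : (f0 : G) * B.u * (f0 : G)⁻¹ = B.u :=
      mul_inv_eq_iff_eq_mul.2 (mem_centralizer_singleton_iff.1 (core_le_centralizer _ (B.F'_core hf0)))
    calc _ = (a : G) * ((f0 : G) * B.u * (f0 : G)⁻¹) * (a : G)⁻¹ := by group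
      _ = _ := by rw [hc]
  obtain ⟨hs, hp⟩ := fix_first (B.φ f0).1 (B.φ f0).2 (by
    intro i hi
    simp only [List.mem_cons, List.not_mem_nil, or_false] at hi
    rcases hi with rfl | rfl | rfl | rfl <;> exact hfixes _ (by decide) (by decide))
  rcases hs with hs | hs
  · exact absurd ((B.hker f0).1 (Prod.ext hs hp)) hn0
  · exact Prod.ext hs hp

theorem almost_comm {f x : G} (hf : B.InF' f) (hx : x ∈ B.F) :
    f * x * f⁻¹ = x ∨ f * x * f⁻¹ = x * B.z := by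
  have hH := B.F'_H hf
  refine B.pv_eq hx.1 (B.conj_mem_Q hH hx.1) ?_
  rw [B.pv_conj ⟨f, hH⟩ hx.1]
  by_cases hn : f ∈ B.Q
  · rw [(B.hker ⟨f, hH⟩).2 hn, act_one]
  · rw [B.φ_value (f0 := ⟨f, hH⟩) hf hn, ((transvection _).1).2 hx.2]

/-- `F` and its conjugate centralise each other. -/
theorem F'_comm {f x : G} (hf : B.InF' f) (hx : x ∈ B.F) : f * x = x * f := by
  rcases B.almost_comm hf hx with e | e
  · exact mul_inv_eq_iff_eq_mul.1 e
  exfalso
  have hf' : B.InF' (B.g * x * B.g⁻¹) := by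
    show B.g⁻¹ * _ * B.g ∈ B.F
    rwa [show B.g⁻¹ * (B.g * x * B.g⁻¹) * B.g = x by group]
  have hx' : B.g * f * B.g⁻¹ ∈ B.F := by
    have := B.pair_norm B.g_sq_pair.1 B.g_sq_pair.2 hf
    rwa [show B.g * B.g * (B.g⁻¹ * f * B.g) * (B.g * B.g)⁻¹ = B.g * f * B.g⁻¹ by group] at this
  have hxx := B.F_sq hx
  have hxinv : x⁻¹ = x := inv_eq_of_mul_eq_one_right hxx
  rcases B.almost_comm hf' hx' with e' | e'
  · have h1 : x * f * x⁻¹ = f := by
      calc x * f * x⁻¹ = B.g⁻¹ * ((B.g * x * B.g⁻¹) * (B.g * f * B.g⁻¹) * (B.g * x * B.g⁻¹)⁻¹) * B.g := by group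
        _ = f := by rw [e']; group
    rw [mul_inv_eq_iff_eq_mul.2 (mul_inv_eq_iff_eq_mul.1 h1).symm] at e
    exact B.extra.z_ne (mul_left_cancel ((mul_one x).trans e)).symm
  · have h1 : x * f * x⁻¹ = f * B.u := by
      calc x * f * x⁻¹ = B.g⁻¹ * ((B.g * x * B.g⁻¹) * (B.g * f * B.g⁻¹) * (B.g * x * B.g⁻¹)⁻¹) * B.g := by group
        _ = f * (B.g⁻¹ * B.z * B.g) := by rw [e']; group
        _ = f * B.u := by rw [B.inv_g_z]
    have h2 : x * f * x⁻¹ = f * B.z := by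
      have hfx : f * x = x * B.z * f := mul_inv_eq_iff_eq_mul.1 e
      have hzf : B.z * f = f * B.z := (B.mem_H.1 (B.F'_H hf)).symm
      calc x * f * x⁻¹ = x * (f * x) := by rw [hxinv, mul_assoc]
        _ = x * (x * B.z * f) := by rw [hfx]
        _ = (x * x) * (B.z * f) := by group
        _ = f * B.z := by rw [hxx, one_mul, hzf]
    exact B.u_ne (mul_left_cancel (h1.symm.trans h2))

include B in
/-- The configuration is impossible. -/
theorem impossible : False := by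
  classical
  obtain ⟨x2, hx2, ex2, hf0', hn0⟩ := B.exists_f0
  set f := B.g * x2 * B.g⁻¹ with hfdef
  have hfH := B.F'_H hf0'
  set f0 : B.H := ⟨f, hfH⟩ with hf0def
  have hφ : B.φ f0 = (swap 0 1, 1) := B.φ_value hf0' hn0
  have hfc : ∀ x ∈ B.F, f * x = x * f := fun x hx => B.F'_comm hf0' hx
  have hx2n : B.pv x2 ≠ 0 := by rw [ex2]; decide
  obtain ⟨h, hh, hhu⟩ := B.carry hx2
    (fun e => hx2n (by rw [e]; exact (B.pv_eq_zero (one_mem _)).2 (Or.inl rfl)))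
    (fun e => hx2n (by rw [e]; exact (B.pv_eq_zero B.z_mem).2 (Or.inr rfl)))
  have hcore : ∀ x, x ∈ core f ↔ (h : G)⁻¹ * (B.g⁻¹ * x * B.g) * (h : G) ∈ core B.u := by
    intro x
    rw [hfdef, ← hhu, show B.g * ((h : G) * B.u * (h : G)⁻¹) * B.g⁻¹ = (B.g * h) * B.u * (B.g * h)⁻¹ by group,
      mem_core_conj_iff]
    constructor <;> intro hm <;>
    · convert hm using 1; group
  have huS : B.u ∈ core f := by
    rw [hcore, B.inv_g_u, mul_assoc, ← B.mem_H.1 h.2, inv_mul_cancel_left]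
    exact B.z_mem_core
  have hzS : B.z ∉ core f := by
    rw [hcore, B.inv_g_z]
    intro hm
    have hF := B.carry_inv_F hh B.u_mem_F
    have h' := ((D_facts _).2.1 ((B.F_core hF).1 hm)).2
    have hh' : (B.φ h⁻¹).1 = 1 := by rw [map_inv, Prod.fst_inv, hh, inv_one]
    have e1 : B.pv ((h : G)⁻¹ * B.u * (h : G)) = act (1, (B.φ h⁻¹).2) 1 := by
      have := B.pv_carry hh' B.u_mem
      rw [InvMemClass.coe_inv, inv_inv, B.u_one] at this
      exact this
    have e2 : act (1, (B.φ h).2) 1 = 2 := by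
      rw [← ex2, ← hhu, B.pv_carry hh B.u_mem, B.u_one]
    rw [← om_act (B.φ h).2 hF.2, e2, e1, ← act_mul, Prod.mk_mul_mk, ← Prod.snd_mul, ← map_mul,
      mul_inv_cancel, map_one, one_mul, Prod.snd_one] at h'
    rw [show ((1 : Perm (Fin 3)), (1 : Perm (Fin 6))) = (1 : K) from rfl, act_one, om_facts.1] at h'
    exact Bool.noConfusion h'
  have hshift : ∀ a : B.H, (B.φ a).1 = 1 → ∀ x, x ∈ B.Q → ∀ v : Vec, v.val < 16 → B.pv x = shift v →
      B.pv ((a : G) * x * (a : G)⁻¹) = shift (act (1, (B.φ a).2) v) := fun a ha x hx v hv e => by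
    rw [B.pv_carry ha hx, e, (first_act _ v hv).2]
  -- every even element has a lift moving `f` to itself or to `f z`
  have half : ∀ p : Perm (Fin 6), Perm.sign p = 1 →
      ∃ a : B.H, B.φ a = (1, p) ∧ ((a : G) * f * (a : G)⁻¹ = f ∨ (a : G) * f * (a : G)⁻¹ = f * B.z) := by
    intro p hp
    obtain ⟨a, ha⟩ := B.alt (1, p) (map_one _) hp
    have ha1 : (B.φ a).1 = 1 := by rw [ha]
    set x := f⁻¹ * ((a : G) * f * (a : G)⁻¹) with hxdef
    have hxQ : x ∈ B.Q := by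
      have h1 : B.φ (f0⁻¹ * (a * f0 * a⁻¹)) = 1 := by
        rw [map_mul, map_mul, map_mul, map_inv, map_inv, hφ, ha]
        simp [Prod.ext_iff]
      exact (B.hker _).1 h1
    have hxF : x ∈ B.F := by
      refine ⟨hxQ, perp_first _ fun i hi => ?_⟩
      obtain ⟨y, hy, e⟩ := B.pv_surj i
      have hyF : y ∈ B.F := ⟨hy, by
        rw [e]
        simp only [List.mem_cons, List.not_mem_nil, or_false] at hi
        rcases hi with rfl | rfl | rfl | rfl <;> decide⟩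
      rw [← e, B.Bf_pv hy hxQ]
      have h1 := hfc y hyF
      have h2 := hfc _ (B.carry_inv_F ha1 hyF)
      have h3 : (a : G) * f * (a : G)⁻¹ * y = y * ((a : G) * f * (a : G)⁻¹) := by
        calc (a : G) * f * (a : G)⁻¹ * y = (a : G) * (f * ((a : G)⁻¹ * y * (a : G))) * (a : G)⁻¹ := by group
          _ = _ := by rw [h2]; group
      have h4 : y * f⁻¹ = f⁻¹ * y := by
        rw [eq_inv_mul_iff_mul_eq, ← mul_assoc, h1, mul_inv_cancel_right]
      rw [hxdef]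
      calc y * (f⁻¹ * ((a : G) * f * (a : G)⁻¹)) = f⁻¹ * (y * ((a : G) * f * (a : G)⁻¹)) := by
            rw [← mul_assoc, h4, mul_assoc]
        _ = _ := by rw [← h3]; group
    obtain ⟨q, hq, hqv⟩ := B.pv_surj (shift (B.pv x))
    have hd : f⁻¹ * q * f * q⁻¹ ∈ B.Q := by
      have h1 := B.conj_mem_Q (inv_mem hfH) hq
      rw [inv_inv] at h1
      exact mul_mem h1 (inv_mem hq)
    have hdv : B.pv (f⁻¹ * q * f * q⁻¹) = B.pv x := by
      have h1 : f⁻¹ * q * f ∈ B.Q := by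
        have := B.conj_mem_Q (inv_mem hfH) hq
        rwa [inv_inv] at this
      have h2 := B.pv_conj f0⁻¹ hq
      rw [InvMemClass.coe_inv, inv_inv, map_inv, hφ, swap_sq, hqv] at h2
      rw [B.pv_mul h1 (inv_mem hq), show B.pv q⁻¹ = B.pv q by rw [Geo.pv, Geo.pv, B.pr_inv hq], hqv]
      show B.pv (f⁻¹ * q * f) ^^^ _ = _
      rw [show f⁻¹ * q * f = ((f0 : B.H) : G)⁻¹ * q * (f0 : G) from rfl, h2, transvection_shift _ hxF.2]
    refine ⟨⟨q, B.Q_le_H hq⟩⁻¹ * a, by rw [map_mul, map_inv, B.φ_Q hq, inv_one, one_mul, ha], ?_⟩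
    have hconj : q⁻¹ * (a : G) * f * (q⁻¹ * (a : G))⁻¹ = q⁻¹ * (f * x) * q := by rw [hxdef]; group
    rcases B.pv_eq hd hxQ hdv with r | r
    · left
      show q⁻¹ * (a : G) * f * (q⁻¹ * (a : G))⁻¹ = f
      rw [hconj, r]; group
    · right
      show q⁻¹ * (a : G) * f * (q⁻¹ * (a : G))⁻¹ = f * B.z
      rw [hconj, r]
      calc q⁻¹ * (f * (f⁻¹ * q * f * q⁻¹ * B.z)) * q = f * (q⁻¹ * (B.z * q)) := by group
        _ = f * B.z := by rw [B.extra.z_comm hq, inv_mul_cancel_left]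
  have fix : ∀ i, ∃ a : B.H, B.φ a = (1, gen i) ∧ (a : G) * f = f * a := by
    have sq : ∀ p : Perm (Fin 6), Perm.sign p = 1 → p ^ 5 = 1 →
        ∃ a : B.H, B.φ a = (1, p) ∧ (a : G) * f = f * a := by
      intro p hp h5
      obtain ⟨a, ha, hcase⟩ := half (p ^ 3) (by rw [map_pow, hp, one_pow])
      refine ⟨a * a, ?_, ?_⟩
      · rw [map_mul, ha, Prod.mk_mul_mk, one_mul, ← pow_add, show 3 + 3 = 5 + 1 from rfl, pow_add, h5, one_mul, pow_one]
      apply mul_inv_eq_iff_eq_mul.1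
      show (a : G) * a * f * ((a : G) * a)⁻¹ = f
      have haz : (a : G) * B.z * (a : G)⁻¹ = B.z := mul_inv_eq_iff_eq_mul.2 (B.mem_H.1 a.2)
      rw [show (a : G) * a * f * ((a : G) * a)⁻¹ = (a : G) * ((a : G) * f * (a : G)⁻¹) * (a : G)⁻¹ by group]
      rcases hcase with r | r <;> rw [r]
      · exact r
      · rw [← conj_mul, r, haz, mul_assoc, B.extra.z_sq, mul_one]
    intro i
    obtain ⟨h1, h2, h3⟩ := five_products i
    obtain ⟨a, ha, haf⟩ := sq (five i) h3 h1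
    obtain ⟨b, hb, hbf⟩ := sq ((five i)⁻¹ * gen i) (by rw [map_mul, map_inv, h3, gen_sign]; rfl) h2
    refine ⟨a * b, by rw [map_mul, ha, hb, Prod.mk_mul_mk, one_mul, mul_inv_cancel_left], ?_⟩
    show (a : G) * b * f = f * ((a : G) * b)
    rw [mul_assoc, hbf, ← mul_assoc, haf, mul_assoc]
  have fixWord : ∀ w : List (Fin 4), ∃ a : B.H, B.φ a = (1, word w) ∧ (a : G) * f = f * a := by
    intro w
    induction w with
    | nil => exact ⟨1, by rw [map_one]; rfl, by simp⟩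
    | cons i w ih =>
      obtain ⟨a, ha, haf⟩ := fix i
      obtain ⟨b, hb, hbf⟩ := ih
      refine ⟨a * b, by rw [map_mul, ha, hb, Prod.mk_mul_mk, one_mul]; rfl, ?_⟩
      show (a : G) * b * f = f * ((a : G) * b)
      rw [mul_assoc, hbf, ← mul_assoc, haf, mul_assoc]
  -- the complement to the centre
  let S : G → Prop := fun x => x ∈ B.F ∧ x ∈ core f
  have Smul : ∀ a b, S a → S b → S (a * b) := fun a b ha hb => ⟨mul_mem ha.1 hb.1, mul_mem ha.2 hb.2⟩
  have Sinv : ∀ a : B.H, (B.φ a).1 = 1 → (a : G) * f = f * a → ∀ x, S x → S ((a : G) * x * (a : G)⁻¹) := by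
    intro a ha haf x hx
    refine ⟨B.norm_F hx.1 (Or.inl ha), ?_⟩
    exact (mem_normalizer_iff.1 (centralizer_le_normalizer_core f (mem_centralizer_singleton_iff.2 haf)) x).1 hx.2
  have Snot : ∀ x, S x → ¬ S (x * B.z) := fun x hx hxz => hzS (by
    have := mul_mem (inv_mem hx.2) hxz.2
    rwa [inv_mul_cancel_left] at this)
  have Sall : ∀ x ∈ B.F, S x ∨ S (x * B.z) := by
    intro x hx
    by_cases h0 : B.pv x = 0
    · rcases (B.pv_eq_zero hx.1).1 h0 with rfl | rfl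
      · exact Or.inl ⟨one_mem _, one_mem _⟩
      · exact Or.inr (by rw [B.extra.z_sq]; exact ⟨one_mem _, one_mem _⟩)
    obtain ⟨w, -, hw⟩ := reach _ hx.2 h0
    obtain ⟨a, ha, haf⟩ := fixWord w
    have hS := Sinv a (by rw [ha]) haf _ ⟨B.u_mem_F, huS⟩
    rcases B.pv_eq hx.1 hS.1.1 (by rw [B.pv_conj a B.u_mem, ha, B.u_one, hw]) with r | r
    · exact Or.inl (r ▸ hS)
    · exact Or.inr (r ▸ hS)
  let cm : G → G := fun q => q * f * q⁻¹ * f⁻¹
  have cm_F : ∀ q ∈ B.Q, cm q ∈ B.F ∧ B.pv (cm q) = Fin.ofNat 256 ((B.pv q).val / 16) := by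
    intro q hq
    have h1 : f * q⁻¹ * f⁻¹ ∈ B.Q := B.conj_mem_Q hfH (inv_mem hq)
    have he : cm q = q * (f * q⁻¹ * f⁻¹) := by simp only [cm]; group
    have hp : B.pv (cm q) = Fin.ofNat 256 ((B.pv q).val / 16) := by
      rw [he, B.pv_mul hq h1]
      have h2 := B.pv_conj f0 (inv_mem hq)
      rw [hφ, show B.pv q⁻¹ = B.pv q by rw [Geo.pv, Geo.pv, B.pr_inv hq]] at h2
      show B.pv q ^^^ B.pv (f * q⁻¹ * f⁻¹) = _
      rw [show f * q⁻¹ * f⁻¹ = (f0 : G) * q⁻¹ * (f0 : G)⁻¹ from rfl, h2, xor_comm', (transvection _).2]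
    refine ⟨⟨by rw [he]; exact mul_mem hq h1, ?_⟩, hp⟩
    rw [hp]; exact (shift_facts _).2.1
  have uniform : ∀ q q', q ∈ B.Q → q' ∈ B.Q → (B.pv q).val / 16 = (B.pv q').val / 16 → cm q = cm q' := by
    intro q q' hq hq' e
    have hx : q⁻¹ * q' ∈ B.F := by
      refine ⟨mul_mem (inv_mem hq) hq', ?_⟩
      rw [B.pv_mul (inv_mem hq) hq', show B.pv q⁻¹ = B.pv q by rw [Geo.pv, Geo.pv, B.pr_inv hq]]
      have h1 := (shift_facts (B.pv q)).2.2.1
      have h2 := (shift_facts (B.pv q')).2.2.1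
      rw [← e] at h2
      have := first_closed _ h1 _ h2
      rwa [show ∀ a b c : Vec, (a ^^^ c) ^^^ (b ^^^ c) = a ^^^ b from fun a b c => by
        rw [show (a ^^^ c) ^^^ (b ^^^ c) = a ^^^ b ^^^ (c ^^^ c) by ac_rfl, xor_self', xor_zero']] at this
    have hc : (q⁻¹ * q') * f = f * (q⁻¹ * q') := (hfc _ hx).symm
    show q * f * q⁻¹ * f⁻¹ = q' * f * q'⁻¹ * f⁻¹
    congr 1
    calc q * f * q⁻¹ = q * (f * (q⁻¹ * q')) * q'⁻¹ := by group
      _ = q' * f * q'⁻¹ := by rw [← hc]; group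
  obtain ⟨q1, hq1, e1⟩ := B.pv_surj 16
  obtain ⟨q2, hq2, e2⟩ := B.pv_surj 32
  obtain ⟨q4, hq4, e4⟩ := B.pv_surj 64
  have kind : ∀ q ∈ B.Q, (B.pv q).val / 16 ≠ 0 → (S (cm q) ↔ S (cm q1)) := by
    intro q hq hy
    obtain ⟨hv, hv0⟩ : (Fin.ofNat 256 ((B.pv q).val / 16) : Vec).val < 16 ∧
        (Fin.ofNat 256 ((B.pv q).val / 16) : Vec) ≠ 0 :=
      ⟨(shift_facts _).2.1, (shift_facts _).2.2.2 hy⟩
    obtain ⟨w, -, hw⟩ := reach _ hv hv0
    obtain ⟨a, ha, haf⟩ := fixWord w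
    have ha1 : (B.φ a).1 = 1 := by rw [ha]
    have hqa : B.pv ((a : G) * q1 * (a : G)⁻¹) = shift (Fin.ofNat 256 ((B.pv q).val / 16)) := by
      rw [hshift a ha1 q1 hq1 1 (by decide) (by rw [e1]; decide), ha, hw]
    have hsame : cm q = (a : G) * cm q1 * (a : G)⁻¹ := by
      rw [uniform q _ hq (B.conj_mem_Q a.2 hq1) (by
        rw [hqa, ((shift_facts _).1 hv).1]
        show _ = (B.pv q).val / 16 % 256
        rw [Nat.mod_eq_of_lt]
        omega)]
      have hfa : (a : G)⁻¹ * f = f * (a : G)⁻¹ := by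
        rw [inv_mul_eq_iff_eq_mul, ← mul_assoc, haf, mul_inv_cancel_right]
      show (a : G) * q1 * (a : G)⁻¹ * f * ((a : G) * q1 * (a : G)⁻¹)⁻¹ * f⁻¹ =
        (a : G) * (q1 * f * q1⁻¹ * f⁻¹) * (a : G)⁻¹
      calc _ = (a : G) * q1 * ((a : G)⁻¹ * f) * (a : G) * q1⁻¹ * (a : G)⁻¹ * f⁻¹ := by group
        _ = (a : G) * q1 * f * q1⁻¹ * ((a : G)⁻¹ * f⁻¹) := by rw [hfa]; group
        _ = (a : G) * q1 * f * q1⁻¹ * (f⁻¹ * (a : G)⁻¹) := by
          congr 1
          rw [← mul_inv_rev, ← mul_inv_rev, haf]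
        _ = _ := by group
    rw [hsame]
    refine ⟨fun hS => ?_, fun hS => Sinv a ha1 haf _ hS⟩
    have hi : (B.φ a⁻¹).1 = 1 := by rw [map_inv, Prod.fst_inv, ha1, inv_one]
    have haf' : ((a⁻¹ : B.H) : G) * f = f * ((a⁻¹ : B.H) : G) := by
      rw [InvMemClass.coe_inv, inv_mul_eq_iff_eq_mul, ← mul_assoc, haf, mul_inv_cancel_right]
    have := Sinv a⁻¹ hi haf' _ hS
    rwa [InvMemClass.coe_inv, inv_inv, show (a : G)⁻¹ * ((a : G) * cm q1 * (a : G)⁻¹) * (a : G) = cm q1 by group] at this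
  have cm_mul : ∀ q q', cm (q * q') = q * cm q' * q⁻¹ * cm q := fun q q' => by simp only [cm]; group
  have p2 : B.pv (cm q2) = 2 := by rw [(cm_F q2 hq2).2, e2]; decide
  have p4 : B.pv (cm q4) = 4 := by rw [(cm_F q4 hq4).2, e4]; decide
  have c12 : cm (q1 * q2) = cm q2 * cm q1 * B.z := by
    rw [cm_mul]
    have hn : ¬ (q1 * cm q2 = cm q2 * q1) := fun hc => by
      have := (B.Bf_pv hq1 (cm_F q2 hq2).1.1).2 hc
      rw [e1, p2, second_facts.2.1] at this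
      exact Bool.noConfusion this
    rw [B.extra.conj_eq_of_not_comm (cm_F q2 hq2).1.1 hq1 hn, mul_assoc (cm q2) B.z,
      B.extra.z_comm (cm_F q1 hq1).1.1, ← mul_assoc]
  have c14 : cm (q1 * q4) = cm q4 * cm q1 := by
    rw [cm_mul]
    congr 1
    apply mul_inv_eq_iff_eq_mul.2
    exact (B.Bf_pv hq1 (cm_F q4 hq4).1.1).1 (by rw [e1, p4]; exact second_facts.2.2.1)
  have k2 := kind q2 hq2 (by rw [e2]; decide)
  have k4 := kind q4 hq4 (by rw [e4]; decide)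
  have k12 := kind (q1 * q2) (mul_mem hq1 hq2) (by rw [B.pv_mul hq1 hq2, e1, e2]; decide)
  have k14 := kind (q1 * q4) (mul_mem hq1 hq4) (by rw [B.pv_mul hq1 hq4, e1, e4]; decide)
  by_cases hS : S (cm q1)
  · have h1 := k12.2 hS
    rw [c12] at h1
    exact Snot _ (Smul _ _ (k2.2 hS) hS) h1
  · have n4 : ¬ S (cm q4) := fun h => hS (k4.1 h)
    have a1 := (Sall _ (cm_F q1 hq1).1).resolve_left hS
    have a4 := (Sall _ (cm_F q4 hq4).1).resolve_left n4
    refine hS (k14.1 ?_)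
    rw [c14]
    have := Smul _ _ a4 a1
    rwa [show cm q4 * B.z * (cm q1 * B.z) = cm q4 * cm q1 by
      rw [← mul_assoc, mul_assoc (cm q4) B.z, B.extra.z_comm (cm_F q1 hq1).1.1, ← mul_assoc, mul_assoc _ B.z B.z,
        B.extra.z_sq, mul_one]] at this

end Base

/-- The main result: with no quotient of order two the situation does not occur. -/
theorem Ctx.impossible (c : Ctx G) (hres : Cfsg.pResidual 2 G = ⊤) : False := by
  obtain ⟨g, hu, hne⟩ := c.exists_fused hres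
  obtain ⟨X, hX⟩ := exists_geo c g hu hne
  obtain ⟨B⟩ := X.exists_swap (g := g) (by
    show g * X.z * g⁻¹ ∈ core X.z
    rw [hX]; exact hu) (by rw [hX]; exact hne)
  exact B.impossible

end CfsgLib.Characterizations.ExtraNine
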