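import Cfsg.Agent.Lib.Characterizations.ExtraNine.FusedFacts

/-!
Finite facts on the first summand of the model.
-/

set_option autoImplicit false
set_option synthInstance.maxSize 1024
set_option synthInstance.maxHeartbeats 200000
set_option maxRecDepth 20000

namespace CfsgLib.Characterizations.ExtraNine

open Equiv

/-- The copy in the second summand. -/
def shift (v : Vec) : Vec := Fin.ofNat 256 (v.val * 16)

theorem R1_gen : ∀ v : Vec, R1 (R (swap 0 1) v) = R1 v ∧ R1 (R (finRotate 6) v) = R1 v ∧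
    R1 (L (swap 0 1) v) = R1 v ∧ R1 (L (finRotate 3) v) = R1 v := by decide +kernel

theorem R1_act (g : K) (v : Vec) : R1 (act g v) = R1 v := by
  have hR : ∀ p v, R1 (R p v) = R1 v := forall_of_gen perm_six_gen _ (fun v => by rw [R_one])
    (by rintro a (rfl | rfl) v; exacts [(R1_gen v).1, (R1_gen v).2.1])
    fun a b ha hb v => by rw [R_mul, ha, hb]
  have hL : ∀ p v, R1 (L p v) = R1 v := forall_of_gen perm_three_gen _ (fun v => by rw [L_one])
    (by rintro a (rfl | rfl) v; exacts [(R1_gen v).2.2.1, (R1_gen v).2.2.2])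
    fun a b ha hb v => by rw [L_mul, ha, hb]
  rw [act, hL, hR]

theorem first_gen : ∀ v : Vec, v.val < 16 →
    ((R (swap 0 1) v).val < 16 ∧ R (swap 0 1) (shift v) = shift (R (swap 0 1) v)) ∧
    (R (finRotate 6) v).val < 16 ∧ R (finRotate 6) (shift v) = shift (R (finRotate 6) v) := by
  decide +kernel

theorem first_act (p : Perm (Fin 6)) : ∀ v : Vec, v.val < 16 →
    (act (1, p) v).val < 16 ∧ act (1, p) (shift v) = shift (act (1, p) v) := by
  refine forall_of_gen perm_six_gen (fun p => ∀ v : Vec, v.val < 16 →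
    (act (1, p) v).val < 16 ∧ act (1, p) (shift v) = shift (act (1, p) v)) ?_ ?_ ?_ p
  · intro v hv
    simp only [act, L_one, R_one]
    exact ⟨hv, trivial⟩
  · rintro a (rfl | rfl) v hv
    · simp only [act, L_one]; exact (first_gen v hv).1
    · simp only [act, L_one]; exact (first_gen v hv).2
  · intro a b ha hb v hv
    have e : ((1, a * b) : K) = (1, a) * (1, b) := by rw [Prod.mk_mul_mk, one_mul]
    rw [e, act_mul, act_mul, (hb v hv).2, (ha _ (hb v hv).1).2]
    exact ⟨(ha _ (hb v hv).1).1, rfl⟩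

theorem om_eq (v w : Vec) : om v w = Qf (v ^^^ shift w) := rfl

theorem om_act (p : Perm (Fin 6)) {v w : Vec} (hw : w.val < 16) :
    om (act (1, p) v) (act (1, p) w) = om v w := by
  rw [om_eq, om_eq, ← (first_act p w hw).2, ← act_xor, Qf_act]

theorem perp_sep : ∀ v : Vec, v.val < 16 → v ≠ 0 → ∀ w : Vec, w.val < 16 → w ≠ 0 → v ≠ w →
    ∃ x : Fin 16, om v (Fin.ofNat 256 x.val) = false ∧ om w (Fin.ofNat 256 x.val) = true := by
  decide +kernel

theorem D_facts : ∀ v : Vec,
    (inD v = true ↔ inU v = true ∧ v.val < 16) ∧ (inD v = true ↔ v.val < 16 ∧ om 1 v = false) := by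
  decide +kernel

theorem nonD_xor : ∀ v : Vec, v.val < 16 → inD v = false → ∀ w : Vec, w.val < 16 → inD w = false →
    inD (v ^^^ w) = true := by decide +kernel

theorem U_nonD_xor : ∀ v : Vec, inU v = true → inD v = false → ∀ w : Vec, inU w = true → inD w = false →
    inD (v ^^^ w) = true := by decide +kernel

theorem inD_sample : inD 0 = true ∧ inD 1 = true ∧ inD 4 = true ∧ inD 8 = true ∧ inD 12 = true ∧
    inU 16 = true ∧ inD 16 = false := by decide +kernel

theorem perp_first : ∀ v : Vec, (∀ i ∈ ([1, 2, 4, 8] : List Vec), Bf i v = false) → v.val < 16 := by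
  decide +kernel

theorem first_perp : ∀ v : Vec, v.val < 16 → ∀ w : Vec, w.val < 16 → Bf v w = false := by decide +kernel

theorem second_facts : (∀ v : Vec, (v.val / 16 = 1 → v = 16 ∨ ∃ w : Fin 16, v = Fin.ofNat 256 w.val ^^^ 16)) ∧
    Bf 16 2 = true ∧ Bf 16 4 = false ∧ Bf 16 1 = false ∧ Bf 32 1 = true ∧ Bf 64 1 = false := by
  decide +kernel

theorem first_decomp : ∀ v : Vec, v.val < 16 → v ∈ spanList [1, 2, 4, 8] := by decide +kernel

end CfsgLib.Characterizations.ExtraNine
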