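import Cfsg.Agent.Lib.Characterizations.ExtraNine.Rep
import Mathlib.GroupTheory.Sylow
import Mathlib.LinearAlgebra.Dual.Lemmas

/-!
The element of order three of the first factor fixes only zero in a quadratic space of dimension
eight that carries a fused involution.

The space splits orthogonally into the fixed space `Fix` and the space `Mov` killed by
`1 + t + t²`. If `Fix` is nonzero, the alternating group is trivial on `Mov`, so `Fix` has order
`64` and `Mov` is an anisotropic plane, and then the fused data are too large for such a space.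
-/

set_option autoImplicit false
set_option linter.unusedSectionVars false
set_option linter.deprecated false

namespace CfsgLib.Characterizations.ExtraNine

open Equiv

section General

/-- In an elementary abelian two-group with a biadditive form, two orthogonal subgroups, the first
meeting the kernel of the form trivially, have product of orders at most the order of the group. -/
theorem card_mul_card_le_of_orth {A : Type*} [AddCommGroup A] [Finite A] (h2 : ∀ a : A, a + a = 0)
    (b : A →+ A →+ ZMod 2) (X Y : AddSubgroup A) (horth : ∀ x ∈ X, ∀ y ∈ Y, b x y = 0)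
    (hinj : ∀ x ∈ X, (∀ a, b x a = 0) → x = 0) : Nat.card X * Nat.card Y ≤ Nat.card A := by
  classical
  let φ : X →+ (A ⧸ Y →+ ZMod 2) :=
    { toFun := fun x => QuotientAddGroup.lift Y (b x) (fun y hy => horth x x.2 y hy)
      map_zero' := by ext a; simp
      map_add' := fun x x' => by
        ext a
        show b ((x + x' : X) : A) a = b x a + b x' a
        simp }
  have hφ : Function.Injective φ := by
    rw [injective_iff_map_eq_zero]
    intro x hx
    refine Subtype.ext (hinj x x.2 fun a => ?_)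
    exact DFunLike.congr_fun hx (a : A ⧸ Y)
  let _ : Module (ZMod 2) (A ⧸ Y) := AddCommGroup.zmodModule (fun q => by
    induction q using QuotientAddGroup.induction_on with
    | H a => rw [two_nsmul, ← QuotientAddGroup.mk_add, h2, QuotientAddGroup.mk_zero])
  have hl : Function.Injective
      (fun f : A ⧸ Y →+ ZMod 2 => (f.toZModLinearMap 2 : A ⧸ Y →ₗ[ZMod 2] ZMod 2)) :=
    fun f g h => AddMonoidHom.ext fun a => LinearMap.congr_fun h a
  have : Finite (A ⧸ Y →ₗ[ZMod 2] ZMod 2) := Module.finite_of_finite (ZMod 2)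
  have : Nat.card X ≤ Nat.card (A ⧸ Y) := by
    refine (Nat.card_le_card_of_injective _ (hl.comp hφ)).trans (le_of_eq ?_)
    rw [Module.natCard_eq_pow_finrank (K := ZMod 2),
      Module.natCard_eq_pow_finrank (K := ZMod 2) (V := A ⧸ Y)]
    exact congrArg _ Subspace.dual_finrank_eq
  calc Nat.card X * Nat.card Y ≤ Nat.card (A ⧸ Y) * Nat.card Y := Nat.mul_le_mul_right _ this
    _ = Nat.card A := by rw [← AddSubgroup.card_eq_card_quotient_mul_card_addSubgroup]

/-- An invariant set without fixed points of a map of prime order has order divisible by the prime. -/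
theorem dvd_ncard_of_fixedFree {A : Type*} (f : A → A) (p : ℕ) [hp : Fact p.Prime]
    (hf : ∀ x, f^[p] x = x) (S : Set A) [Finite S] (hS : ∀ x ∈ S, f x ∈ S)
    (hfree : ∀ x ∈ S, f x ≠ x) : p ∣ Nat.card S := by
  classical
  have := Fintype.ofFinite S
  let g : Function.End S := fun x => ⟨f x.1, hS _ x.2⟩
  have hg : g ^ p ^ 1 = 1 := by
    rw [pow_one]
    show g^[p] = id
    funext x
    have h : ∀ n, ((g^[n] x : S) : A) = f^[n] x.1 := by
      intro n
      induction n with
      | zero => rfl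
      | succ n ih =>
        rw [Function.iterate_succ_apply', Function.iterate_succ_apply', ← ih]
    exact Subtype.ext ((h p).trans (hf x.1))
  have h := Equiv.Perm.card_fixedPoints_modEq (f := g) hg
  have h0 : Fintype.card g.fixedPoints = 0 := by
    rw [Fintype.card_eq_zero_iff]
    exact ⟨fun x => hfree x.1.1 x.1.2 (congrArg Subtype.val x.2)⟩
  rw [h0] at h
  rw [Nat.card_eq_fintype_card]
  exact Nat.modEq_zero_iff_dvd.1 h

theorem zmod_two_cases (a : ZMod 2) : a = 0 ∨ a = 1 := by revert a; decide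

/-- A subgroup of the symmetric group on six points in which every element squares to one has
order at most eight. -/
theorem card_le_eight (H : Subgroup (Perm (Fin 6))) (h : ∀ x ∈ H, x * x = 1) : Nat.card H ≤ 8 := by
  have hp : IsPGroup 2 H := fun x => ⟨1, by rw [pow_one, pow_two]; exact Subtype.ext (h x x.2)⟩
  obtain ⟨k, hk⟩ := IsPGroup.iff_card.1 hp
  have hd : Nat.card H ∣ 720 := by
    have := H.card_subgroup_dvd_card
    rwa [Nat.card_perm, Nat.card_fin] at this
  by_contra hlt
  push Not at hlt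
  have hk4 : k = 4 := by
    have hb : k < 10 := by
      by_contra hb
      push Not at hb
      have h1 : (2 : ℕ) ^ 10 ≤ 720 :=
        (Nat.pow_le_pow_right (by norm_num) hb).trans (hk ▸ Nat.le_of_dvd (by norm_num) hd)
      norm_num at h1
    rw [hk] at hd hlt
    revert hd hlt
    interval_cases k <;> norm_num
  have hv : Nat.card H = 2 ^ (Nat.card (Perm (Fin 6))).factorization 2 := by
    rw [hk, hk4, Nat.card_perm, Nat.card_fin]
    have : (Nat.factorial 6).factorization 2 = 4 := by
      have h720 : Nat.factorial 6 = 2 ^ 4 * 45 := by decide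
      rw [h720, Nat.factorization_mul (by norm_num) (by norm_num), Finsupp.add_apply,
        Nat.Prime.factorization_pow Nat.prime_two, Finsupp.single_eq_same,
        Nat.factorization_eq_zero_of_not_dvd (by norm_num)]
    rw [this]
  let P : Sylow 2 (Perm (Fin 6)) := Sylow.ofCard H hv
  let σ : Perm (Fin 6) := swap 0 1 * swap 1 2 * swap 2 3
  have hσp : IsPGroup 2 (Subgroup.zpowers σ) :=
    IsPGroup.of_card (n := 2) (by
      rw [Nat.card_zpowers]
      exact orderOf_eq_prime_pow (p := 2) (n := 1) (by decide +kernel) (by decide +kernel))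
  obtain ⟨Q, hQ⟩ := hσp.exists_le_sylow
  obtain ⟨g, hg⟩ := MulAction.exists_smul_eq (Perm (Fin 6)) Q P
  have hm : g * σ * g⁻¹ ∈ H := by
    have : g * σ * g⁻¹ ∈ ((g • Q : Sylow 2 (Perm (Fin 6))) : Subgroup (Perm (Fin 6))) := by
      rw [Sylow.coe_subgroup_smul]
      exact Subgroup.smul_mem_pointwise_smul σ (MulAut.conj g) _ (hQ (Subgroup.mem_zpowers σ))
    rw [hg] at this
    simpa [P] using this
  have h1 := h _ hm
  have : σ * σ = 1 := by
    have h2 : g * σ * g⁻¹ * (g * σ * g⁻¹) = g * (σ * σ) * g⁻¹ := by group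
    rw [h2] at h1
    exact conj_eq_one_iff.1 h1
  revert this
  decide +kernel

theorem three_conj : ∀ a : Perm (Fin 3),
    gth.1 * a = a * gth.1 ∨ gth.1 * a = a * (gth.1 * gth.1) := by
  decide +kernel

theorem three_comm : ∀ a : Perm (Fin 3), a * a = 1 →
    (gth.1 * a * gth.1⁻¹ * a) * (gth.1 * a * gth.1⁻¹ * a) = 1 → a = 1 := by
  decide +kernel

theorem three_invol : ∀ a : Perm (Fin 3), a * a = 1 → Perm.sign a = 1 → a = 1 := by
  decide +kernel

theorem gth_conj (g : K) : gth * g = g * gth ∨ gth * g = g * (gth * gth) := by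
  rcases three_conj g.1 with h | h
  · exact Or.inl (Prod.ext h (by simp [gth]))
  · exact Or.inr (Prod.ext h (by simp [gth]))

theorem pair_cover : ∀ p q r : ZMod 2 × ZMod 2, p ≠ 0 → q ≠ 0 → q ≠ p →
    r = 0 ∨ r = p ∨ r = q ∨ r = p + q := by
  decide

end General

namespace Rep

variable {V : Type*} [AddCommGroup V] (D : Rep V)

/-- The polar form as a biadditive map. -/
def bhom : V →+ V →+ ZMod 2 :=
  AddMonoidHom.mk' (fun x => AddMonoidHom.mk' (D.B x) (fun y z => D.B_add_right x y z))
    (fun x y => AddMonoidHom.ext fun z => D.B_add_left x y z)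

@[simp] theorem bhom_apply (x y : V) : D.bhom x y = D.B x y := rfl

theorem card_mul_card_le [Finite V] (X Y : AddSubgroup V) (h : ∀ x ∈ X, ∀ y ∈ Y, D.B x y = 0) :
    Nat.card X * Nat.card Y ≤ 256 := by
  have := card_mul_card_le_of_orth D.two D.bhom X Y h (fun x _ hx => D.eq_zero_of_B hx)
  rwa [D.card] at this

include D in
theorem eq_of_add_eq_zero {x y : V} (h : x + y = 0) : x = y := by
  calc x = x + (y + y) := by rw [D.two, add_zero]
    _ = x + y + y := (add_assoc _ _ _).symm
    _ = y := by rw [h, zero_add]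

include D in
theorem neg_eq (x : V) : -x = x := neg_eq_of_add_eq_zero_right (D.two x)

/-- The element of order three acting. -/
def t (x : V) : V := D.op gth x

theorem t_add (x y : V) : D.t (x + y) = D.t x + D.t y := D.op_add _ D.gth_mem x y

theorem t_zero : D.t 0 = 0 := D.op_zero D.gth_mem

theorem t_cube (x : V) : D.t (D.t (D.t x)) = x := by
  unfold t
  rw [← D.op_mul _ D.gth_mem _ D.gth_mem, ← D.op_mul _ (mul_mem D.gth_mem D.gth_mem) _ D.gth_mem,
    show gth * gth * gth = 1 by decide +kernel, D.op_one]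

theorem B_t (x y : V) : D.B (D.t x) (D.t y) = D.B x y := D.B_op D.gth_mem x y

/-- The fixed space. -/
def Fix : AddSubgroup V where
  carrier := {x | D.t x = x}
  add_mem' {x y} hx hy := by
    show D.t (x + y) = x + y
    rw [D.t_add, show D.t x = x from hx, show D.t y = y from hy]
  zero_mem' := D.t_zero
  neg_mem' {x} hx := by
    show D.t (-x) = -x
    rw [D.neg_eq]; exact hx

/-- The space of commutators. -/
def Mov : AddSubgroup V where
  carrier := {x | x + D.t x + D.t (D.t x) = 0}
  add_mem' {x y} hx hy := by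
    show (x + y) + D.t (x + y) + D.t (D.t (x + y)) = 0
    calc (x + y) + D.t (x + y) + D.t (D.t (x + y))
        = (x + D.t x + D.t (D.t x)) + (y + D.t y + D.t (D.t y)) := by
          simp only [D.t_add]; abel
      _ = 0 := by rw [show x + D.t x + D.t (D.t x) = 0 from hx,
          show y + D.t y + D.t (D.t y) = 0 from hy, add_zero]
  zero_mem' := by simp [D.t_zero]
  neg_mem' {x} hx := by
    show -x + D.t (-x) + D.t (D.t (-x)) = 0
    rw [D.neg_eq]; exact hx

theorem mem_Fix {x : V} : x ∈ D.Fix ↔ D.t x = x := Iff.rfl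

theorem mem_Mov {x : V} : x ∈ D.Mov ↔ x + D.t x + D.t (D.t x) = 0 := Iff.rfl

theorem t_mem_Mov {x : V} (hx : x ∈ D.Mov) : D.t x ∈ D.Mov := by
  rw [mem_Mov] at hx ⊢
  rw [D.t_cube]
  rw [← hx]; abel

/-- The fixed part of a vector. -/
def p0 (x : V) : V := x + D.t x + D.t (D.t x)

/-- The moved part of a vector. -/
def p1 (x : V) : V := D.t x + D.t (D.t x)

theorem p0_add_p1 (x : V) : D.p0 x + D.p1 x = x := by
  unfold p0 p1
  rw [add_assoc x, add_assoc, D.two, add_zero]

theorem p0_mem (x : V) : D.p0 x ∈ D.Fix := by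
  rw [mem_Fix, p0, D.t_add, D.t_add, D.t_cube]
  abel

theorem p1_mem (x : V) : D.p1 x ∈ D.Mov := by
  rw [mem_Mov, p1, D.t_add, D.t_cube, D.t_add, D.t_cube]
  have e : D.t x + D.t (D.t x) + (D.t (D.t x) + x) + (x + D.t x)
      = (D.t x + D.t x) + (D.t (D.t x) + D.t (D.t x)) + (x + x) := by abel
  rw [e]
  simp only [D.two]

theorem B_Fix_Mov {a b : V} (ha : a ∈ D.Fix) (hb : b ∈ D.Mov) : D.B a b = 0 := by
  have h1 : D.B a (D.t b) = D.B a b := by
    conv_lhs => rw [← show D.t a = a from ha]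
    exact D.B_t a b
  have h2 : D.B a (D.t (D.t b)) = D.B a b := by
    conv_lhs => rw [← show D.t a = a from ha]
    rw [D.B_t, h1]
  have h := congrArg (D.B a) (D.mem_Mov.1 hb)
  rw [D.B_add_right, D.B_add_right, h1, h2, D.B_zero_right] at h
  rcases zmod_two_cases (D.B a b) with e | e
  · exact e
  · rw [e] at h; exact absurd h (by decide)

theorem Fix_inf_Mov {x : V} (h0 : x ∈ D.Fix) (h1 : x ∈ D.Mov) : x = 0 := by
  rw [mem_Fix] at h0
  rw [mem_Mov, h0, h0, D.two, zero_add] at h1
  exact h1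

theorem op_mem_Fix {g : K} (hg : g ∈ D.KI) {x : V} (hx : x ∈ D.Fix) : D.op g x ∈ D.Fix := by
  show D.op gth (D.op g x) = D.op g x
  have hx' : D.op gth x = x := hx
  rw [← D.op_mul _ D.gth_mem _ hg]
  rcases gth_conj g with h | h
  · rw [h, D.op_mul _ hg _ D.gth_mem, hx']
  · rw [h, D.op_mul _ hg _ (mul_mem D.gth_mem D.gth_mem), D.op_mul _ D.gth_mem _ D.gth_mem, hx', hx']

theorem op_mem_Mov {g : K} (hg : g ∈ D.KI) {x : V} (hx : x ∈ D.Mov) : D.op g x ∈ D.Mov := by
  rw [mem_Mov] at hx ⊢
  rcases gth_conj g with h | h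
  · have e : ∀ y, D.t (D.op g y) = D.op g (D.t y) := fun y => by
      unfold t
      rw [← D.op_mul _ D.gth_mem _ hg, h, D.op_mul _ hg _ D.gth_mem]
    rw [e, e, ← D.op_add _ hg, ← D.op_add _ hg, hx, D.op_zero hg]
  · have e : ∀ y, D.t (D.op g y) = D.op g (D.t (D.t y)) := fun y => by
      unfold t
      rw [← D.op_mul _ D.gth_mem _ hg, h, D.op_mul _ hg _ (mul_mem D.gth_mem D.gth_mem),
        D.op_mul _ D.gth_mem _ D.gth_mem]
    rw [e, e, D.t_cube, ← D.op_add _ hg, ← D.op_add _ hg]
    rw [show x + D.t (D.t x) + D.t x = x + D.t x + D.t (D.t x) by abel, hx, D.op_zero hg]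

/-- The splitting as a bijection. -/
def split : V ≃ D.Fix × D.Mov where
  toFun x := (⟨D.p0 x, D.p0_mem x⟩, ⟨D.p1 x, D.p1_mem x⟩)
  invFun p := p.1.1 + p.2.1
  left_inv x := D.p0_add_p1 x
  right_inv p := by
    obtain ⟨⟨a, ha⟩, ⟨b, hb⟩⟩ := p
    have e1 : D.p1 (a + b) = b := by
      unfold p1
      rw [D.t_add, show D.t a = a from ha, D.t_add, show D.t a = a from ha]
      have hb' := D.eq_of_add_eq_zero (show b + (D.t b + D.t (D.t b)) = 0 by
        rw [← add_assoc]; exact hb)
      calc a + D.t b + (a + D.t (D.t b)) = (a + a) + (D.t b + D.t (D.t b)) := by abel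
        _ = b := by rw [D.two, zero_add]; exact hb'.symm
    have e0 : D.p0 (a + b) = a := by
      have := D.p0_add_p1 (a + b)
      rw [e1] at this
      exact add_right_cancel this
    exact Prod.ext (Subtype.ext e0) (Subtype.ext e1)

theorem card_split : Nat.card D.Fix * Nat.card D.Mov = 256 := by
  rw [← Nat.card_prod, ← Nat.card_congr D.split, D.card]

theorem t_free {x : V} (hx : x ∈ D.Mov) (h0 : x ≠ 0) : D.t x ≠ x := fun h =>
  h0 (D.Fix_inf_Mov h hx)

theorem three_dvd [Finite V] (S : Set V) (hS : ∀ x ∈ S, D.t x ∈ S) (hM : S ⊆ D.Mov) (h0 : (0 : V) ∉ S) :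
    3 ∣ Nat.card S := by
  have : Fact (Nat.Prime 3) := ⟨Nat.prime_three⟩
  exact dvd_ncard_of_fixedFree D.t 3 D.t_cube S hS
    fun x hx => D.t_free (hM hx) (fun e => h0 (e ▸ hx))

include D in
theorem card_pow [Finite V] (X : AddSubgroup V) : ∃ k ≤ 8, Nat.card X = 2 ^ k := by
  have h := X.card_addSubgroup_dvd_card
  rw [D.card, show (256 : ℕ) = 2 ^ 8 by norm_num] at h
  exact (Nat.dvd_prime_pow Nat.prime_two).1 h

include D in
theorem card_ne_zero_part [Finite V] (X : AddSubgroup V) :
    Nat.card {x | x ∈ X ∧ x ≠ 0} + 1 = Nat.card X := by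
  have e : {x | x ∈ X ∧ x ≠ 0} = (X : Set V) \ {0} := rfl
  rw [Nat.card_coe_set_eq, e,
    Set.ncard_diff_singleton_add_one (SetLike.mem_coe.2 X.zero_mem) (Set.toFinite _)]
  exact Nat.card_coe_set_eq (X : Set V)

/-- A space with more than four elements on which the form is nondegenerate carries no form that
is constant off zero. -/
theorem q_not_constant [Finite V] (X : AddSubgroup V) (hc : 4 < Nat.card X)
    (hnd : ∀ x ∈ X, (∀ y ∈ X, D.B x y = 0) → x = 0) (c : ZMod 2) :
    ¬ ∀ x ∈ X, x ≠ 0 → D.q x = c := by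
  classical
  intro hq
  have hB : ∀ x ∈ X, ∀ y ∈ X, x ≠ 0 → y ≠ 0 → x ≠ y → D.B x y = c := by
    intro x hx y hy hx0 hy0 hxy
    have hs : x + y ≠ 0 := fun e => hxy (D.eq_of_add_eq_zero e)
    unfold B
    rw [hq _ (add_mem hx hy) hs, hq x hx hx0, hq y hy hy0]
    rcases zmod_two_cases c with e | e <;> rw [e] <;> decide
  obtain ⟨x, hx, hx0⟩ : ∃ x ∈ X, x ≠ 0 := by
    by_contra hn
    push Not at hn
    have : (X : Set V) ⊆ {0} := fun x hx => hn x hx
    have := Set.ncard_le_ncard this
    rw [Set.ncard_singleton, ← Nat.card_coe_set_eq, SetLike.coe_sort_coe] at this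
    omega
  rcases zmod_two_cases c with e | e
  · refine hx0 (hnd x hx fun y hy => ?_)
    by_cases hy0 : y = 0
    · rw [hy0, D.B_zero_right]
    by_cases hxy : x = y
    · rw [hxy, D.B_self]
    rw [hB x hx y hy hx0 hy0 hxy, e]
  · obtain ⟨y, hy, hy0, hyx⟩ : ∃ y ∈ X, y ≠ 0 ∧ y ≠ x := by
      by_contra hn
      push Not at hn
      have : (X : Set V) ⊆ {0, x} := fun z hz => by
        by_cases hz0 : z = 0
        · exact Or.inl hz0
        · exact Or.inr (hn z hz hz0)
      have := (Set.ncard_le_ncard this).trans (Set.ncard_insert_le _ _)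
      rw [Set.ncard_singleton, ← Nat.card_coe_set_eq, SetLike.coe_sort_coe] at this
      omega
    obtain ⟨z, hz, hz0, hzx, hzy, hzs⟩ : ∃ z ∈ X, z ≠ 0 ∧ z ≠ x ∧ z ≠ y ∧ z ≠ x + y := by
      by_contra hn
      push Not at hn
      have : (X : Set V) ⊆ {0, x, y, x + y} := fun z hz => by
        simp only [Set.mem_insert_iff, Set.mem_singleton_iff]
        by_cases h1 : z = 0
        · exact Or.inl h1
        by_cases h2 : z = x
        · exact Or.inr (Or.inl h2)
        by_cases h3 : z = y
        · exact Or.inr (Or.inr (Or.inl h3))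
        exact Or.inr (Or.inr (Or.inr (hn z hz h1 h2 h3)))
      have h4 : ({0, x, y, x + y} : Set V).ncard ≤ 4 := by
        have h1 := Set.ncard_insert_le (0 : V) {x, y, x + y}
        have h2 := Set.ncard_insert_le x {y, x + y}
        have h3 := Set.ncard_insert_le y {x + y}
        rw [Set.ncard_singleton] at h3
        omega
      have := (Set.ncard_le_ncard this).trans h4
      rw [← Nat.card_coe_set_eq, SetLike.coe_sort_coe] at this
      omega
    have hyz : y + z ≠ 0 := fun e => hzy (D.eq_of_add_eq_zero e).symm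
    have hxyz : x ≠ y + z := fun e => hzs (by rw [e, add_comm y z, add_assoc, D.two, add_zero])
    have h1 := hB x hx (y + z) (add_mem hy hz) hx0 hyz hxyz
    rw [D.B_add_right, hB x hx y hy hx0 hy0 (Ne.symm hyx), hB x hx z hz hx0 hz0 (Ne.symm hzx), e] at h1
    exact absurd h1 (by decide)

section Five

variable (σ : Perm (Fin 6))

/-- An element of the second factor acting. -/
def P (x : V) : V := D.op (1, σ) x

/-- The sum of the nontrivial powers. -/
def E (x : V) : V :=
  D.P σ x + D.P σ (D.P σ x) + D.P σ (D.P σ (D.P σ x)) + D.P σ (D.P σ (D.P σ (D.P σ x)))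

variable {σ} (hsg : Perm.sign σ = 1) (h5 : σ ^ 5 = 1)

include hsg in
theorem one_mem : ((1, σ) : K) ∈ D.KI := D.alt_le _ (map_one _) hsg

include hsg in
theorem P_add (x y : V) : D.P σ (x + y) = D.P σ x + D.P σ y := D.op_add _ (D.one_mem hsg) x y

include hsg h5 in
theorem P_five (x : V) : D.P σ (D.P σ (D.P σ (D.P σ (D.P σ x)))) = x := by
  have h := D.one_mem hsg
  unfold P
  rw [← D.op_mul _ h _ h, ← D.op_mul _ (mul_mem h h) _ h, ← D.op_mul _ (mul_mem (mul_mem h h) h) _ h,
    ← D.op_mul _ (mul_mem (mul_mem (mul_mem h h) h) h) _ h]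
  rw [show ((1, σ) : K) * (1, σ) * (1, σ) * (1, σ) * (1, σ) = 1 from ?_, D.op_one]
  simp only [Prod.mk_mul_mk, mul_one]
  rw [show σ * σ * σ * σ * σ = σ ^ 5 by simp [pow_succ], h5]
  rfl

include hsg in
theorem E_mem (X : AddSubgroup V) (hX : ∀ x ∈ X, D.P σ x ∈ X) {x : V} (hx : x ∈ X) : D.E σ x ∈ X :=
  add_mem (add_mem (add_mem (hX _ hx) (hX _ (hX _ hx))) (hX _ (hX _ (hX _ hx))))
    (hX _ (hX _ (hX _ (hX _ hx))))

include hsg h5 in
theorem five_split (x : V) : D.P σ (x + D.E σ x) = x + D.E σ x ∧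
    D.E σ x + D.E σ (D.E σ x) = 0 := by
  have hP : D.P σ (x + D.E σ x) = x + D.E σ x := by
    unfold E
    simp only [D.P_add hsg, D.P_five hsg h5]
    abel
  refine ⟨hP, ?_⟩
  have hE : D.E σ (x + D.E σ x) = 0 := by
    unfold E at hP ⊢
    simp only [hP]
    simp only [D.two, zero_add]
  have hadd : ∀ a b, D.E σ (a + b) = D.E σ a + D.E σ b := fun a b => by
    unfold E; simp only [D.P_add hsg]; abel
  rw [← hadd] at *
  rw [hadd] at hE
  rw [hadd]
  exact hE

include hsg h5 in
/-- The commutator space of an element of order five on an invariant direct summand. -/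
theorem five_space [Finite V] (X X' : AddSubgroup V) (hX : ∀ x ∈ X, D.P σ x ∈ X)
    (hXX : ∀ a ∈ X, ∀ b ∈ X', D.B a b = 0) (hspan : ∀ y : V, ∃ a ∈ X, ∃ b ∈ X', y = a + b) :
    ∃ T : AddSubgroup V, T ≤ X ∧ (∀ x ∈ T, D.P σ x ∈ T) ∧ (∀ x ∈ T, D.P σ x = x → x = 0) ∧
      Nat.card T % 5 = 1 ∧ (∀ x ∈ T, (∀ y ∈ T, D.B x y = 0) → x = 0) ∧
      (T = ⊥ → ∀ x ∈ X, D.P σ x = x) ∧ (∀ x ∈ X, x + D.E σ x = 0 → x ∈ T) := by
  let T : AddSubgroup V :=
    { carrier := {x | x ∈ X ∧ x + D.E σ x = 0}
      add_mem' := fun {a b} ha hb => ⟨add_mem ha.1 hb.1, by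
        have e : a + b + D.E σ (a + b) = (a + D.E σ a) + (b + D.E σ b) := by
          unfold E; simp only [D.P_add hsg]; abel
        rw [e, ha.2, hb.2, add_zero]⟩
      zero_mem' := ⟨zero_mem X, by
        have : D.P σ (0 : V) = 0 := D.op_zero (D.one_mem hsg)
        unfold E; simp only [this, add_zero]⟩
      neg_mem' := fun {a} ha => by rw [D.neg_eq]; exact ha }
  have hinv : ∀ x ∈ T, D.P σ x ∈ T := fun x hx => ⟨hX x hx.1, by
    have : D.P σ (x + D.E σ x) = D.P σ x + D.E σ (D.P σ x) := by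
      unfold E; simp only [D.P_add hsg]
    rw [← this, hx.2]
    exact D.op_zero (D.one_mem hsg)⟩
  have hfree : ∀ x ∈ T, D.P σ x = x → x = 0 := fun x hx h => by
    have h' := hx.2
    unfold E at h'
    simp only [h] at h'
    rw [D.two, zero_add, D.two, add_zero] at h'
    exact h'
  have hpow : ∀ x, (D.P σ)^[5] x = x := fun x => by
    simp only [Function.iterate_succ_apply', Function.iterate_zero_apply]
    exact D.P_five hsg h5 x
  have hmod : Nat.card T % 5 = 1 := by
    have : Fact (Nat.Prime 5) := ⟨by norm_num⟩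
    have h := dvd_ncard_of_fixedFree (D.P σ) 5 hpow {x | x ∈ T ∧ x ≠ 0}
      (fun x hx => ⟨hinv x hx.1, fun e => hx.2 (by
        have h2 := congrArg (fun y => D.P σ (D.P σ (D.P σ (D.P σ y)))) e
        simp only [D.P_five hsg h5] at h2
        rw [h2]
        simp only [P, D.op_zero (D.one_mem hsg)])⟩)
      (fun x hx e => hx.2 (hfree x hx.1 e))
    have h2 := D.card_ne_zero_part T
    omega
  refine ⟨T, fun x hx => hx.1, hinv, hfree, hmod, ?_, ?_, fun x hx h => ⟨hx, h⟩⟩
  · intro x hx hxy
    refine D.eq_zero_of_B fun y => ?_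
    obtain ⟨a, ha, b, hb, rfl⟩ := hspan y
    rw [D.B_add_right, hXX x hx.1 b hb, add_zero]
    obtain ⟨hfix, hEE⟩ := D.five_split hsg h5 a
    have hE : D.E σ a ∈ T := ⟨D.E_mem hsg X hX ha, hEE⟩
    have hrest : D.B x (a + D.E σ a) = 0 := by
      have hk : ∀ z, D.B (D.P σ z) (a + D.E σ a) = D.B z (a + D.E σ a) := fun z => by
        conv_lhs => rw [← hfix]
        exact D.B_op (D.one_mem hsg) _ _
      generalize a + D.E σ a = w at hk ⊢
      have h := congrArg (fun z => D.B z w) hx.2
      simp only [E, D.B_add_left, hk, D.B_zero_left] at h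
      rcases zmod_two_cases (D.B x w) with e | e
      · exact e
      · rw [e] at h
        exact absurd h (by decide)
    rw [show a = (a + D.E σ a) + D.E σ a by rw [add_assoc, D.two, add_zero], D.B_add_right, hrest,
      hxy _ hE, add_zero]
  · intro hT x hx
    obtain ⟨hfix, hEE⟩ := D.five_split hsg h5 x
    have : D.E σ x ∈ T := ⟨D.E_mem hsg X hX hx, hEE⟩
    rw [hT, AddSubgroup.mem_bot] at this
    rwa [this, add_zero] at hfix

end Five

/-- `A₆` is trivial on the moved space if the fixed space is nonzero. -/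
theorem alt_Mov [Finite V] (h0 : D.Fix ≠ ⊥) {σ : Perm (Fin 6)} (hσ : Perm.sign σ = 1) {x : V}
    (hx : x ∈ D.Mov) : D.op (1, σ) x = x := by
  have key : ∀ τ : Perm (Fin 6), Perm.sign τ = 1 → τ ^ 5 = 1 → ∀ y ∈ D.Mov, D.op (1, τ) y = y := by
    intro τ hsg h5
    obtain ⟨T, hTM, hinv, hfree, hmod, hnd, hbot, hmem⟩ := D.five_space hsg h5 D.Mov D.Fix
      (fun y hy => D.op_mem_Mov (D.one_mem hsg) hy)
      (fun a ha b hb => by rw [D.B_comm]; exact D.B_Fix_Mov hb ha)
      (fun y => ⟨_, D.p1_mem y, _, D.p0_mem y, by rw [add_comm, D.p0_add_p1]⟩)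
    refine hbot ?_
    have htinv : ∀ y ∈ T, D.t y ∈ T := fun y hy => hmem _ (D.t_mem_Mov (hTM hy)) (by
      have h2 : y + D.E τ y = 0 := by
        obtain ⟨hfix, -⟩ := D.five_split hsg h5 y
        by_contra hne
        refine hne (hfree _ ?_ hfix)
        refine add_mem hy ?_
        exact D.E_mem hsg T hinv hy
      have hc : ∀ z, D.t (D.P τ z) = D.P τ (D.t z) := fun z => by
        unfold t P
        rw [← D.op_mul _ D.gth_mem _ (D.one_mem hsg), ← D.op_mul _ (D.one_mem hsg) _ D.gth_mem]
        exact congrArg (fun g => D.op g z) (Prod.ext (by simp [gth]) (by simp [gth]))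
      have : D.t y + D.E τ (D.t y) = D.t (y + D.E τ y) := by
        simp only [E, D.t_add, hc]
      rw [this, h2, D.t_zero])
    obtain ⟨k, hk8, hk⟩ := D.card_pow T
    have h3 : 3 ∣ Nat.card {y | y ∈ T ∧ y ≠ 0} := by
      refine D.three_dvd _ (fun y hy => ⟨htinv y hy.1, fun e => hy.2 ?_⟩)
        (fun y hy => hTM hy.1) (fun h => h.2 rfl)
      rw [← D.t_cube y, e, D.t_zero, D.t_zero]
    have h1 := D.card_ne_zero_part T
    rw [hk] at hmod h1
    have hk' : k = 0 ∨ k = 4 ∨ k = 8 := by
      interval_cases k <;> simp at hmod ⊢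
    rcases hk' with rfl | rfl | rfl
    · exact AddSubgroup.eq_bot_of_card_eq T (by simpa using hk)
    · exfalso
      let Z : Set V := {y | y ∈ T ∧ y ≠ 0 ∧ D.q y = 0}
      have hZ3 : 3 ∣ Nat.card Z := by
        refine D.three_dvd Z (fun y hy => ⟨htinv y hy.1, fun e => hy.2.1 ?_, ?_⟩)
          (fun y hy => hTM hy.1) (fun h => h.2.1 rfl)
        · rw [← D.t_cube y, e, D.t_zero, D.t_zero]
        · exact (D.q_op _ D.gth_mem y).trans hy.2.2
      have hZ5 : 5 ∣ Nat.card Z := by
        have : Fact (Nat.Prime 5) := ⟨by norm_num⟩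
        refine dvd_ncard_of_fixedFree (D.P τ) 5 (fun y => ?_) Z
          (fun y hy => ⟨hinv y hy.1, fun e => hy.2.1 ?_, ?_⟩)
          (fun y hy e => hy.2.1 (hfree y hy.1 e))
        · simp only [Function.iterate_succ_apply', Function.iterate_zero_apply]
          exact D.P_five hsg h5 y
        · have h2 := congrArg (fun w => D.P τ (D.P τ (D.P τ (D.P τ w)))) e
          simp only [D.P_five hsg h5] at h2
          rw [h2]
          simp only [P, D.op_zero (D.one_mem hsg)]
        · exact (D.q_op _ (D.one_mem hsg) y).trans hy.2.2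
      have hsub : Z ⊆ {y | y ∈ T ∧ y ≠ 0} := fun y hy => ⟨hy.1, hy.2.1⟩
      have h15 : 15 ∣ Nat.card Z := Nat.Coprime.mul_dvd_of_dvd_of_dvd (by norm_num) hZ3 hZ5
      rcases Nat.eq_zero_or_pos (Nat.card Z) with hz | hz
      · refine D.q_not_constant T (by rw [hk]; norm_num) hnd 1 fun y hy hy0 => ?_
        rcases zmod_two_cases (D.q y) with e | e
        · have : Nonempty Z := ⟨⟨y, hy, hy0, e⟩⟩
          exact absurd hz Nat.card_pos.ne'
        · exact e
      · refine D.q_not_constant T (by rw [hk]; norm_num) hnd 0 fun y hy hy0 => ?_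
        have heq : Z = {y | y ∈ T ∧ y ≠ 0} := by
          refine Set.eq_of_subset_of_ncard_le hsub ?_ (Set.toFinite _)
          rw [← Nat.card_coe_set_eq, ← Nat.card_coe_set_eq]
          have := Nat.le_of_dvd hz h15
          rw [show (2 : ℕ) ^ 4 = 16 from rfl] at h1
          omega
        have : y ∈ Z := heq ▸ ⟨hy, hy0⟩
        exact this.2.2
    · exfalso
      have htop : T = ⊤ := AddSubgroup.eq_top_of_card_eq T (by rw [hk, D.card]; norm_num)
      obtain ⟨v, hv, hv0⟩ := AddSubgroup.bot_or_exists_ne_zero D.Fix |>.resolve_left h0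
      exact hv0 (D.Fix_inf_Mov hv (hTM (htop ▸ AddSubgroup.mem_top v)))
  let H : Subgroup (Perm (Fin 6)) :=
    { carrier := {τ | Perm.sign τ = 1 ∧ ∀ y ∈ D.Mov, D.op (1, τ) y = y}
      mul_mem' := fun {a b} ha hb => ⟨by rw [map_mul, ha.1, hb.1, one_mul], fun y hy => by
        rw [show ((1, a * b) : K) = (1, a) * (1, b) by simp, D.op_mul _ (D.one_mem ha.1) _ (D.one_mem hb.1),
          hb.2 y hy, ha.2 y hy]⟩
      one_mem' := ⟨map_one _, fun y _ => D.op_one y⟩
      inv_mem' := fun {a} ha => ⟨by rw [map_inv, ha.1, inv_one], fun y hy => by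
        conv_lhs => rw [← ha.2 y hy]
        rw [show ((1, a⁻¹) : K) = (1, a)⁻¹ by simp]
        exact D.op_inv_op (D.one_mem ha.1) y⟩ }
  have hgen : ∀ i, gen i ∈ H := fun i => by
    obtain ⟨a, b, c⟩ := five_products i
    have hs : Perm.sign ((five i)⁻¹ * gen i) = 1 := by rw [map_mul, map_inv, c, gen_sign i]; rfl
    have : five i * ((five i)⁻¹ * gen i) ∈ H := mul_mem ⟨c, key _ c a⟩ ⟨hs, key _ hs b⟩
    rwa [mul_inv_cancel_left] at this
  exact (ExtraNine.alt_le H hgen (Perm.mem_alternatingGroup.2 hσ)).2 x hx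

theorem gth_ne_one : gth ≠ 1 := by decide +kernel

/-- The sizes of the two parts. -/
theorem sizes [Finite V] (h0 : D.Fix ≠ ⊥) : Nat.card D.Fix = 64 ∧ Nat.card D.Mov = 4 := by
  have hM : D.Mov ≠ ⊥ := fun e => gth_ne_one (D.faithful gth D.gth_mem fun x => by
    have h1 := D.p1_mem x
    rw [e, AddSubgroup.mem_bot] at h1
    have h2 := D.p0_add_p1 x
    rw [h1, add_zero] at h2
    have h3 := D.p0_mem x
    rwa [h2] at h3)
  obtain ⟨k, -, hk⟩ := D.card_pow D.Mov
  obtain ⟨l, -, hl⟩ := D.card_pow D.Fix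
  have h256 := D.card_split
  rw [hk, hl, ← pow_add, show (256 : ℕ) = 2 ^ 8 by norm_num] at h256
  have hsum : l + k = 8 := Nat.pow_right_injective le_rfl h256
  have hk0 : k ≠ 0 := fun e => hM (AddSubgroup.eq_bot_of_card_eq _ (by rw [hk, e]; rfl))
  have hl0 : l ≠ 0 := fun e => h0 (AddSubgroup.eq_bot_of_card_eq _ (by rw [hl, e]; rfl))
  have h3 : 3 ∣ Nat.card {y | y ∈ D.Mov ∧ y ≠ 0} :=
    D.three_dvd _ (fun y hy => ⟨D.t_mem_Mov hy.1, fun e => hy.2 (by
      rw [← D.t_cube y, e, D.t_zero, D.t_zero])⟩) (fun y hy => hy.1) (fun h => h.2 rfl)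
  have h1 := D.card_ne_zero_part D.Mov
  rw [hk] at h1
  have h5s : Perm.sign (five 0) = 1 := (five_products 0).2.2
  have h55 : five 0 ^ 5 = 1 := (five_products 0).1
  have hfive : ∀ {a : Perm (Fin 6)}, Perm.sign a = 1 → a ^ 5 = 1 → a ≠ 1 → 4 ≤ l ∧
      (l = 4 → ∀ y ∈ D.Fix, D.op (1, a) y = y → y = 0) := by
    intro a ha ha5 ha1
    obtain ⟨T, hTF, -, hfree, hmod, -, hbot, -⟩ := D.five_space ha ha5 D.Fix D.Mov
      (fun y hy => D.op_mem_Fix (D.one_mem ha) hy) (fun x hx y hy => D.B_Fix_Mov hx hy)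
      (fun y => ⟨_, D.p0_mem y, _, D.p1_mem y, (D.p0_add_p1 y).symm⟩)
    have hT : T ≠ ⊥ := fun e => ha1 (congrArg Prod.snd (D.faithful (1, a) (D.one_mem ha) fun x => by
      conv_lhs => rw [← D.p0_add_p1 x]
      rw [D.op_add _ (D.one_mem ha), D.alt_Mov h0 ha (D.p1_mem x)]
      rw [show D.op (1, a) (D.p0 x) = D.p0 x from hbot e _ (D.p0_mem x), D.p0_add_p1]))
    obtain ⟨j, -, hj⟩ := D.card_pow T
    have hjl : j ≤ l := by
      have := AddSubgroup.card_le_of_le hTF
      rw [hj, hl] at this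
      exact (Nat.pow_le_pow_iff_right (by norm_num)).1 this
    have hj0 : j ≠ 0 := fun e => hT (AddSubgroup.eq_bot_of_card_eq _ (by rw [hj, e]; rfl))
    rw [hj] at hmod
    have hj4 : 4 ≤ j := by
      by_contra hlt
      push Not at hlt
      interval_cases j <;> simp at hmod hj0
    refine ⟨hj4.trans hjl, fun h4 y hy he => hfree y ?_ he⟩
    have hle : Nat.card D.Fix ≤ Nat.card T := by rw [hj, hl]; exact Nat.pow_le_pow_right (by norm_num) (by omega)
    rw [AddSubgroup.eq_of_le_of_card_ge hTF hle]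
    exact hy
  obtain ⟨hl4, hfpf⟩ := hfive h5s h55 (by decide +kernel)
  have hne16 : l ≠ 4 := by
    intro h4
    let act : MulAction (alternatingGroup (Fin 6)) V :=
      { smul := fun g y => D.op (1, g.1) y
        one_smul := fun y => D.op_one y
        mul_smul := fun g h y => D.op_mul _ (D.one_mem g.2) _ (D.one_mem h.2) y }
    let Z : ZMod 2 → Set V := fun c => {y | y ∈ D.Fix ∧ y ≠ 0 ∧ D.q y = c}
    have hinv : ∀ c, ∀ g : alternatingGroup (Fin 6), ∀ y ∈ Z c, g • y ∈ Z c := by
      intro c g y hy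
      refine ⟨D.op_mem_Fix (D.one_mem g.2) hy.1, fun e => hy.2.1 ?_, ?_⟩
      · have e' : g⁻¹ • (g • y) = g⁻¹ • (0 : V) := congrArg _ e
        rw [inv_smul_smul] at e'
        rw [e']
        exact D.op_zero (D.one_mem g⁻¹.2)
      · exact (D.q_op _ (D.one_mem g.2) y).trans hy.2.2
    have h5dvd : ∀ c, 5 ∣ Nat.card (Z c) := fun c => by
      have : Fact (Nat.Prime 5) := ⟨by norm_num⟩
      refine dvd_ncard_of_fixedFree (D.P (five 0)) 5 (fun y => ?_) (Z c)
        (fun y hy => hinv c ⟨five 0, Perm.mem_alternatingGroup.2 h5s⟩ y hy)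
        (fun y hy e => hy.2.1 (hfpf h4 y hy.1 e))
      simp only [Function.iterate_succ_apply', Function.iterate_zero_apply]
      exact D.P_five h5s h55 y
    have hbig : ∀ c, ∀ y ∈ Z c, 5 < Nat.card (Z c) := by
      intro c y hy
      by_contra hle
      push Not at hle
      have horb : MulAction.orbit (alternatingGroup (Fin 6)) y ⊆ Z c := by
        rintro _ ⟨g, rfl⟩; exact hinv c g y hy
      have hi : (MulAction.stabilizer (alternatingGroup (Fin 6)) y).index ≤ 5 := by
        rw [MulAction.index_stabilizer]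
        exact (Set.ncard_le_ncard horb).trans (by rwa [← Nat.card_coe_set_eq])
      have htop := eq_top_of_index _ hi
      have hmem : (⟨five 0, Perm.mem_alternatingGroup.2 h5s⟩ : alternatingGroup (Fin 6)) ∈
          MulAction.stabilizer (alternatingGroup (Fin 6)) y := htop ▸ Subgroup.mem_top _
      exact hy.2.1 (hfpf h4 y hy.1 (MulAction.mem_stabilizer_iff.1 hmem))
    have htot : Nat.card (Z 0) + Nat.card (Z 1) = 15 := by
      have hd : Disjoint (Z 0) (Z 1) := Set.disjoint_left.2 fun y h h' => by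
        have := h.2.2.symm.trans h'.2.2
        exact absurd this (by decide)
      have hu : Z 0 ∪ Z 1 = {y | y ∈ D.Fix ∧ y ≠ 0} := by
        ext y
        constructor
        · rintro (h | h) <;> exact ⟨h.1, h.2.1⟩
        · intro h
          rcases zmod_two_cases (D.q y) with e | e
          · exact Or.inl ⟨h.1, h.2, e⟩
          · exact Or.inr ⟨h.1, h.2, e⟩
      have h2 := D.card_ne_zero_part D.Fix
      rw [← hu, Nat.card_coe_set_eq, Set.ncard_union_eq hd, hl, h4,
        show (2 : ℕ) ^ 4 = 16 from rfl] at h2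
      rw [Nat.card_coe_set_eq, Nat.card_coe_set_eq]
      omega
    have hor : Nat.card (Z 0) = 0 ∨ Nat.card (Z 1) = 0 := by
      by_contra hn
      push Not at hn
      obtain ⟨⟨y, hy⟩⟩ := (Nat.card_pos_iff.1 (Nat.pos_of_ne_zero hn.1)).1
      obtain ⟨⟨y', hy'⟩⟩ := (Nat.card_pos_iff.1 (Nat.pos_of_ne_zero hn.2)).1
      have := hbig 0 y hy
      have := hbig 1 y' hy'
      obtain ⟨a, ha⟩ := h5dvd 0
      obtain ⟨b, hb⟩ := h5dvd 1
      omega
    have hnd : ∀ x ∈ D.Fix, (∀ y ∈ D.Fix, D.B x y = 0) → x = 0 := fun x hx h =>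
      D.eq_zero_of_B fun y => by
        conv_lhs => rw [← D.p0_add_p1 y]
        rw [D.B_add_right, h _ (D.p0_mem y), D.B_Fix_Mov hx (D.p1_mem y), add_zero]
    have h16 : 4 < Nat.card D.Fix := by rw [hl, h4]; norm_num
    rcases hor with h | h
    · refine D.q_not_constant _ h16 hnd 1 fun y hy hy0 => ?_
      rcases zmod_two_cases (D.q y) with e | e
      · have : Nonempty (Z 0) := ⟨⟨y, hy, hy0, e⟩⟩
        exact absurd h Nat.card_pos.ne'
      · exact e
    · refine D.q_not_constant _ h16 hnd 0 fun y hy hy0 => ?_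
      rcases zmod_two_cases (D.q y) with e | e
      · exact e
      · have : Nonempty (Z 1) := ⟨⟨y, hy, hy0, e⟩⟩
        exact absurd h Nat.card_pos.ne'
  have hk2 : k = 2 := by
    have : k ≤ 3 := by omega
    interval_cases k <;> simp only [pow_succ, pow_zero] at h1 <;> omega
  exact ⟨by rw [hl, show l = 6 by omega]; norm_num, by rw [hk, hk2]; norm_num⟩

/-- The form is one off zero on the moved plane. -/
theorem q_Mov [Finite V] (h0 : D.Fix ≠ ⊥) {y : V} (hy : y ∈ D.Mov) (hy0 : y ≠ 0) : D.q y = 1 := by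
  by_contra hne
  have hq : D.q y = 0 := (zmod_two_cases _).resolve_right hne
  let Z : Set V := {x | x ∈ D.Mov ∧ x ≠ 0 ∧ D.q x = 0}
  have h3 : 3 ∣ Nat.card Z :=
    D.three_dvd Z (fun x hx => ⟨D.t_mem_Mov hx.1, fun e => hx.2.1 (by
      rw [← D.t_cube x, e, D.t_zero, D.t_zero]), (D.q_op _ D.gth_mem x).trans hx.2.2⟩)
      (fun x hx => hx.1) (fun h => h.2.1 rfl)
  have hpos : 0 < Nat.card Z := by
    have : Nonempty Z := ⟨⟨y, hy, hy0, hq⟩⟩
    exact Nat.card_pos
  have h1 := D.card_ne_zero_part D.Mov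
  rw [(D.sizes h0).2] at h1
  have heq : Z = {x | x ∈ D.Mov ∧ x ≠ 0} := by
    refine Set.eq_of_subset_of_ncard_le (fun x hx => ⟨hx.1, hx.2.1⟩) ?_ (Set.toFinite _)
    rw [← Nat.card_coe_set_eq, ← Nat.card_coe_set_eq]
    have := Nat.le_of_dvd hpos h3
    omega
  have hall : ∀ x ∈ D.Mov, D.q x = 0 := fun x hx => by
    by_cases hx0 : x = 0
    · rw [hx0, D.q_zero]
    · exact (heq ▸ (⟨hx, hx0⟩ : x ∈ {x | x ∈ D.Mov ∧ x ≠ 0}) : x ∈ Z).2.2
  refine hy0 (D.eq_zero_of_B fun z => ?_)
  conv_lhs => rw [← D.p0_add_p1 z]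
  rw [D.B_add_right, D.B_comm, D.B_Fix_Mov (D.p0_mem z) hy, zero_add]
  unfold B
  rw [hall _ (add_mem hy (D.p1_mem z)), hall _ hy, hall _ (D.p1_mem z)]
  rfl

end Rep

/-- The element of order three fixes only zero. -/
theorem fixed_eq_zero {V : Type*} [AddCommGroup V] [Finite V] (D : Rep V) (F : Fused D) (v : V)
    (hv : D.op gth v = v) : v = 0 := by
  classical
  by_contra hv0
  have h0 : D.Fix ≠ ⊥ := fun e => hv0 (by
    have : v ∈ D.Fix := hv
    rwa [e, AddSubgroup.mem_bot] at this)
  obtain ⟨h64, h4⟩ := D.sizes h0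
  have hqM : ∀ {y : V}, y ∈ D.Mov → y ≠ 0 → D.q y = 1 := fun hy hy0 => D.q_Mov h0 hy hy0
  have hU1 : ∀ x ∈ F.U, x ∈ D.Mov → x = 0 := fun x hx hx1 => by
    by_contra hne
    have := (F.U_singular x hx).symm.trans (hqM hx1 hne)
    exact absurd this (by decide)
  have hUU : ∀ x ∈ F.U, ∀ y ∈ F.U, D.B x y = 0 := fun x hx y hy => by
    unfold Rep.B
    rw [F.U_singular _ (add_mem hx hy), F.U_singular _ hx, F.U_singular _ hy]
    rfl
  have hcU := F.card_U
  have hcm := F.card_mul
  have hW8 : 8 ≤ Nat.card F.W := by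
    by_contra hlt
    push Not at hlt
    have : Nat.card F.W * Nat.card F.U ≤ 7 * 16 := Nat.mul_le_mul (by omega) hcU
    omega
  set a := D.p0 F.u with ha
  set c := D.p1 F.u with hc
  have ha0 : a ∈ D.Fix := D.p0_mem _
  have hc1 : c ∈ D.Mov := D.p1_mem _
  have hac : a + c = F.u := D.p0_add_p1 _
  by_cases hcz : c = 0
  · -- the fused vector is fixed
    have hu : D.op gth F.u = F.u := by
      rw [← hac, hcz, add_zero]; exact ha0
    have hfst : ∀ w ∈ F.W, w.1 = 1 := by
      intro w hw
      have hm : gth * w * gth⁻¹ * w ∈ F.W := mul_mem (F.stab_W _ D.gth_mem hu w hw) hw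
      exact three_comm _ (congrArg Prod.fst (F.W_sq w hw)) (congrArg Prod.fst (F.W_sq _ hm))
    have hW : Nat.card F.W ≤ 8 := by
      have hinj : Function.Injective ((MonoidHom.snd (Perm (Fin 3)) (Perm (Fin 6))).comp F.W.subtype) :=
        fun x y h => Subtype.ext (Prod.ext ((hfst x x.2).trans (hfst y y.2).symm) h)
      rw [Nat.card_congr (MonoidHom.ofInjective hinj).toEquiv]
      refine card_le_eight _ ?_
      rintro _ ⟨x, rfl⟩
      exact congrArg Prod.snd (F.W_sq x x.2)
    have hU16 : Nat.card F.U = 16 := by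
      have h8 : Nat.card F.W = 8 := le_antisymm hW hW8
      rw [h8] at hcm
      omega
    have hUF : F.U ≤ D.Fix := fun x hx => by
      have htx : ∀ {y}, y ∈ F.U → D.t y ∈ F.U := fun hy => F.stab_U _ D.gth_mem hu _ hy
      have h1 : D.p1 x = 0 := hU1 _ (add_mem (htx hx) (htx (htx hx))) (D.p1_mem x)
      have h2 := D.p0_add_p1 x
      rw [h1, add_zero] at h2
      exact h2 ▸ D.p0_mem x
    have hY : 64 ≤ Nat.card ↥(F.U ⊔ D.Mov) := by
      let f : F.U × D.Mov → ↥(F.U ⊔ D.Mov) := fun p =>
        ⟨p.1.1 + p.2.1, add_mem (AddSubgroup.mem_sup_left p.1.2) (AddSubgroup.mem_sup_right p.2.2)⟩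
      have hf : Function.Injective f := by
        intro p p' h
        have h' : p.1.1 + p.2.1 = p'.1.1 + p'.2.1 := congrArg Subtype.val h
        have h2 : p.1.1 - p'.1.1 = p'.2.1 - p.2.1 := by
          rw [sub_eq_sub_iff_add_eq_add, h', add_comm]
        have h3 : p.1.1 - p'.1.1 = 0 := D.Fix_inf_Mov (sub_mem (hUF p.1.2) (hUF p'.1.2))
          (h2 ▸ sub_mem p'.2.2 p.2.2)
        exact Prod.ext (Subtype.ext (sub_eq_zero.1 h3))
          (Subtype.ext (sub_eq_zero.1 (h2 ▸ h3 : p'.2.1 - p.2.1 = 0)).symm)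
      have := Nat.card_le_card_of_injective f hf
      rw [Nat.card_prod, hU16, h4] at this
      omega
    have := D.card_mul_card_le F.U (F.U ⊔ D.Mov) (fun x hx y hy => by
      obtain ⟨y1, hy1, y2, hy2, rfl⟩ := AddSubgroup.mem_sup.1 hy
      rw [D.B_add_right, hUU x hx y1 hy1, D.B_Fix_Mov (hUF hx) hy2, add_zero])
    have h2 : 16 * 64 ≤ Nat.card F.U * Nat.card ↥(F.U ⊔ D.Mov) := by
      rw [hU16]; exact Nat.mul_le_mul_left _ hY
    omega
  · -- the fused vector is not fixed
    have hqc : D.q c = 1 := hqM hc1 hcz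
    have hqa : D.q a = 1 := by
      have h := F.u_singular
      rw [← hac, D.q_add, D.B_Fix_Mov ha0 hc1, add_zero, hqc] at h
      rcases zmod_two_cases (D.q a) with e | e
      · rw [e] at h; exact absurd h (by decide)
      · exact e
    have htc : D.t c ∈ D.Mov := D.t_mem_Mov hc1
    have htc0 : D.t c ≠ 0 := fun e => hcz (by rw [← D.t_cube c, e, D.t_zero, D.t_zero])
    have htcc : D.t c ≠ c := D.t_free hc1 hcz
    have hsum0 : c + D.t c ≠ 0 := fun e => htcc (D.eq_of_add_eq_zero e).symm
    have hBc : D.B c (D.t c) = 1 := by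
      unfold Rep.B
      rw [hqM (add_mem hc1 htc) hsum0, hqc, hqM htc htc0]
      rfl
    have hMov : ∀ y ∈ D.Mov, y = 0 ∨ y = c ∨ y = D.t c ∨ y = c + D.t c := by
      intro y hy
      have hsub : ({0, c, D.t c, c + D.t c} : Set V) ⊆ D.Mov := by
        intro z hz
        simp only [Set.mem_insert_iff, Set.mem_singleton_iff] at hz
        rcases hz with rfl | rfl | rfl | rfl
        · exact zero_mem _
        · exact hc1
        · exact htc
        · exact add_mem hc1 htc
      have hcard : ({0, c, D.t c, c + D.t c} : Set V).ncard = 4 := by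
        have n1 : c ≠ c + D.t c := fun e => htc0 (by
          have := add_left_cancel (a := c) (b := 0) (c := D.t c) (by rwa [add_zero])
          exact this.symm)
        have n2 : D.t c ≠ c + D.t c := fun e => hcz (by
          have := add_right_cancel (a := 0) (b := D.t c) (c := c) (by rwa [zero_add])
          exact this.symm)
        rw [Set.ncard_insert_of_notMem, Set.ncard_insert_of_notMem, Set.ncard_pair n2]
        · simp only [Set.mem_insert_iff, Set.mem_singleton_iff]
          push Not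
          exact ⟨htcc.symm, n1⟩
        · simp only [Set.mem_insert_iff, Set.mem_singleton_iff]
          push Not
          exact ⟨Ne.symm hcz, Ne.symm htc0, Ne.symm hsum0⟩
      have heq := Set.eq_of_subset_of_ncard_le hsub
        (by rw [hcard, ← Nat.card_coe_set_eq, SetLike.coe_sort_coe, h4]) (Set.toFinite _)
      have : y ∈ ({0, c, D.t c, c + D.t c} : Set V) := heq ▸ hy
      simpa using this
    let W0 : Subgroup F.W :=
      ((Perm.sign.comp (MonoidHom.fst (Perm (Fin 3)) (Perm (Fin 6)))).comp F.W.subtype).ker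
    have hW0 : 4 ≤ Nat.card W0 := by
      have hi : W0.index ≤ 2 := by
        rw [Subgroup.index_ker]
        refine (Finite.card_subtype_le _).trans (le_of_eq ?_)
        rw [Nat.card_eq_fintype_card]
        rfl
      have := W0.card_mul_index
      have h2 : Nat.card W0 * W0.index ≤ Nat.card W0 * 2 := Nat.mul_le_mul_left _ hi
      omega
    have hW0mem : ∀ w ∈ W0, (w : K).1 = 1 := fun w hw =>
      three_invol _ (congrArg Prod.fst (F.W_sq w w.2)) hw
    have hfix : ∀ w ∈ W0, ∀ y ∈ D.Mov, D.op (w : K) y = y := by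
      intro w hw
      have hwI : (w : K) ∈ D.KI := F.W_le w.2
      have hwc : D.op (w : K) c = c := by
        have h := F.W_fix w w.2
        conv_lhs at h => rw [← hac, D.op_add _ hwI]
        conv_rhs at h => rw [← hac]
        have h2 : D.op (w : K) a - a = c - D.op (w : K) c := by
          rw [sub_eq_sub_iff_add_eq_add, h, add_comm]
        have h3 := D.Fix_inf_Mov (sub_mem (D.op_mem_Fix hwI ha0) ha0)
          (h2 ▸ sub_mem hc1 (D.op_mem_Mov hwI hc1))
        rw [h2, sub_eq_zero] at h3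
        exact h3.symm
      have hwt : D.op (w : K) (D.t c) = D.t c := by
        unfold Rep.t
        rw [← D.op_mul _ hwI _ D.gth_mem,
          show (w : K) * gth = gth * (w : K) from Prod.ext (by simp [hW0mem w hw]) (by simp [gth]),
          D.op_mul _ D.gth_mem _ hwI, hwc]
      intro y hy
      rcases hMov y hy with rfl | rfl | rfl | rfl
      · exact D.op_zero hwI
      · exact hwc
      · exact hwt
      · rw [D.op_add _ hwI, hwc, hwt]
    let S : AddSubgroup V := F.U ⊓ D.Fix
    have hN : ∀ w ∈ W0, ∀ x ∈ D.Fix, D.op (w : K) x + x ∈ S := by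
      intro w hw x hx
      have hwI : (w : K) ∈ D.KI := F.W_le w.2
      refine ⟨?_, add_mem (D.op_mem_Fix hwI hx) hx⟩
      obtain ⟨y, hy, hxy⟩ : ∃ y ∈ D.Mov, D.B F.u (x + y) = 0 := by
        rcases zmod_two_cases (D.B a x) with e | e
        · refine ⟨0, zero_mem _, ?_⟩
          rw [add_zero, ← hac, D.B_add_left, e, D.B_comm c x, D.B_Fix_Mov hx hc1]
          rfl
        · refine ⟨D.t c, htc, ?_⟩
          rw [← hac, D.B_add_left, D.B_add_right, D.B_add_right, e, D.B_Fix_Mov ha0 htc,
            D.B_comm c x, D.B_Fix_Mov hx hc1, hBc]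
          rfl
      have h := F.W_perp w w.2 (x + y) hxy
      rw [D.op_add _ hwI, hfix w hw y hy] at h
      have e : D.op (w : K) x + y + (x + y) = D.op (w : K) x + x + (y + y) := by abel
      rwa [e, D.two, add_zero] at h
    have hS : Nat.card S ≤ 4 := by
      let X : AddSubgroup V := S ⊔ AddSubgroup.zmultiples a
      have haS : a ∉ S := fun h => by
        have := (F.U_singular a h.1).symm.trans hqa
        exact absurd this (by decide)
      have hlt : S < X := lt_of_le_of_ne le_sup_left fun e =>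
        haS (e ▸ (AddSubgroup.mem_sup_right (AddSubgroup.mem_zmultiples a) : a ∈ X))
      have hX2 : 2 * Nat.card S ≤ Nat.card X := by
        obtain ⟨i, -, hi⟩ := D.card_pow S
        obtain ⟨j, -, hj⟩ := D.card_pow X
        have hlt' : Nat.card S < Nat.card X := by
          by_contra hge
          push Not at hge
          exact hlt.ne (AddSubgroup.eq_of_le_of_card_ge hlt.le hge)
        rw [hi, hj] at hlt' ⊢
        have : i + 1 ≤ j := (Nat.pow_lt_pow_iff_right (by norm_num)).1 hlt'
        rw [← pow_succ']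
        exact Nat.pow_le_pow_right (by norm_num) this
      have hXiso : ∀ x ∈ X, ∀ y ∈ X, D.B x y = 0 := by
        have hza : ∀ n : ℤ, n • a = 0 ∨ n • a = a := by
          intro n
          rcases Int.even_or_odd' n with ⟨k, rfl | rfl⟩
          · left; rw [mul_comm, mul_zsmul, two_zsmul, D.two, smul_zero]
          · right; rw [add_zsmul, mul_comm, mul_zsmul, two_zsmul, D.two, smul_zero, zero_add, one_zsmul]
        have hform : ∀ x ∈ X, ∃ s ∈ S, x = s ∨ x = s + a := by
          intro x hx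
          obtain ⟨s, hs, z, hz, rfl⟩ := AddSubgroup.mem_sup.1 hx
          obtain ⟨n, rfl⟩ := AddSubgroup.mem_zmultiples_iff.1 hz
          rcases hza n with e | e <;> rw [e]
          · exact ⟨s, hs, Or.inl (add_zero s)⟩
          · exact ⟨s, hs, Or.inr rfl⟩
        have hsa : ∀ s ∈ S, D.B s a = 0 := fun s hs => by
          have h := hUU s hs.1 F.u F.u_mem
          rw [← hac, D.B_add_right, D.B_Fix_Mov hs.2 hc1, add_zero] at h
          exact h
        intro x hx y hy
        obtain ⟨s, hs, hx'⟩ := hform x hx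
        obtain ⟨s', hs', hy'⟩ := hform y hy
        rcases hx' with rfl | rfl <;> rcases hy' with rfl | rfl
        · exact hUU _ hs.1 _ hs'.1
        · rw [D.B_add_right, hUU _ hs.1 _ hs'.1, hsa _ hs, add_zero]
        · rw [D.B_add_left, hUU _ hs.1 _ hs'.1, D.B_comm, hsa _ hs', add_zero]
        · rw [D.B_add_left, D.B_add_right, D.B_add_right, hUU _ hs.1 _ hs'.1, hsa _ hs,
            D.B_comm a, hsa _ hs', D.B_self, add_zero, add_zero]
      have hXF : X ≤ D.Fix := sup_le inf_le_right ((AddSubgroup.zmultiples_le).2 ha0)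
      let f : X × D.Mov → ↥(X ⊔ D.Mov) := fun p =>
        ⟨p.1.1 + p.2.1, add_mem (AddSubgroup.mem_sup_left p.1.2) (AddSubgroup.mem_sup_right p.2.2)⟩
      have hf : Function.Injective f := by
        intro p p' h
        have h' : p.1.1 + p.2.1 = p'.1.1 + p'.2.1 := congrArg Subtype.val h
        have h2 : p.1.1 - p'.1.1 = p'.2.1 - p.2.1 := by
          rw [sub_eq_sub_iff_add_eq_add, h', add_comm]
        have h3 : p.1.1 - p'.1.1 = 0 := D.Fix_inf_Mov (sub_mem (hXF p.1.2) (hXF p'.1.2))
          (h2 ▸ sub_mem p'.2.2 p.2.2)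
        exact Prod.ext (Subtype.ext (sub_eq_zero.1 h3))
          (Subtype.ext (sub_eq_zero.1 (h2 ▸ h3 : p'.2.1 - p.2.1 = 0)).symm)
      have hY := Nat.card_le_card_of_injective f hf
      rw [Nat.card_prod, h4] at hY
      have hle := D.card_mul_card_le X (X ⊔ D.Mov) (fun x hx y hy => by
        obtain ⟨y1, hy1, y2, hy2, rfl⟩ := AddSubgroup.mem_sup.1 hy
        rw [D.B_add_right, hXiso x hx y1 hy1, D.B_Fix_Mov (hXF hx) hy2, add_zero])
      have h3 : 2 * Nat.card S * (2 * Nat.card S * 4) ≤ 256 :=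
        ((Nat.mul_le_mul hX2 ((Nat.mul_le_mul_right 4 hX2).trans hY))).trans hle
      nlinarith [h3]
    -- two vectors detect the action on the fixed space
    obtain ⟨s1, s2, hs1, hs2, hspan⟩ : ∃ s1 s2, s1 ∈ S ∧ s2 ∈ S ∧
        ∀ s ∈ S, s = 0 ∨ s = s1 ∨ s = s2 ∨ s = s1 + s2 := by
      by_cases hz : ∀ s ∈ S, s = 0
      · exact ⟨0, 0, zero_mem _, zero_mem _, fun s hs => Or.inl (hz s hs)⟩
      push Not at hz
      obtain ⟨s1, hs1, h10⟩ := hz
      by_cases hz2 : ∀ s ∈ S, s = 0 ∨ s = s1
      · exact ⟨s1, 0, hs1, zero_mem _, fun s hs => (hz2 s hs).imp_right Or.inl⟩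
      push Not at hz2
      obtain ⟨s2, hs2, h20, h21⟩ := hz2
      refine ⟨s1, s2, hs1, hs2, fun s hs => ?_⟩
      by_contra hn
      push Not at hn
      obtain ⟨n0, n1, n2, n3⟩ := hn
      have n12 : s1 + s2 ≠ 0 := fun e => h21 (D.eq_of_add_eq_zero e).symm
      have n11 : s1 + s2 ≠ s1 := fun e => h20 (by simpa using e)
      have n22 : s1 + s2 ≠ s2 := fun e => h10 (by simpa using e)
      have h5 : ({s, s1 + s2, s2, s1, 0} : Finset V).card = 5 := by
        rw [Finset.card_insert_of_notMem, Finset.card_insert_of_notMem, Finset.card_insert_of_notMem,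
          Finset.card_insert_of_notMem, Finset.card_singleton] <;>
          simp only [Finset.mem_insert, Finset.mem_singleton, not_or]
        · exact h10
        · exact ⟨h21, h20⟩
        · exact ⟨n22, n11, n12⟩
        · exact ⟨n3, n2, n1, n0⟩
      have hsub : (↑({s, s1 + s2, s2, s1, 0} : Finset V) : Set V) ⊆ S := by
        intro z hz
        simp only [Finset.coe_insert, Finset.coe_singleton, Set.mem_insert_iff,
          Set.mem_singleton_iff] at hz
        rcases hz with rfl | rfl | rfl | rfl | rfl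
        · exact hs
        · exact add_mem hs1 hs2
        · exact hs2
        · exact hs1
        · exact zero_mem _
      have := Set.ncard_le_ncard hsub (Set.toFinite _)
      rw [Set.ncard_coe_finset, h5, ← Nat.card_coe_set_eq, SetLike.coe_sort_coe] at this
      omega
    let ψ : V → ZMod 2 × ZMod 2 := fun x => (D.B x s1, D.B x s2)
    have hψadd : ∀ x y, ψ (x + y) = ψ x + ψ y := fun x y =>
      Prod.ext (D.B_add_left x y s1) (D.B_add_left x y s2)
    have hψ0 : ψ 0 = 0 := Prod.ext (D.B_zero_left s1) (D.B_zero_left s2)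
    obtain ⟨e1, e2, he1, he2, hcov⟩ : ∃ e1 e2, e1 ∈ D.Fix ∧ e2 ∈ D.Fix ∧ ∀ x ∈ D.Fix,
        ψ x = 0 ∨ ψ x = ψ e1 ∨ ψ x = ψ e2 ∨ ψ x = ψ e1 + ψ e2 := by
      by_cases hz : ∀ x ∈ D.Fix, ψ x = 0
      · exact ⟨0, 0, zero_mem _, zero_mem _, fun x hx => Or.inl (hz x hx)⟩
      push Not at hz
      obtain ⟨e1, he1, h1⟩ := hz
      by_cases hz2 : ∀ x ∈ D.Fix, ψ x = 0 ∨ ψ x = ψ e1
      · exact ⟨e1, 0, he1, zero_mem _, fun x hx => (hz2 x hx).imp_right Or.inl⟩
      push Not at hz2
      obtain ⟨e2, he2, h2, h21⟩ := hz2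
      exact ⟨e1, e2, he1, he2, fun x _ => pair_cover _ _ (ψ x) h1 h2 h21⟩
    let key : W0 → ZMod 2 := fun w => D.B e1 (D.op ((w : F.W) : K) e2 + e2)
    have hkey : Function.Injective key := by
      intro w w' hk
      have hwI : ((w : F.W) : K) ∈ D.KI := F.W_le w.1.2
      have hwI' : ((w' : F.W) : K) ∈ D.KI := F.W_le w'.1.2
      let M : V → V := fun y => D.op ((w : F.W) : K) y + D.op ((w' : F.W) : K) y
      have hMS : ∀ y ∈ D.Fix, M y ∈ S := fun y hy => by
        have h := add_mem (hN w.1 w.2 y hy) (hN w'.1 w'.2 y hy)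
        have e : D.op ((w : F.W) : K) y + y + (D.op ((w' : F.W) : K) y + y) = M y + (y + y) := by
          simp only [M]; abel
        rwa [e, D.two, add_zero] at h
      have hMadd : ∀ y z, M (y + z) = M y + M z := fun y z => by
        simp only [M, D.op_add _ hwI, D.op_add _ hwI']; abel
      let δ : V → V → ZMod 2 := fun x y => D.B x (M y)
      have halt : ∀ x ∈ D.Fix, δ x x = 0 := by
        have one : ∀ u ∈ W0, ∀ x ∈ D.Fix, D.B x (D.op (u : K) x) = 0 := fun u hu x hx => by
          unfold Rep.B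
          rw [D.q_op _ (F.W_le u.2), add_assoc, CharTwo.add_self_eq_zero, add_zero, add_comm x]
          exact F.U_singular _ (hN u hu x hx).1
        intro x hx
        simp only [δ, M, D.B_add_right, one w.1 w.2 x hx, one w'.1 w'.2 x hx, add_zero]
      have hsymm : ∀ x ∈ D.Fix, ∀ y ∈ D.Fix, δ x y = δ y x := fun x hx y hy => by
        have h := halt (x + y) (add_mem hx hy)
        simp only [δ, hMadd, D.B_add_left, D.B_add_right] at h
        have h1 := halt x hx
        have h2 := halt y hy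
        simp only [δ] at h1 h2 ⊢
        rw [h1, h2, zero_add, add_zero] at h
        exact CharTwo.add_eq_zero.1 h
      have hdep : ∀ x x', ψ x = ψ x' → ∀ y ∈ D.Fix, δ x y = δ x' y := by
        intro x x' h y hy
        have h1 : D.B x s1 = D.B x' s1 := congrArg Prod.fst h
        have h2 : D.B x s2 = D.B x' s2 := congrArg Prod.snd h
        simp only [δ]
        rcases hspan _ (hMS y hy) with e | e | e | e <;> rw [e]
        · rw [D.B_zero_right, D.B_zero_right]
        · exact h1
        · exact h2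
        · rw [D.B_add_right, D.B_add_right, h1, h2]
      have hd12 : δ e1 e2 = 0 := by
        have hk' : D.B e1 (D.op ((w : F.W) : K) e2 + e2) = D.B e1 (D.op ((w' : F.W) : K) e2 + e2) := hk
        simp only [D.B_add_right] at hk'
        simp only [δ, M, D.B_add_right]
        rw [add_right_cancel hk']
        exact CharTwo.add_self_eq_zero _
      have hrep : ∀ x ∈ D.Fix, ∀ y ∈ D.Fix, δ x e1 = 0 → δ x e2 = 0 → δ x y = 0 := by
        intro x hx y hy h1 h2
        have hz : δ x 0 = 0 := by simp only [δ, M, D.op_zero hwI, D.op_zero hwI', add_zero, D.B_zero_right]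
        rw [hsymm x hx y hy]
        rcases hcov y hy with e | e | e | e
        · rw [hdep y 0 (e.trans hψ0.symm) x hx]; simp only [δ, D.B_zero_left]
        · rw [hdep y e1 e x hx, ← hsymm x hx e1 he1, h1]
        · rw [hdep y e2 e x hx, ← hsymm x hx e2 he2, h2]
        · rw [hdep y (e1 + e2) (e.trans (hψadd _ _).symm) x hx]
          simp only [δ, D.B_add_left] at *
          rw [← hsymm x hx e1 he1, ← hsymm x hx e2 he2] at *
          rw [h1, h2, add_zero]
      have hzero : ∀ x ∈ D.Fix, ∀ y ∈ D.Fix, δ x y = 0 := by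
        intro x hx y hy
        refine hrep x hx y hy ?_ ?_
        · rw [hsymm x hx e1 he1]
          exact hrep e1 he1 x hx (halt e1 he1) hd12
        · rw [hsymm x hx e2 he2]
          exact hrep e2 he2 x hx (by rw [hsymm e2 he2 e1 he1]; exact hd12) (halt e2 he2)
      have hMz : ∀ y ∈ D.Fix, D.op ((w : F.W) : K) y = D.op ((w' : F.W) : K) y := fun y hy => by
        refine D.eq_of_add_eq_zero (D.eq_zero_of_B fun z => ?_)
        show D.B (M y) z = 0
        conv_lhs => rw [← D.p0_add_p1 z]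
        rw [D.B_add_right, D.B_Fix_Mov (hMS y hy).2 (D.p1_mem z), add_zero, D.B_comm]
        exact hzero _ (D.p0_mem z) y hy
      have hall : ∀ y, D.op ((w : F.W) : K) y = D.op ((w' : F.W) : K) y := fun y => by
        rw [← D.p0_add_p1 y, D.op_add _ hwI, D.op_add _ hwI', hMz _ (D.p0_mem y),
          hfix w.1 w.2 _ (D.p1_mem y), hfix w'.1 w'.2 _ (D.p1_mem y)]
      have h1 : ((w' : F.W) : K)⁻¹ * ((w : F.W) : K) = 1 :=
        D.faithful _ (mul_mem (inv_mem hwI') hwI) fun y => by
          rw [D.op_mul _ (inv_mem hwI') _ hwI, hall, D.op_inv_op hwI']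
      exact Subtype.ext (Subtype.ext (inv_mul_eq_one.1 h1).symm)
    have := Nat.card_le_card_of_injective key hkey
    rw [Nat.card_zmod] at this
    omega

end CfsgLib.Characterizations.ExtraNine
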