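import Cfsg.Agent.Lib.Characterizations.ExtraNine.Facts

/-!
Finite facts on a fused singular vector of the model.
-/

set_option autoImplicit false
set_option synthInstance.maxSize 1024
set_option maxRecDepth 20000
set_option synthInstance.maxHeartbeats 200000

namespace CfsgLib.Characterizations.ExtraNine

open Equiv

/-- All sums of sublists. -/
def spanList : List Vec → List Vec
  | [] => [0]
  | v :: l =>
    let s := spanList l
    if v ∈ s then s else s ++ s.map (v ^^^ ·)

theorem spanList_mem (P : Vec → Prop) (h0 : P 0) (hx : ∀ a b, P a → P b → P (a ^^^ b)) :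
    ∀ (l : List Vec), (∀ v ∈ l, P v) → ∀ v ∈ spanList l, P v := by
  intro l
  induction l with
  | nil => intro _ v hv; simp only [spanList, List.mem_singleton] at hv; exact hv ▸ h0
  | cons a l ih =>
    intro hl v hv
    have hs := ih fun v hv => hl v (List.mem_cons_of_mem _ hv)
    simp only [spanList] at hv
    split at hv
    · exact hs v hv
    · rcases List.mem_append.1 hv with h | h
      · exact hs v h
      · obtain ⟨b, hb, rfl⟩ := List.mem_map.1 h
        exact hx a b (hl a List.mem_cons_self) (hs b hb)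

/-- Generators of the stabiliser of `1` in the even part. -/
def stab45 : List K :=
  [(1, swap 3 4 * swap 4 5), (1, swap 2 3 * swap 4 5), (1, swap 0 1 * swap 4 5)]

/-- Generators of the stabiliser of `20` in the even part. -/
def stab90 : List K :=
  [(1, swap 2 3 * swap 4 5), (1, swap 0 1 * swap 4 5),
    (gth.1, swap 0 2 * swap 2 4 * (swap 1 3 * swap 3 5))]

/-- A basis of the vectors perpendicular to `1`. -/
def perp45 : List Vec := [1, 2, 4, 8, 16, 64, 128]

/-- A basis of the vectors perpendicular to `20`. -/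
def perp90 : List Vec := [1, 4, 8, 16, 34, 64, 130]

theorem stab_ok : (∀ g ∈ stab45, act g 1 = 1 ∧ Perm.sign g.1 = 1 ∧ Perm.sign g.2 = 1) ∧
    (∀ g ∈ stab90, act g 20 = 20 ∧ Perm.sign g.1 = 1 ∧ Perm.sign g.2 = 1) ∧
    (∀ x ∈ perp45, Bf 1 x = false) ∧ (∀ x ∈ perp90, Bf 20 x = false) := by decide +kernel

/-- The images used. -/
def hull (st : List K) (pb : List Vec) (w : K) : List Vec :=
  let raw := pb.map fun x => act w x ^^^ x
  raw ++ st.flatMap fun g => raw.map (act g)

/-- The subspace attached to `1`. -/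
def inU (v : Vec) : Bool := (v.val % 16 == 0 || v.val % 16 == 1 || v.val % 16 == 4 || v.val % 16 == 5 ||
  v.val % 16 == 8 || v.val % 16 == 9 || v.val % 16 == 12 || v.val % 16 == 13) && v.val / 16 ≤ 1

/-- Its intersection with the first summand. -/
def inD (v : Vec) : Bool := inU v && v.val / 16 == 0

theorem hull45 : ∀ s : Perm (Fin 3), s * s = 1 → ∀ p : Perm (Fin 6), p * p = 1 → act (s, p) 1 = 1 →
    ((s = 1 ∨ s = swap 0 1) ∧ (p = 1 ∨ p = swap 0 1)) ∨
    (∃ a ∈ hull stab45 perp45 (s, p), ∃ b ∈ 0 :: hull stab45 perp45 (s, p), Qf (a ^^^ b) = true) ∨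
    ∀ v ∈ ([1, 4, 8, 16] : List Vec), v ∈ spanList (1 :: hull stab45 perp45 (s, p)) := by
  decide +kernel

theorem hull90 : ∀ s : Perm (Fin 3), s * s = 1 → ∀ p : Perm (Fin 6), p * p = 1 → act (s, p) 20 = 20 →
    (s = 1 ∧ p = 1) ∨
    ∃ a ∈ hull stab90 perp90 (s, p), ∃ b ∈ 0 :: hull stab90 perp90 (s, p), Qf (a ^^^ b) = true ∨
      (R1 (a ^^^ b) = false ∧ R1 (a ^^^ b ^^^ 20) = true ∧ a ^^^ b ≠ 0 ∧ a ^^^ b ^^^ 20 ≠ 0) := by
  decide +kernel

theorem inU_span : ∀ v : Vec, inU v = true → v ∈ spanList [1, 4, 8, 16] := by decide +kernel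

theorem U_props : (∀ v : Vec, v ∈ spanList [1, 4, 8, 16] → inU v = true) ∧ (spanList [1, 4, 8, 16]).Nodup ∧
    (spanList [1, 4, 8, 16]).length = 16 := by decide +kernel

theorem inD_iff : ∀ v : Vec, inD v = true ↔ v.val < 16 ∧ Qf (1 ^^^ Fin.ofNat 256 (v.val * 16)) = false := by
  decide +kernel

theorem D_orbit : ∀ d : Vec, inD d = true → d ≠ 0 → d ≠ 1 → ∀ v : Vec, inD v = true →
    v ∈ spanList ([1, d] ++ stab45.map (act · d) ++ stab45.flatMap fun g => stab45.map fun g' => act g' (act g d)) := by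
  decide +kernel

theorem stab_first : ∀ (s : Perm (Fin 3)) (p : Perm (Fin 6)), act (s, p) 1 = 1 →
    ∀ i ∈ ([1, 2, 4, 8] : List Vec), (act (s, p) i).val < 16 := by decide +kernel

theorem fix_first : ∀ (s : Perm (Fin 3)) (p : Perm (Fin 6)),
    (∀ i ∈ ([1, 2, 4, 8] : List Vec), act (s, p) i = i) → (s = 1 ∨ s = swap 0 1) ∧ p = 1 := by
  decide +kernel

/-- Words taking `1` to the nonzero vectors of the first summand. -/
def firstWords : List (List (Fin 4)) := [[], [0], [0, 0], [3, 0, 0], [2, 0], [1, 3, 2, 0], [0, 3, 0, 0], [2], [1, 3, 0], [2, 3, 0], [3, 2, 0], [3, 0], [2, 0, 0], [0, 0, 3, 0], [0, 3, 0]]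

theorem reach : ∀ v : Vec, v.val < 16 → v ≠ 0 → ∃ w ∈ firstWords, act (1, word w) 1 = v := by decide +kernel

theorem first_R1 : ∀ v : Vec, v.val < 16 → v ≠ 0 → R1 v = true ∧ Qf v = false := by decide +kernel

/-- The form of the natural module. -/
def om (v w : Vec) : Bool := Qf (v ^^^ Fin.ofNat 256 (w.val * 16))

theorem connected : ∀ v : Vec, v.val < 16 → v ≠ 0 → ∀ w : Vec, w.val < 16 → w ≠ 0 →
    ∃ y : Fin 16, (y : ℕ) ≠ 0 ∧ om v (Fin.ofNat 256 (y : ℕ)) = false ∧ om (Fin.ofNat 256 (y : ℕ)) w = false := by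
  decide +kernel

theorem transvection : ∀ v : Vec,
    (act (swap 0 1, 1) v = v ↔ v.val < 16) ∧ act (swap 0 1, 1) v ^^^ v = Fin.ofNat 256 (v.val / 16) := by
  decide +kernel

theorem first_closed : ∀ v : Vec, v.val < 16 → ∀ w : Vec, w.val < 16 → (v ^^^ w).val < 16 := by
  decide +kernel

theorem om_symm : ∀ v : Vec, v.val < 16 → ∀ w : Vec, w.val < 16 → om v w = om w v ∧
    (om v w = false → om v (v ^^^ w) = false) := by decide +kernel

end CfsgLib.Characterizations.ExtraNine
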