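import Cfsg.Agent.Lib.Characterizations.ExtraNine.Group
import Cfsg.Agent.Lib.Characterizations.ExtraNine.Coord
import Cfsg.Agent.Lib.Characterizations.ExtraNine.FirstFacts

/-!
The quotient `Q / Z` identified with the model, and the subgroup shared by two fused involutions.
-/

set_option autoImplicit false
set_option linter.unusedSectionVars false

namespace CfsgLib.Characterizations.ExtraNine

open Equiv Subgroup
open CfsgLib.ThreeTransp.Extraspecial CfsgLib.ThreeTransp.ExtraspecialCore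

universe uG

variable {G : Type uG} [Group G]

/-- The data with coordinates. -/
structure Geo (G : Type uG) [Group G] [Finite G] extends Ctx G where
  Φ : Vec ≃ Ctx.V
  Φ_add : ∀ v w, Φ (v ^^^ w) = Φ v + Φ w
  Φ_op : ∀ g ∈ φ.range, ∀ v, toCtx.op g (Φ v) = Φ (act g v)
  Φ_form : ∀ v, toCtx.form (Φ v) = if Qf v then 1 else 0

variable [Finite G]

/-- Coordinates exist. -/
theorem exists_geo (c : Ctx G) (g : G) (hu : g * c.z * g⁻¹ ∈ c.Q) (hne : g * c.z * g⁻¹ ≠ c.z) :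
    ∃ X : Geo G, X.z = c.z := by
  obtain ⟨ψ, hψ, Φ, hadd, hop, hform⟩ :=
    exists_coord c.rep (fixed_eq_zero c.rep (c.fused g hu hne))
  let φ' : centralizer ({c.z} : Set G) →* K := ((MonoidHom.id _).prodMap ψ.symm.toMonoidHom).comp c.φ
  have hφ' : ∀ h, φ' h = ((c.φ h).1, ψ.symm (c.φ h).2) := fun h => rfl
  have hmem : ∀ a : K, a ∈ φ'.range ↔ (a.1, ψ a.2) ∈ c.φ.range := by
    intro a
    constructor
    · rintro ⟨h, rfl⟩
      refine ⟨h, ?_⟩
      rw [hφ']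
      exact Prod.ext rfl (ψ.apply_symm_apply _).symm
    · rintro ⟨h, hh⟩
      refine ⟨h, ?_⟩
      rw [hφ', hh]
      exact Prod.ext rfl (ψ.symm_apply_apply _)
  let c' : Ctx G :=
    { c with
      φ := φ'
      hker := fun h => by
        rw [← c.hker h, hφ']
        constructor
        · intro e
          rw [Prod.ext_iff] at e
          exact Prod.ext e.1 (ψ.symm.injective (e.2.trans (map_one _).symm))
        · intro e
          rw [e]
          exact Prod.ext rfl (map_one _)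
      alt := fun a h1 h2 => (hmem a).2 (c.alt _ h1 (by rw [hψ]; exact h2))
      odd := by
        obtain ⟨a, ha, hs⟩ := c.odd
        exact ⟨(a.1, ψ.symm a.2), (hmem _).2 (by simpa using ha), hs⟩ }
  have hpr : c'.pr = c.pr := rfl
  refine ⟨{ toCtx := c', Φ := Φ, Φ_add := hadd, Φ_op := ?_, Φ_form := hform }, rfl⟩
  rintro _ ⟨h, rfl⟩ v
  have h1 := hop (φ' h) ((hmem _).1 ⟨h, rfl⟩) v
  obtain ⟨x, hx, hxv⟩ := c.pr_surj (Φ v)
  have e : ((φ' h).1, ψ (φ' h).2) = c.φ h := by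
    rw [hφ']; exact Prod.ext rfl (ψ.apply_symm_apply _)
  show c'.op (c'.φ h) (Φ v) = _
  rw [← h1]
  show _ = c.op ((φ' h).1, ψ (φ' h).2) (Φ v)
  rw [e, ← hxv, c.op_pr h hx]
  have h2 := c'.op_pr h hx
  rw [hpr] at h2
  exact h2

namespace Geo

variable (X : Geo G)

/-- The projection to the model. -/
noncomputable def pv (x : G) : Vec := X.Φ.symm (X.pr x)

theorem Φ_symm_add (v w : Ctx.V) : X.Φ.symm (v + w) = X.Φ.symm v ^^^ X.Φ.symm w := by
  apply X.Φ.injective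
  rw [X.Φ_add, Equiv.apply_symm_apply, Equiv.apply_symm_apply, Equiv.apply_symm_apply]

theorem pv_mul {x y : G} (hx : x ∈ X.Q) (hy : y ∈ X.Q) : X.pv (x * y) = X.pv x ^^^ X.pv y := by
  rw [pv, pv, pv, X.pr_mul hx hy, X.Φ_symm_add]

theorem Φ_zero : X.Φ 0 = 0 := by
  have h := X.Φ_add 0 0
  rw [xor_self'] at h
  simpa using h

theorem pv_eq_zero {x : G} (hx : x ∈ X.Q) : X.pv x = 0 ↔ x = 1 ∨ x = X.z := by
  rw [pv, ← X.pr_eq_zero hx, Equiv.symm_apply_eq, X.Φ_zero]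

theorem pv_surj (v : Vec) : ∃ x ∈ X.Q, X.pv x = v := by
  obtain ⟨x, hx, h⟩ := X.pr_surj (X.Φ v)
  exact ⟨x, hx, by rw [pv, h, Equiv.symm_apply_apply]⟩

theorem pv_eq {x y : G} (hx : x ∈ X.Q) (hy : y ∈ X.Q) (h : X.pv x = X.pv y) : y = x ∨ y = x * X.z :=
  X.pr_eq hx hy (X.Φ.symm.injective h)

theorem pv_mul_z {x : G} (hx : x ∈ X.Q) : X.pv (x * X.z) = X.pv x := by
  rw [X.pv_mul hx X.z_mem, (X.pv_eq_zero X.z_mem).2 (Or.inr rfl), xor_zero']

theorem pv_conj (h : X.H) {x : G} (hx : x ∈ X.Q) :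
    X.pv ((h : G) * x * (h : G)⁻¹) = act (X.φ h) (X.pv x) := by
  apply X.Φ.injective
  rw [← X.Φ_op _ ⟨h, rfl⟩, pv, pv, Equiv.apply_symm_apply, Equiv.apply_symm_apply, X.op_pr h hx]

theorem Qf_pv {x : G} (hx : x ∈ X.Q) : Qf (X.pv x) = false ↔ x * x = 1 := by
  rw [← X.form_pr hx, ← Equiv.apply_symm_apply X.Φ (X.pr x), X.Φ_form, pv]
  cases Qf (X.Φ.symm (X.pr x)) <;> simp

theorem Bf_pv {x y : G} (hx : x ∈ X.Q) (hy : y ∈ X.Q) :
    Bf (X.pv x) (X.pv y) = false ↔ x * y = y * x := by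
  rw [← X.polar_pr hx hy, QuadraticMap.polar, ← Equiv.apply_symm_apply X.Φ (X.pr x),
    ← Equiv.apply_symm_apply X.Φ (X.pr y), ← X.Φ_add, X.Φ_form, X.Φ_form, X.Φ_form, Bf]
  simp only [pv]
  cases Qf (X.Φ.symm (X.pr x) ^^^ X.Φ.symm (X.pr y)) <;> cases Qf (X.Φ.symm (X.pr x)) <;>
    cases Qf (X.Φ.symm (X.pr y)) <;> decide

/-- An element of `Q` other than `z` conjugate to `z`. -/
def IsFused (x : G) : Prop := x ∈ X.Q ∧ x ≠ X.z ∧ ∃ g : G, g * X.z * g⁻¹ = x

theorem IsFused.ne_one {X : Geo G} {x : G} (h : X.IsFused x) : x ≠ 1 := by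
  obtain ⟨-, -, g, rfl⟩ := h
  exact fun e => X.extra.z_ne (conj_eq_one_iff.1 e)

theorem IsFused.conj {X : Geo G} {x : G} (h : X.IsFused x) {a : G} (ha : a ∈ X.H) : X.IsFused (a * x * a⁻¹) := by
  obtain ⟨hx, hne, g, rfl⟩ := h
  refine ⟨X.conj_mem_Q ha hx, fun e => hne ?_, a * g, by group⟩
  calc g * X.z * g⁻¹ = a⁻¹ * (a * (g * X.z * g⁻¹) * a⁻¹) * a := by group
    _ = X.z := by rw [e, mul_assoc, ← X.mem_H.1 ha, inv_mul_cancel_left]

theorem IsFused.of_pv {X : Geo G} {x y : G} (h : X.IsFused x) (hy : y ∈ X.Q) (e : X.pv x = X.pv y) : X.IsFused y := by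
  rcases X.pv_eq h.1 hy e with r | r
  · exact r ▸ h
  · obtain ⟨a, ha, hax⟩ := X.extra.exists_conj_eq h.1 h.ne_one h.2.1
    rw [r, ← hax]
    exact h.conj (X.Q_le_H ha)

theorem word_act {r : Vec} : ∀ (l : List (Fin 5)),
    ∃ g ∈ X.φ.range, l.foldr (fun i v => act (gen5 i) v) r = act g r := by
  intro l
  induction l with
  | nil => exact ⟨1, one_mem _, (act_one r).symm⟩
  | cons i l ih =>
    obtain ⟨g, hg, e⟩ := ih
    refine ⟨gen5 i * g, mul_mem (X.alt _ ?_ ?_) hg, by rw [List.foldr_cons, e, act_mul]⟩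
    · revert i; decide +kernel
    · revert i; decide +kernel

/-- The singular vectors of one kind are in one orbit. -/
theorem exists_act {v : Vec} (hv : v ≠ 0) (hq : Qf v = false) :
    ∃ g ∈ X.φ.range, act g (if R1 v then 1 else 20) = v := by
  rcases orbit_cover v with h | h | h | h
  · exact absurd h hv
  · obtain ⟨h1, -, p, -, -, hp⟩ := h
    obtain ⟨g, hg, e⟩ := X.word_act (r := 1) p.2
    exact ⟨g, hg, by rw [if_pos h1, ← e, hp]⟩
  · obtain ⟨h1, -, p, -, -, hp⟩ := h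
    obtain ⟨g, hg, e⟩ := X.word_act (r := 20) p.2
    exact ⟨g, hg, by rw [h1, if_neg Bool.false_ne_true, ← e, hp]⟩
  · obtain ⟨-, h2, -⟩ := h
    rw [h2] at hq
    exact Bool.noConfusion hq

theorem fused_props {x : G} (h : X.IsFused x) : X.pv x ≠ 0 ∧ Qf (X.pv x) = false := by
  refine ⟨fun e => ((X.pv_eq_zero h.1).1 e).elim h.ne_one h.2.1, (X.Qf_pv h.1).2 ?_⟩
  obtain ⟨-, -, g, rfl⟩ := h
  rw [conj_mul, X.extra.z_sq]; group

/-- A fused element with the coordinates of another one of the same kind. -/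
theorem fused_move {x : G} (h : X.IsFused x) {v : Vec} (hv : v ≠ 0) (hq : Qf v = false)
    (hk : R1 v = R1 (X.pv x)) : ∃ y, X.IsFused y ∧ X.pv y = v := by
  obtain ⟨hx0, hxq⟩ := X.fused_props h
  obtain ⟨g1, hg1, e1⟩ := X.exists_act hx0 hxq
  obtain ⟨g2, hg2, e2⟩ := X.exists_act hv hq
  obtain ⟨a, ha⟩ := mul_mem hg2 (inv_mem hg1)
  refine ⟨(a : G) * x * (a : G)⁻¹, h.conj a.2, ?_⟩
  rw [X.pv_conj a h.1, ha, act_mul, ← e1, ← act_mul g1⁻¹, inv_mul_cancel, act_one, ← hk]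
  exact e2

theorem shared_mem {g : G} (hu : g * X.z * g⁻¹ ∈ X.Q) (hne : g * X.z * g⁻¹ ≠ X.z) {v : Vec}
    (hv : X.Φ v ∈ (X.fused g hu hne).U) : ∃ x ∈ X.Q, x ∈ core (g * X.z * g⁻¹) ∧ X.pv x = v := by
  obtain ⟨x, hx, hx', e⟩ := hv
  exact ⟨x, hx, hx', by rw [pv, e, Equiv.symm_apply_apply]⟩

theorem hull_mem {g : G} (hu : g * X.z * g⁻¹ ∈ X.Q) (hne : g * X.z * g⁻¹ ≠ X.z) {st : List K} {pb : List Vec}
    (hst : ∀ a ∈ st, act a (X.pv (g * X.z * g⁻¹)) = X.pv (g * X.z * g⁻¹) ∧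
      Perm.sign a.1 = 1 ∧ Perm.sign a.2 = 1)
    (hpb : ∀ v ∈ pb, Bf (X.pv (g * X.z * g⁻¹)) v = false)
    {w : K} (hw : w ∈ (X.fused g hu hne).W) :
    ∀ v ∈ hull st pb w, X.Φ v ∈ (X.fused g hu hne).U := by
  set F := X.fused g hu hne with hF
  have hwR : w ∈ X.φ.range := F.W_le hw
  have hFu : X.Φ (X.pv (g * X.z * g⁻¹)) = F.u := Equiv.apply_symm_apply _ _
  have hraw : ∀ v ∈ pb, X.Φ (act w v ^^^ v) ∈ F.U := by
    intro v hv
    rw [X.Φ_add, ← X.Φ_op w hwR]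
    refine F.W_perp w hw _ ?_
    show X.form (F.u + X.Φ v) + X.form F.u + X.form (X.Φ v) = 0
    rw [← hFu, ← X.Φ_add, X.Φ_form, X.Φ_form, X.Φ_form]
    have := hpb v hv
    unfold Bf at this
    revert this
    cases Qf (X.pv (g * X.z * g⁻¹) ^^^ v) <;> cases Qf (X.pv (g * X.z * g⁻¹)) <;> cases Qf v <;> decide
  intro v hv
  simp only [hull, List.mem_append, List.mem_flatMap, List.mem_map] at hv
  rcases hv with ⟨x, hx, rfl⟩ | ⟨a, ha, _, ⟨x, hx, rfl⟩, rfl⟩
  · exact hraw x hx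
  · obtain ⟨h1, h2, h3⟩ := hst a ha
    rw [← X.Φ_op a (X.alt a h2 h3)]
    refine F.stab_U a (X.alt a h2 h3) ?_ _ (hraw x hx)
    show X.op a F.u = F.u
    rw [← hFu, X.Φ_op a (X.alt a h2 h3), h1]

theorem U_xor {g : G} (hu : g * X.z * g⁻¹ ∈ X.Q) (hne : g * X.z * g⁻¹ ≠ X.z) {v w : Vec}
    (hv : X.Φ v ∈ (X.fused g hu hne).U) (hw : X.Φ w ∈ (X.fused g hu hne).U) :
    X.Φ (v ^^^ w) ∈ (X.fused g hu hne).U := by
  rw [X.Φ_add]; exact add_mem hv hw

theorem W_big {g : G} (hu : g * X.z * g⁻¹ ∈ X.Q) (hne : g * X.z * g⁻¹ ≠ X.z) :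
    8 ≤ Nat.card (X.fused g hu hne).W := by
  have h1 := (X.fused g hu hne).card_U
  have h2 := (X.fused g hu hne).card_mul
  by_contra h
  push Not at h
  have : Nat.card (X.fused g hu hne).W * Nat.card (X.fused g hu hne).U ≤ 7 * 16 :=
    Nat.mul_le_mul (by omega) h1
  omega

/-- Some fused element has coordinates `1`. -/
theorem exists_base {g : G} (hu : g * X.z * g⁻¹ ∈ X.Q) (hne : g * X.z * g⁻¹ ≠ X.z) :
    ∃ x, X.IsFused x ∧ X.pv x = 1 := by
  have hx : X.IsFused (g * X.z * g⁻¹) := ⟨hu, hne, g, rfl⟩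
  by_cases h1 : R1 (X.pv (g * X.z * g⁻¹)) = true
  · exact X.fused_move hx (by decide) (by decide) (by rw [h1]; decide)
  obtain ⟨y, hy, hy20⟩ := X.fused_move hx (v := 20) (by decide) (by decide)
    (by rw [Bool.eq_false_iff.2 h1]; decide)
  obtain ⟨hyQ, hyne, k, rfl⟩ := hy
  set F := X.fused k hyQ hyne with hF
  obtain ⟨w, hw1⟩ : ∃ w : F.W, (w : K) ≠ 1 := by
    by_contra hall
    push Not at hall
    haveI : Subsingleton F.W := ⟨fun a b => Subtype.ext ((hall a).trans (hall b).symm)⟩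
    have h8 := X.W_big hyQ hyne
    rw [← hF, Nat.card_eq_one_iff_unique.2 ⟨inferInstance, inferInstance⟩] at h8
    omega
  obtain ⟨⟨s, p⟩, hw⟩ := w
  have hwR : ((s, p) : K) ∈ X.φ.range := F.W_le hw
  have hwfix : act (s, p) 20 = 20 := by
    apply X.Φ.injective
    rw [← X.Φ_op _ hwR, ← hy20, pv, Equiv.apply_symm_apply]
    exact F.W_fix _ hw
  have hwsq := F.W_sq _ hw
  rw [Prod.mk_mul_mk, Prod.mk_eq_one] at hwsq
  have hull := X.hull_mem hyQ hyne (st := stab90) (pb := perp90)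
    (by rw [hy20]; exact stab_ok.2.1) (by rw [hy20]; exact stab_ok.2.2.2) hw
  have h0 : X.Φ 0 ∈ F.U := by rw [X.Φ_zero]; exact zero_mem _
  rcases hull90 s hwsq.1 p hwsq.2 hwfix with ⟨rfl, rfl⟩ | ⟨a, ha, b, hb, hab⟩
  · exact absurd rfl hw1
  have hbU : X.Φ b ∈ F.U := by
    rcases List.mem_cons.1 hb with rfl | hb
    · exact h0
    · exact hull b hb
  obtain ⟨x, hxQ, hxcore, hxv⟩ := X.shared_mem hyQ hyne (X.U_xor hyQ hyne (hull a ha) hbU)
  have hxsing : Qf (a ^^^ b) = false := by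
    have := F.U_singular _ (X.U_xor hyQ hyne (hull a ha) hbU)
    rw [show X.rep.q = X.form from rfl, X.Φ_form] at this
    revert this
    cases Qf (a ^^^ b) <;> decide
  rcases hab with h | ⟨hr, hr', hne0, hne20⟩
  · rw [hxsing] at h; exact Bool.noConfusion h
  obtain ⟨x', hx', hx'v⟩ := X.fused_move (x := k * X.z * k⁻¹) ⟨hyQ, hyne, k, rfl⟩ hne0 hxsing
    (by rw [hr, hy20]; decide)
  have hxf : X.IsFused x := hx'.of_pv hxQ (hx'v.trans hxv.symm)
  have hQ' := extra_core_conj X.hz X.hE X.hC k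
  have hxu : x ≠ k * X.z * k⁻¹ := fun e => hne20 (by rw [← hxv, e, hy20, xor_self'])
  obtain ⟨q, hq, hqx⟩ := hQ'.exists_conj_eq hxcore hxf.ne_one hxu
  have hnz : X.pv (x * (k * X.z * k⁻¹)) = a ^^^ b ^^^ 20 := by rw [X.pv_mul hxQ hyQ, hxv, hy20]
  obtain ⟨hxQ', -, m, rfl⟩ := hxf
  have hfu : X.IsFused (m * X.z * m⁻¹ * (k * X.z * k⁻¹)) := by
    refine ⟨mul_mem hxQ hyQ, fun e => hne20 ?_, q * m, ?_⟩
    · rw [← hnz, e]; exact (X.pv_eq_zero X.z_mem).2 (Or.inr rfl)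
    · rw [← hqx]; group
  exact X.fused_move hfu (by decide) (by decide) (by rw [hnz, hr']; decide)

/-- The shared subgroup at an element with coordinates `1`. -/
theorem mem_shared {g : G} (hu : g * X.z * g⁻¹ ∈ X.Q) (hne : g * X.z * g⁻¹ ≠ X.z)
    (h1 : X.pv (g * X.z * g⁻¹) = 1) {x : G} (hx : x ∈ X.Q) :
    x ∈ core (g * X.z * g⁻¹) ↔ inU (X.pv x) = true := by
  classical
  set F := X.fused g hu hne with hF
  have h1U : X.Φ 1 ∈ F.U := by
    rw [← h1, pv, Equiv.apply_symm_apply]; exact F.u_mem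
  obtain ⟨s, p, hw, hbad⟩ : ∃ s p, ((s, p) : K) ∈ F.W ∧
      ¬((s = 1 ∨ s = swap 0 1) ∧ (p = 1 ∨ p = swap 0 1)) := by
    by_contra hall
    push Not at hall
    let f : F.W → Bool × Bool := fun w => (decide ((w : K).1 = 1), decide ((w : K).2 = 1))
    have hf : Function.Injective f := by
      rintro ⟨⟨s, p⟩, hw⟩ ⟨⟨s', p'⟩, hw'⟩ e
      simp only [f, Prod.mk.injEq, decide_eq_decide] at e
      obtain ⟨hs, hp⟩ := hall s p hw
      obtain ⟨hs', hp'⟩ := hall s' p' hw'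
      refine Subtype.ext (Prod.ext ?_ ?_) <;> simp only
      · rcases hs with rfl | rfl <;> rcases hs' with rfl | rfl <;> simp_all
      · rcases hp with rfl | rfl <;> rcases hp' with rfl | rfl <;> simp_all
    have := (Nat.card_le_card_of_injective f hf).trans (le_of_eq (by simp : Nat.card (Bool × Bool) = 4))
    have := X.W_big hu hne
    rw [← hF] at this
    omega
  have hwR : ((s, p) : K) ∈ X.φ.range := F.W_le hw
  have hwfix : act (s, p) 1 = 1 := by
    apply X.Φ.injective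
    rw [← X.Φ_op _ hwR, ← h1, pv, Equiv.apply_symm_apply]
    exact F.W_fix _ hw
  have hwsq := F.W_sq _ hw
  rw [Prod.mk_mul_mk, Prod.mk_eq_one] at hwsq
  have hull := X.hull_mem hu hne (st := stab45) (pb := perp45)
    (by rw [h1]; exact stab_ok.1) (by rw [h1]; exact stab_ok.2.2.1) hw
  have hspan : ∀ v ∈ ([1, 4, 8, 16] : List Vec), X.Φ v ∈ F.U := by
    rcases hull45 s hwsq.1 p hwsq.2 hwfix with h | ⟨a, ha, b, hb, hab⟩ | h
    · exact absurd h hbad
    · exfalso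
      have hbU : X.Φ b ∈ F.U := by
        rcases List.mem_cons.1 hb with rfl | hb
        · rw [X.Φ_zero]; exact zero_mem _
        · exact hull b hb
      have := F.U_singular _ (X.U_xor hu hne (hull a ha) hbU)
      rw [show X.rep.q = X.form from rfl, X.Φ_form, hab] at this
      exact absurd this (by decide)
    · intro v hv
      refine spanList_mem (fun t => X.Φ t ∈ F.U) (by rw [X.Φ_zero]; exact zero_mem _)
        (fun a b ha hb => X.U_xor hu hne ha hb) _ ?_ v (h v hv)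
      intro t ht
      rcases List.mem_cons.1 ht with rfl | ht
      · exact h1U
      · exact hull t ht
  have hsub : ∀ v : Vec, inU v = true → X.Φ v ∈ F.U := fun v hv =>
    spanList_mem (fun t => X.Φ t ∈ F.U) (by rw [X.Φ_zero]; exact zero_mem _)
      (fun a b ha hb => X.U_xor hu hne ha hb) _ hspan v (inU_span v hv)
  have hcard : Nat.card {v : Vec // inU v = true} = 16 := by
    rw [Nat.card_eq_fintype_card]; decide +kernel
  have hbij : Function.Surjective (fun v : {v : Vec // inU v = true} => (⟨X.Φ v.1, hsub v.1 v.2⟩ : F.U)) := by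
    have hinj : Function.Injective (fun v : {v : Vec // inU v = true} => (⟨X.Φ v.1, hsub v.1 v.2⟩ : F.U)) :=
      fun a b e => Subtype.ext (X.Φ.injective (congrArg Subtype.val e))
    exact (hinj.bijective_of_nat_card_le (by rw [hcard]; exact F.card_U)).2
  constructor
  · intro hx'
    obtain ⟨v, hv⟩ := hbij ⟨X.pr x, x, hx, hx', rfl⟩
    have e : X.Φ v.1 = X.pr x := congrArg Subtype.val hv
    rw [pv, ← e, Equiv.symm_apply_apply]
    exact v.2
  · intro hv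
    obtain ⟨x', hx'Q, hx', e⟩ := X.shared_mem hu hne (hsub _ hv)
    rcases X.pv_eq hx'Q hx e with r | r
    · exact r ▸ hx'
    · exact r ▸ mul_mem hx' (orth_symm X.hz X.hE X.hC g hu)

end Geo

end CfsgLib.Characterizations.ExtraNine
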