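import Cfsg.Agent.Lib.Characterizations.ExtraNine.Fpf
import Cfsg.Agent.Lib.ThreeTransp.ExtraspecialCore
import Cfsg.Agent.Lib.ThreeTransp.ExtraspecialOut
import Cfsg.Agent.Lib.Characterizations.LargeExtraspecialQuadratic

/-!
From an involution whose centraliser is an extension of an extraspecial group of order `2⁹` by a
group between `A₃ × A₆` and `S₃ × S₆` to a representation and a fused vector.
-/

set_option autoImplicit false
set_option linter.unusedSectionVars false

namespace CfsgLib.Characterizations.ExtraNine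

open Equiv Subgroup QuadraticMap
open CfsgLib.ThreeTransp.Extraspecial CfsgLib.ThreeTransp.ExtraspecialCore
open CfsgLib.ThreeTransp.ExtraspecialOut (Frame qf qf_π ε π_one π_inv of_π_eq polar_qf polar_add_right' cm)

universe uG

/-- The data. -/
structure Ctx (G : Type uG) [Group G] where
  z : G
  hz : orderOf z = 2
  hE : Cfsg.IsExtraspecial 2 ↥(core z)
  hC : centralizer ((core z : Subgroup G) : Set G) ≤ core z
  card : Nat.card (core z) = 2 ^ 9
  φ : centralizer ({z} : Set G) →* K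
  hker : ∀ h : centralizer ({z} : Set G), φ h = 1 ↔ (h : G) ∈ core z
  alt : ∀ g : K, Perm.sign g.1 = 1 → Perm.sign g.2 = 1 → g ∈ φ.range
  odd : ∃ g ∈ φ.range, Perm.sign g.1 = -1

variable {G : Type uG} [Group G] [Finite G]

namespace Ctx

variable (c : Ctx G)

/-- The group `Q`. -/
noncomputable abbrev Q : Subgroup G := core c.z

/-- The group `C(z)`. -/
abbrev H : Subgroup G := centralizer ({c.z} : Set G)

theorem extra : Extra c.Q c.z := (extra_core c.hz c.hE c.hC).1

theorem mem_Q_of_comm {x : G} (h : ∀ q ∈ c.Q, x * q = q * x) : x ∈ c.Q :=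
  (extra_core c.hz c.hE c.hC).2.1 x h

theorem z_mem : c.z ∈ c.Q := c.extra.z_mem

theorem Q_le_H : c.Q ≤ c.H := core_le_centralizer c.z

theorem mem_H {x : G} : x ∈ c.H ↔ x * c.z = c.z * x := mem_centralizer_singleton_iff

theorem conj_mem_Q {h : G} (hh : h ∈ c.H) {x : G} (hx : x ∈ c.Q) : h * x * h⁻¹ ∈ c.Q :=
  (mem_normalizer_iff.1 (centralizer_le_normalizer_core c.z hh) x).1 hx

theorem φ_Q {x : G} (hx : x ∈ c.Q) : c.φ ⟨x, c.Q_le_H hx⟩ = 1 := (c.hker _).2 hx

theorem φ_eq {h h' : c.H} (e : c.φ h = c.φ h') : ∃ a ∈ c.Q, (h' : G) = h * a := by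
  refine ⟨(h : G)⁻¹ * h', ?_, by group⟩
  have := (c.hker (h⁻¹ * h')).1 (by rw [map_mul, map_inv, e, inv_mul_cancel])
  simpa using this

theorem exists_frame : Nonempty (Frame c.Q 8) := by
  obtain ⟨k, ⟨f⟩⟩ := CfsgLib.ThreeTransp.ExtraspecialOut.exists_frame c.hE
  have h := CfsgLib.ThreeTransp.ExtraspecialOut.card_E f
  rw [c.card] at h
  have hk : (2 : ℕ) ^ k = 2 ^ 8 := by omega
  obtain rfl := Nat.pow_right_injective le_rfl hk
  exact ⟨f⟩

/-- Chosen coordinates. -/
noncomputable def frame : Frame c.Q 8 := c.exists_frame.some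

theorem frame_z : ((c.frame.z : c.Q) : G) = c.z :=
  (c.extra.mem_center_cases c.frame.z.2 fun q hq =>
    congrArg Subtype.val (c.frame.z_comm ⟨q, hq⟩)).resolve_left fun h => c.frame.z_ne (Subtype.ext h)

/-- The space. -/
abbrev V : Type := Fin 8 → ZMod 2

open scoped Classical in
/-- The projection to the space. -/
noncomputable def pr (x : G) : V := if h : x ∈ c.Q then c.frame.π ⟨x, h⟩ else 0

theorem pr_mk {x : G} (h : x ∈ c.Q) : c.pr x = c.frame.π ⟨x, h⟩ := dif_pos h

theorem pr_mul {x y : G} (hx : x ∈ c.Q) (hy : y ∈ c.Q) : c.pr (x * y) = c.pr x + c.pr y := by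
  rw [c.pr_mk hx, c.pr_mk hy, c.pr_mk (mul_mem hx hy), ← c.frame.π_mul]
  rfl

theorem pr_inv {x : G} (hx : x ∈ c.Q) : c.pr x⁻¹ = c.pr x := by
  rw [c.pr_mk hx, c.pr_mk (inv_mem hx), ← π_inv c.frame ⟨x, hx⟩]
  rfl

theorem pr_eq_zero {x : G} (hx : x ∈ c.Q) : c.pr x = 0 ↔ x = 1 ∨ x = c.z := by
  rw [c.pr_mk hx, c.frame.π_ker, ← c.frame_z, ← Subtype.coe_inj, ← Subtype.coe_inj]
  rfl

theorem pr_surj (v : V) : ∃ x ∈ c.Q, c.pr x = v := by
  obtain ⟨x, rfl⟩ := c.frame.π_surj v
  exact ⟨x, x.2, c.pr_mk x.2⟩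

theorem vec_two (v : V) : v + v = 0 := funext fun _ => CharTwo.add_self_eq_zero _

theorem pr_eq {x y : G} (hx : x ∈ c.Q) (hy : y ∈ c.Q) (h : c.pr x = c.pr y) :
    y = x ∨ y = x * c.z := by
  have h0 : c.pr (x⁻¹ * y) = 0 := by rw [c.pr_mul (inv_mem hx) hy, c.pr_inv hx, h, vec_two]
  rcases (c.pr_eq_zero (mul_mem (inv_mem hx) hy)).1 h0 with e | e
  · exact Or.inl (inv_mul_eq_one.1 e).symm
  · right; rw [← e]; group

theorem ε_eq_zero {k : ℕ} {E : Type*} [Group E] (_f : Frame E k) (x : E) : ε x = 0 ↔ x = 1 := by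
  unfold ε
  split_ifs with h <;> simp [h]

/-- The form. -/
noncomputable def form (v : V) : ZMod 2 := qf c.frame v

theorem form_pr {x : G} (hx : x ∈ c.Q) : c.form (c.pr x) = 0 ↔ x * x = 1 := by
  rw [form, c.pr_mk hx, qf_π, ε_eq_zero c.frame, ← Subtype.coe_inj]
  rfl

theorem polar_pr {x y : G} (hx : x ∈ c.Q) (hy : y ∈ c.Q) :
    polar c.form (c.pr x) (c.pr y) = 0 ↔ x * y = y * x := by
  show polar (qf c.frame) _ _ = 0 ↔ _
  rw [c.pr_mk hx, c.pr_mk hy, polar_qf, ε_eq_zero c.frame, cm, ← Subtype.coe_inj]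
  show x⁻¹ * y * x * y⁻¹ = 1 ↔ _
  rw [mul_inv_eq_one, mul_assoc, inv_mul_eq_iff_eq_mul, eq_comm]

theorem cubic (x y w : V) : c.form (x + y + w) + c.form (x + y) + c.form (y + w) + c.form (x + w) +
    c.form x + c.form y + c.form w = 0 := by
  have h := polar_add_right' c.frame x y w
  simp only [polar, ← add_assoc] at h
  show qf c.frame (x + y + w) + qf c.frame (x + y) + qf c.frame (y + w) + qf c.frame (x + w) +
    qf c.frame x + qf c.frame y + qf c.frame w = 0
  revert h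
  generalize qf c.frame (x + y + w) = a
  generalize qf c.frame (x + y) = b
  generalize qf c.frame (y + w) = d
  generalize qf c.frame (x + w) = i
  generalize qf c.frame x = j
  generalize qf c.frame y = m
  generalize qf c.frame w = n
  revert a b d i j m n
  decide

theorem conj_pr_congr {h h' : c.H} (e : c.φ h = c.φ h') {x : G} (hx : x ∈ c.Q) :
    c.pr ((h : G) * x * (h : G)⁻¹) = c.pr ((h' : G) * x * (h' : G)⁻¹) := by
  obtain ⟨a, ha, ha'⟩ := c.φ_eq e
  rw [ha', show (h : G) * a * x * ((h : G) * a)⁻¹ = (h : G) * (a * x * a⁻¹) * (h : G)⁻¹ by group]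
  rcases c.extra.conj_cases hx ha with r | r <;> rw [r]
  rw [show (h : G) * (x * c.z) * (h : G)⁻¹ = ((h : G) * x * (h : G)⁻¹) * c.z by
    have hz := c.mem_H.1 (inv_mem h.2)
    rw [mul_assoc, mul_assoc x, ← hz]; group,
    c.pr_mul (c.conj_mem_Q h.2 hx) c.z_mem, (c.pr_eq_zero c.z_mem).2 (Or.inr rfl), add_zero]

open scoped Classical in
/-- The action. -/
noncomputable def op (g : K) (v : V) : V :=
  if hg : g ∈ c.φ.range then
    c.pr ((hg.choose : G) * (c.pr_surj v).choose * (hg.choose : G)⁻¹) else v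

theorem op_pr (h : c.H) {x : G} (hx : x ∈ c.Q) :
    c.op (c.φ h) (c.pr x) = c.pr ((h : G) * x * (h : G)⁻¹) := by
  have hg : c.φ h ∈ c.φ.range := ⟨h, rfl⟩
  rw [op, dif_pos hg, c.conj_pr_congr hg.choose_spec (c.pr_surj _).choose_spec.1]
  obtain ⟨hy, hyx⟩ := (c.pr_surj (c.pr x)).choose_spec
  set y := (c.pr_surj (c.pr x)).choose
  rcases c.pr_eq hy hx hyx with e | e
  · rw [e]
  · have hz := c.mem_H.1 (inv_mem h.2)
    rw [e, show (h : G) * (y * c.z) * (h : G)⁻¹ = ((h : G) * y * (h : G)⁻¹) * c.z by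
      rw [mul_assoc, mul_assoc y, ← hz]; group,
      c.pr_mul (c.conj_mem_Q h.2 hy) c.z_mem, (c.pr_eq_zero c.z_mem).2 (Or.inr rfl), add_zero]

/-- The representation. -/
noncomputable def rep : Rep V where
  KI := c.φ.range
  op := c.op
  q := c.form
  two := vec_two
  card := by rw [Nat.card_fun, Nat.card_zmod, Nat.card_fin]; norm_num
  op_add := by
    rintro _ ⟨h, rfl⟩ v w
    obtain ⟨x, hx, rfl⟩ := c.pr_surj v
    obtain ⟨y, hy, rfl⟩ := c.pr_surj w
    rw [← c.pr_mul hx hy, c.op_pr h (mul_mem hx hy), c.op_pr h hx, c.op_pr h hy,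
      ← c.pr_mul (c.conj_mem_Q h.2 hx) (c.conj_mem_Q h.2 hy)]
    congr 1
    group
  op_one v := by
    obtain ⟨x, hx, rfl⟩ := c.pr_surj v
    rw [← map_one c.φ, c.op_pr 1 hx]
    simp
  op_mul := by
    rintro _ ⟨h, rfl⟩ _ ⟨h', rfl⟩ v
    obtain ⟨x, hx, rfl⟩ := c.pr_surj v
    rw [← map_mul, c.op_pr _ hx, c.op_pr h' hx, c.op_pr h (c.conj_mem_Q h'.2 hx)]
    congr 1
    rw [Subgroup.coe_mul]
    group
  faithful := by
    rintro _ ⟨h, rfl⟩ hh
    let α : MulAut c.Q :=
      { toFun := fun x => ⟨(h : G) * x * (h : G)⁻¹, c.conj_mem_Q h.2 x.2⟩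
        invFun := fun x => ⟨(h : G)⁻¹ * x * h, by
          have := c.conj_mem_Q (inv_mem h.2) x.2
          rwa [inv_inv] at this⟩
        left_inv := fun x => Subtype.ext (by simp [mul_assoc])
        right_inv := fun x => Subtype.ext (by simp [mul_assoc])
        map_mul' := fun x y => Subtype.ext (by
          show (h : G) * ((x : G) * y) * (h : G)⁻¹ = ((h : G) * x * (h : G)⁻¹) * ((h : G) * y * (h : G)⁻¹)
          group) }
    have hα : α ∈ (CfsgLib.ThreeTransp.ExtraspecialOut.toO c.frame).ker := by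
      refine MonoidHom.mem_ker.2 (Subtype.ext (LinearEquiv.ext fun w => ?_))
      obtain ⟨x, rfl⟩ := c.frame.π_surj w
      rw [CfsgLib.ThreeTransp.ExtraspecialOut.toO_apply]
      have h1 := hh (c.pr x)
      rw [c.op_pr h x.2, c.pr_mk (c.conj_mem_Q h.2 x.2), c.pr_mk x.2] at h1
      exact h1
    rw [CfsgLib.ThreeTransp.ExtraspecialOut.ker_toO] at hα
    obtain ⟨a, ha⟩ := hα
    refine (c.hker h).2 ?_
    have hm : (a : G)⁻¹ * h ∈ c.Q := c.mem_Q_of_comm fun q hq => by
      have h2 : (a : G) * q * (a : G)⁻¹ = (h : G) * q * (h : G)⁻¹ :=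
        congrArg (fun β : MulAut c.Q => ((β ⟨q, hq⟩ : c.Q) : G)) ha
      calc (a : G)⁻¹ * h * q = (a : G)⁻¹ * ((h : G) * q * (h : G)⁻¹) * h := by group
        _ = q * ((a : G)⁻¹ * h) := by rw [← h2]; group
    simpa using mul_mem a.2 hm
  q_zero := CfsgLib.ThreeTransp.ExtraspecialOut.qf_zero c.frame
  q_op := by
    rintro _ ⟨h, rfl⟩ v
    obtain ⟨x, hx, rfl⟩ := c.pr_surj v
    rw [c.op_pr h hx]
    have h2 : ∀ a b : ZMod 2, (a = 0 ↔ b = 0) → a = b := by decide
    refine h2 _ _ ?_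
    rw [c.form_pr (c.conj_mem_Q h.2 hx), c.form_pr hx, conj_mul, conj_eq_one_iff]
  polar_add := c.cubic
  nondeg := by
    intro v hv
    obtain ⟨x, hx, rfl⟩ := c.pr_surj v
    refine (c.pr_eq_zero hx).2 (c.extra.mem_center_cases hx fun y hy => (c.polar_pr hx hy).1 ?_)
    rw [← hv (c.pr y), polar]
    generalize c.form (c.pr x + c.pr y) = a
    generalize c.form (c.pr x) = b
    generalize c.form (c.pr y) = d
    revert a b d
    decide
  alt_le := c.alt
  odd := c.odd

theorem card_inter (g : G) (hu : g * c.z * g⁻¹ ∈ c.Q) (hne : g * c.z * g⁻¹ ≠ c.z) :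
    ∀ x ∈ c.Q ⊓ core (g * c.z * g⁻¹), ∀ y ∈ c.Q ⊓ core (g * c.z * g⁻¹), x * y = y * x := by
  intro x hx y hy
  rcases c.extra.conj_cases hy.1 hx.1 with e | e
  · exact mul_inv_eq_iff_eq_mul.1 e
  · rcases (extra_core_conj c.hz c.hE c.hC g).conj_cases hy.2 hx.2 with e' | e'
    · exact mul_inv_eq_iff_eq_mul.1 e'
    · exact absurd (mul_left_cancel (e'.symm.trans e)) hne

/-- Some element of `Q` other than `z` is conjugate to `z` when there is no quotient of order two. -/
theorem exists_fused (hres : Cfsg.pResidual 2 G = ⊤) :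
    ∃ g : G, g * c.z * g⁻¹ ∈ c.Q ∧ g * c.z * g⁻¹ ≠ c.z := by
  classical
  by_contra hno
  push Not at hno
  have hS := CfsgLib.Characterizations.LargeExtraspecialTransfer.setting_of c.hz rfl c.hE c.hC
  haveI := Fintype.ofFinite (G ⧸ centralizer ({c.z} : Set G))
  obtain ⟨_, ⟨h, rfl⟩, hodd⟩ := c.odd
  have h128 : 128 ≤ Nat.card (core c.z) := by rw [c.card]; norm_num
  have := CfsgLib.Characterizations.LargeExtraspecialTransfer.chi_eq_zero_quad hS h128 hres hno
    (fun h => if Perm.sign (c.φ h).1 = 1 then (0 : ZMod 2) else 1) (fun a b => by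
      rw [map_mul, Prod.fst_mul, map_mul]
      rcases Int.units_eq_one_or (Perm.sign (c.φ a).1) with e | e <;>
        rcases Int.units_eq_one_or (Perm.sign (c.φ b).1) with e' | e' <;> rw [e, e'] <;> decide) h
  simp [hodd] at this

theorem lift_fix {u : G} (hu : u ∈ c.Q) (h : c.H) (hfix : c.op (c.φ h) (c.pr u) = c.pr u) :
    ∃ h' : c.H, c.φ h' = c.φ h ∧ (h' : G) * u = u * h' := by
  rw [c.op_pr h hu] at hfix
  rcases c.pr_eq hu (c.conj_mem_Q h.2 hu) hfix.symm with e | e
  · exact ⟨h, rfl, mul_inv_eq_iff_eq_mul.1 e⟩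
  · by_cases hc : u = 1 ∨ u = c.z
    · refine ⟨h, rfl, ?_⟩
      rcases hc with rfl | rfl
      · simp
      · exact c.mem_H.1 h.2
    push Not at hc
    obtain ⟨a, ha, hau⟩ := c.extra.exists_conj_eq hu hc.1 hc.2
    refine ⟨⟨a⁻¹, c.Q_le_H (inv_mem ha)⟩ * h, by rw [map_mul, c.φ_Q (inv_mem ha), one_mul], ?_⟩
    show a⁻¹ * (h : G) * u = u * (a⁻¹ * h)
    calc a⁻¹ * (h : G) * u = a⁻¹ * ((h : G) * u * (h : G)⁻¹) * h := by group
      _ = a⁻¹ * (a * u * a⁻¹) * h := by rw [e, hau]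
      _ = u * (a⁻¹ * h) := by group

/-- The subgroup of `Q` shared with the group of `u`, as a set of vectors. -/
noncomputable def sharedU (u : G) : AddSubgroup V where
  carrier := {v | ∃ x ∈ c.Q, x ∈ core u ∧ c.pr x = v}
  zero_mem' := ⟨1, one_mem _, one_mem _, (c.pr_eq_zero (one_mem _)).2 (Or.inl rfl)⟩
  add_mem' := by
    rintro _ _ ⟨x, hx, hx', rfl⟩ ⟨y, hy, hy', rfl⟩
    exact ⟨x * y, mul_mem hx hy, mul_mem hx' hy', c.pr_mul hx hy⟩
  neg_mem' := by
    rintro _ ⟨x, hx, hx', rfl⟩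
    exact ⟨x, hx, hx', (neg_eq_of_add_eq_zero_right (vec_two _)).symm⟩

theorem mem_sharedU {u : G} {v : V} : v ∈ c.sharedU u ↔ ∃ x ∈ c.Q, x ∈ core u ∧ c.pr x = v := Iff.rfl

/-- The image in the representation of the elements of `core u` centralising `z`. -/
noncomputable def sharedW (u : G) : Subgroup K := ((core u).subgroupOf c.H).map c.φ

theorem two_card_sharedU {u : G} (hz : c.z ∈ core u) :
    2 * Nat.card (c.sharedU u) = Nat.card (c.Q ⊓ core u : Subgroup G) := by
  let f : (c.Q ⊓ core u : Subgroup G) →* Multiplicative (c.sharedU u) :=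
    MonoidHom.mk' (fun x => Multiplicative.ofAdd ⟨c.pr x, x, x.2.1, x.2.2, rfl⟩) (fun x y => by
      apply Multiplicative.toAdd.injective
      exact Subtype.ext (c.pr_mul x.2.1 y.2.1))
  have hf : Function.Surjective f := by
    intro v
    obtain ⟨x, hx, hx', hv⟩ := (Multiplicative.toAdd v).2
    exact ⟨⟨x, hx, hx'⟩, Multiplicative.toAdd.injective (Subtype.ext hv)⟩
  have hk : Nat.card f.ker = 2 := by
    refine Nat.card_eq_two_iff.2 ⟨1, ⟨⟨c.z, c.z_mem, hz⟩, ?_⟩, ?_, ?_⟩
    · refine MonoidHom.mem_ker.2 (Multiplicative.toAdd.injective (Subtype.ext ?_))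
      exact (c.pr_eq_zero c.z_mem).2 (Or.inr rfl)
    · intro h
      exact c.extra.z_ne (congrArg (fun x : f.ker => ((x : (c.Q ⊓ core u : Subgroup G)) : G)) h).symm
    · ext x
      simp only [Set.mem_insert_iff, Set.mem_singleton_iff, Set.mem_univ, iff_true]
      have h1 : c.pr ((x : (c.Q ⊓ core u : Subgroup G)) : G) = 0 :=
        congrArg (fun a : Multiplicative (c.sharedU u) => ((Multiplicative.toAdd a : c.sharedU u) : V))
          (MonoidHom.mem_ker.1 x.2)
      rcases (c.pr_eq_zero x.1.2.1).1 h1 with e | e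
      · exact Or.inl (Subtype.ext (Subtype.ext e))
      · exact Or.inr (Subtype.ext (Subtype.ext e))
  have h := f.ker.card_mul_index
  rw [Subgroup.index_ker, MonoidHom.range_eq_top.2 hf, Subgroup.card_top, hk,
    Nat.card_congr Multiplicative.toAdd] at h
  exact h

theorem card_fixed {Q' : Subgroup G} {u : G} (h : Extra Q' u) {x : G} (hx : x ∈ Q') (h1 : x ≠ 1) (hu : x ≠ u) :
    2 * Nat.card (Q' ⊓ centralizer ({x} : Set G) : Subgroup G) = Nat.card Q' := by
  open CfsgLib.Characterizations.LargeExtraspecialTransfer in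
  let f : Q' →* Multiplicative (ZMod 2) := MonoidHom.mk' (fun y => Multiplicative.ofAdd (cb x (y : G)))
    (fun y y' => by
      apply Multiplicative.toAdd.injective
      exact cb_mul_right h hx y.2 y'.2)
  have hf : Function.Surjective f := by
    intro v
    obtain ⟨q, hq, hqx⟩ := h.exists_conj_eq hx h1 hu
    rcases (by decide : ∀ a : ZMod 2, a = 0 ∨ a = 1) (Multiplicative.toAdd v) with e | e
    · exact ⟨1, Multiplicative.toAdd.injective (by
        rw [map_one, e]; rfl)⟩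
    · refine ⟨⟨q, hq⟩, Multiplicative.toAdd.injective ?_⟩
      show CfsgLib.Characterizations.LargeExtraspecialTransfer.cb x q = _
      rw [e]
      refine ((by decide : ∀ a : ZMod 2, a = 0 ∨ a = 1) _).resolve_left fun h0 => ?_
      have hc := CfsgLib.Characterizations.LargeExtraspecialTransfer.cb_eq_zero_iff.1 h0
      rw [mul_inv_eq_iff_eq_mul.2 hc.symm] at hqx
      exact h.z_ne (mul_left_cancel ((mul_one x).trans hqx)).symm
  have hk : Nat.card f.ker = Nat.card (Q' ⊓ centralizer ({x} : Set G) : Subgroup G) := by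
    refine Nat.card_congr
      { toFun := fun y => ⟨(y : Q'), (y : Q').2, mem_centralizer_singleton_iff.2 ?_⟩
        invFun := fun y => ⟨⟨y, y.2.1⟩, MonoidHom.mem_ker.2 (Multiplicative.toAdd.injective ?_)⟩
        left_inv := fun _ => rfl
        right_inv := fun _ => rfl }
    · have := congrArg Multiplicative.toAdd (MonoidHom.mem_ker.1 y.2)
      exact (CfsgLib.Characterizations.LargeExtraspecialTransfer.cb_eq_zero_iff.1 this).symm
    · exact CfsgLib.Characterizations.LargeExtraspecialTransfer.cb_eq_zero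
        (mem_centralizer_singleton_iff.1 y.2.2).symm
  have h' := f.ker.card_mul_index
  rw [Subgroup.index_ker, MonoidHom.range_eq_top.2 hf, Subgroup.card_top, hk,
    Nat.card_congr Multiplicative.toAdd, Nat.card_zmod, mul_comm] at h'
  exact h'

theorem card_core_conj (g : G) : Nat.card (core (g * c.z * g⁻¹)) = 2 ^ 9 := by
  rw [core_conj, Subgroup.card_map_of_injective (MulAut.conj g).injective, c.card]

/-- The data given by a fused involution. -/
noncomputable def fused (g : G) (hu : g * c.z * g⁻¹ ∈ c.Q) (hne : g * c.z * g⁻¹ ≠ c.z) : Fused c.rep :=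
  have hQ' : Extra (core (g * c.z * g⁻¹)) (g * c.z * g⁻¹) := extra_core_conj c.hz c.hE c.hC g
  have hzQ' : c.z ∈ core (g * c.z * g⁻¹) := orth_symm c.hz c.hE c.hC g hu
  have hN : ∀ a : G, a * (g * c.z * g⁻¹) = g * c.z * g⁻¹ * a → ∀ x ∈ core (g * c.z * g⁻¹),
      a * x * a⁻¹ ∈ core (g * c.z * g⁻¹) := fun a ha x hx =>
    (mem_normalizer_iff.1 (centralizer_le_normalizer_core _ (mem_centralizer_singleton_iff.2 ha)) x).1 hx
  { u := c.pr (g * c.z * g⁻¹)
    u_ne := fun h => ((c.pr_eq_zero hu).1 h).elim (fun e => c.extra.z_ne (conj_eq_one_iff.1 e)) hne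
    u_singular := (c.form_pr hu).2 hQ'.z_sq
    U := c.sharedU (g * c.z * g⁻¹)
    W := c.sharedW (g * c.z * g⁻¹)
    u_mem := ⟨_, hu, hQ'.z_mem, rfl⟩
    U_singular := by
      rintro _ ⟨x, hx, hx', rfl⟩
      refine (c.form_pr hx).2 ?_
      rcases c.extra.sq_cases hx with e | e
      · exact e
      · rcases hQ'.sq_cases hx' with e' | e'
        · exact e'
        · exact absurd (e'.symm.trans e) hne
    card_U := by
      have h1 := c.two_card_sharedU hzQ'
      have h2 := CfsgLib.Characterizations.LargeExtraspecialTransfer.card_sq_le c.extra inf_le_left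
        (c.card_inter g hu hne)
      rw [← h1, c.card] at h2
      by_contra h3
      push Not at h3
      have : 34 * 34 ≤ 2 * Nat.card (c.sharedU (g * c.z * g⁻¹)) * (2 * Nat.card (c.sharedU (g * c.z * g⁻¹))) :=
        Nat.mul_le_mul (by omega) (by omega)
      omega
    card_mul := by
      set Q' := core (g * c.z * g⁻¹) with hQ'def
      have hc : 2 * Nat.card (Q' ⊓ c.H : Subgroup G) = 2 ^ 9 := by
        rw [card_fixed hQ' hzQ' c.extra.z_ne fun e => hne e.symm, hQ'def, c.card_core_conj]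
      let f : (Q'.subgroupOf c.H) →* K := c.φ.comp (Q'.subgroupOf c.H).subtype
      have hf : f.range = c.sharedW (g * c.z * g⁻¹) := by
        rw [MonoidHom.range_comp, Subgroup.range_subtype]; rfl
      have hk : Nat.card f.ker = Nat.card (c.Q ⊓ Q' : Subgroup G) := Nat.card_congr
        { toFun := fun x => ⟨((x : Q'.subgroupOf c.H) : c.H), (c.hker _).1 x.2, x.1.2⟩
          invFun := fun x => ⟨⟨⟨x, c.Q_le_H x.2.1⟩, x.2.2⟩, c.φ_Q x.2.1⟩
          left_inv := fun _ => rfl
          right_inv := fun _ => rfl }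
      have hd : Nat.card (Q'.subgroupOf c.H) = Nat.card (Q' ⊓ c.H : Subgroup G) := Nat.card_congr
        { toFun := fun x => ⟨(x : c.H), x.2, (x : c.H).2⟩
          invFun := fun x => ⟨⟨x, x.2.2⟩, x.2.1⟩
          left_inv := fun _ => rfl
          right_inv := fun _ => rfl }
      have h := f.ker.card_mul_index
      rw [Subgroup.index_ker, hf, hk, hd, ← c.two_card_sharedU hzQ'] at h
      rw [← h, mul_assoc, ← mul_assoc 2 2, mul_comm (Nat.card (c.sharedU _))] at hc
      omega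
    W_le := by
      rintro _ ⟨x, _, rfl⟩
      exact ⟨x, rfl⟩
    W_sq := by
      rintro _ ⟨x, hx, rfl⟩
      replace hx : (x : G) ∈ core (g * c.z * g⁻¹) := hx
      rw [← map_mul]
      refine (c.hker _).2 ?_
      rcases hQ'.sq_cases hx with e | e
      · show (x : G) * x ∈ c.Q
        rw [e]; exact one_mem _
      · show (x : G) * x ∈ c.Q
        rw [e]; exact hu
    W_fix := by
      rintro _ ⟨x, hx, rfl⟩
      replace hx : (x : G) ∈ core (g * c.z * g⁻¹) := hx
      show c.op (c.φ x) _ = _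
      rw [c.op_pr x hu, mul_inv_eq_iff_eq_mul.2 (hQ'.z_comm hx).symm]
    W_perp := by
      rintro _ ⟨x, hx, rfl⟩ v hv
      obtain ⟨y, hy, rfl⟩ := c.pr_surj v
      rw [show c.rep.q = c.form from rfl] at hv
      replace hx : (x : G) ∈ core (g * c.z * g⁻¹) := hx
      have hyu : g * c.z * g⁻¹ * y = y * (g * c.z * g⁻¹) := (c.polar_pr hu hy).1 (by
        rw [← hv, polar]
        generalize c.form (c.pr (g * c.z * g⁻¹) + c.pr y) = a
        generalize c.form (c.pr (g * c.z * g⁻¹)) = b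
        generalize c.form (c.pr y) = d
        revert a b d
        decide)
      show c.op (c.φ x) (c.pr y) + c.pr y ∈ _
      rw [c.op_pr x hy, ← c.pr_inv hy, ← c.pr_mul (c.conj_mem_Q x.2 hy) (inv_mem hy)]
      refine ⟨_, mul_mem (c.conj_mem_Q x.2 hy) (inv_mem hy), ?_, rfl⟩
      rw [show (x : G) * y * (x : G)⁻¹ * y⁻¹ = (x : G) * (y * (x : G)⁻¹ * y⁻¹) by group]
      exact mul_mem hx (hN y hyu.symm _ (inv_mem hx))
    W_U := by
      rintro _ ⟨x, hx, rfl⟩ _ ⟨y, hy, hy', rfl⟩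
      replace hx : (x : G) ∈ core (g * c.z * g⁻¹) := hx
      show c.op (c.φ x) (c.pr y) + c.pr y = 0 ∨ c.op (c.φ x) (c.pr y) + c.pr y = _
      rw [c.op_pr x hy]
      rcases hQ'.conj_cases hy' hx with e | e <;> rw [e]
      · exact Or.inl (vec_two _)
      · right
        rw [c.pr_mul hy hu, add_comm, ← add_assoc, vec_two, zero_add]
    stab_U := by
      rintro _ ⟨h, rfl⟩ hfix _ ⟨y, hy, hy', rfl⟩
      obtain ⟨h', hh', hcomm⟩ := c.lift_fix hu h hfix
      show c.op (c.φ h) (c.pr y) ∈ _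
      rw [← hh', c.op_pr h' hy]
      exact ⟨_, c.conj_mem_Q h'.2 hy, hN _ hcomm _ hy', rfl⟩
    stab_W := by
      rintro _ ⟨h, rfl⟩ hfix _ ⟨x, hx, rfl⟩
      obtain ⟨h', hh', hcomm⟩ := c.lift_fix hu h hfix
      rw [← hh', ← map_inv, ← map_mul, ← map_mul]
      exact ⟨h' * x * h'⁻¹, hN _ hcomm _ hx, rfl⟩ }

end Ctx

end CfsgLib.Characterizations.ExtraNine
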