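import Mathlib

/-!
The module `2 ⊗ 4` of `S₃ × S₆` over the field of two elements, as numbers below 256.
-/

set_option autoImplicit false

namespace CfsgLib.Characterizations.ExtraNine

open Equiv

/-- The acting group. -/
abbrev K := Perm (Fin 3) × Perm (Fin 6)

/-- The vectors `a ⊗ x + b ⊗ y` as `x + 16 y`. -/
abbrev Vec := Fin 256

theorem xor_val (v w : Vec) : (v ^^^ w).val = v.val ^^^ w.val := by
  show (v.val ^^^ w.val) % 256 = _
  exact Nat.mod_eq_of_lt (Nat.xor_lt_two_pow (n := 8) v.2 w.2)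

theorem xor_comm' (v w : Vec) : v ^^^ w = w ^^^ v :=
  Fin.ext (by rw [xor_val, xor_val, Nat.xor_comm])

theorem xor_assoc' (u v w : Vec) : u ^^^ v ^^^ w = u ^^^ (v ^^^ w) :=
  Fin.ext (by rw [xor_val, xor_val, xor_val, xor_val, Nat.xor_assoc])

theorem xor_self' (v : Vec) : v ^^^ v = 0 := Fin.ext (by rw [xor_val, Nat.xor_self]; rfl)

theorem xor_zero' (v : Vec) : v ^^^ 0 = v := Fin.ext (by rw [xor_val]; exact Nat.xor_zero _)

theorem zero_xor' (v : Vec) : 0 ^^^ v = v := by rw [xor_comm', xor_zero']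

instance : Std.Associative (α := Vec) (· ^^^ ·) := ⟨xor_assoc'⟩
instance : Std.Commutative (α := Vec) (· ^^^ ·) := ⟨xor_comm'⟩

theorem eq_of_xor_eq_zero {v w : Vec} (h : v ^^^ w = 0) : v = w := by
  calc v = v ^^^ (w ^^^ w) := by rw [xor_self', xor_zero']
    _ = v ^^^ w ^^^ w := (xor_assoc' _ _ _).symm
    _ = w := by rw [h, zero_xor']

/-- `x` if the bit `i` of `v` is set. -/
def sel (v : Vec) (i : ℕ) (x : Vec) : Vec := if v.val.testBit i then x else 0

theorem sel_xor (v w : Vec) (i : ℕ) (x : Vec) :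
    sel (v ^^^ w) i x = sel v i x ^^^ sel w i x := by
  unfold sel
  rw [xor_val, Nat.testBit_xor]
  cases v.val.testBit i <;> cases w.val.testBit i <;> simp [xor_self', xor_zero', zero_xor']

/-- The linear map with the given images of the basis vectors. -/
def lin (f : Fin 8 → Vec) (v : Vec) : Vec :=
  sel v 0 (f 0) ^^^ sel v 1 (f 1) ^^^ sel v 2 (f 2) ^^^ sel v 3 (f 3) ^^^
    sel v 4 (f 4) ^^^ sel v 5 (f 5) ^^^ sel v 6 (f 6) ^^^ sel v 7 (f 7)

theorem lin_xor (f : Fin 8 → Vec) (v w : Vec) : lin f (v ^^^ w) = lin f v ^^^ lin f w := by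
  simp only [lin, sel_xor]
  ac_rfl

theorem lin_zero (f : Fin 8 → Vec) : lin f 0 = 0 := by
  simp [lin, sel, xor_zero']

/-- The basis vectors. -/
def e (i : Fin 8) : Vec := ⟨2 ^ i.val, by
  calc 2 ^ i.val < 2 ^ 8 := Nat.pow_lt_pow_right (by norm_num) i.2
    _ = 256 := rfl⟩

theorem vec_eq_lin : ∀ v : Vec, lin e v = v := by decide +kernel

/-- An additive map is determined by its values on the basis. -/
theorem ext_basis {f g : Vec → Vec} (hf : ∀ v w, f (v ^^^ w) = f v ^^^ f w)
    (hg : ∀ v w, g (v ^^^ w) = g v ^^^ g w) (h : ∀ i, f (e i) = g (e i)) (v : Vec) : f v = g v := by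
  have h0 : ∀ k : Vec → Vec, (∀ v w, k (v ^^^ w) = k v ^^^ k w) → k 0 = 0 := fun k hk => by
    have := hk 0 0
    rw [xor_self', xor_self'] at this
    exact this
  have hs : ∀ k : Vec → Vec, (∀ v w, k (v ^^^ w) = k v ^^^ k w) → ∀ (u : Vec) i,
      k (sel v i u) = sel v i (k u) := fun k hk u i => by
    unfold sel
    split_ifs with hb
    · rfl
    · exact h0 k hk
  have hv := vec_eq_lin v
  rw [← hv]
  simp only [lin, hf, hg, hs f hf, hs g hg, h]

/-- Coordinates of an even subset of six points modulo the whole set, four bits each. -/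
def coordTable : ℕ := 1788415798893131706695258159884175072057648463267989062889103954038231040

/-- The class of the pair `{i, j}`. -/
def pair (i j : ℕ) : ℕ := (coordTable >>> (4 * (2 ^ i ^^^ 2 ^ j))) % 16

/-- The image of the `i`-th basis vector of the natural module. -/
def imgR (p : Perm (Fin 6)) (i : ℕ) : ℕ := pair (p (Fin.ofNat 6 i)).val (p (Fin.ofNat 6 (i + 1))).val

/-- The action of the second factor. -/
def R (p : Perm (Fin 6)) : Vec → Vec :=
  lin fun i => Fin.ofNat 256 (imgR p (i.val % 4) <<< (4 * (i.val / 4)))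

/-- Coordinates of an even subset of three points. -/
def pairA (i j : ℕ) : ℕ :=
  if 2 ^ i ^^^ 2 ^ j = 3 then 1 else if 2 ^ i ^^^ 2 ^ j = 6 then 2 else 3

/-- The image of the `j`-th basis vector of the two dimensional module. -/
def imgL (s : Perm (Fin 3)) (j : ℕ) : ℕ := pairA (s (Fin.ofNat 3 j)).val (s (Fin.ofNat 3 (j + 1))).val

/-- The action of the first factor. -/
def L (s : Perm (Fin 3)) : Vec → Vec :=
  lin fun i => Fin.ofNat 256 ((imgL s (i.val / 4) % 2) <<< (i.val % 4) ^^^
    (imgL s (i.val / 4) / 2) <<< (i.val % 4 + 4))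

/-- The action. -/
def act (g : K) (v : Vec) : Vec := L g.1 (R g.2 v)

theorem L_xor (s : Perm (Fin 3)) (v w : Vec) : L s (v ^^^ w) = L s v ^^^ L s w := lin_xor _ v w

theorem R_xor (p : Perm (Fin 6)) (v w : Vec) : R p (v ^^^ w) = R p v ^^^ R p w := lin_xor _ v w

theorem act_xor (g : K) (v w : Vec) : act g (v ^^^ w) = act g v ^^^ act g w := by
  simp only [act, R_xor, L_xor]

theorem act_zero (g : K) : act g 0 = 0 := by simp only [act, R, L, lin_zero]

theorem perm_six_gen : Subgroup.closure ({swap 0 1, finRotate 6} : Set (Perm (Fin 6))) = ⊤ := by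
  have h := Equiv.Perm.closure_cycle_adjacent_swap (isCycle_finRotate (n := 4))
    (support_finRotate (n := 4)) (0 : Fin 6)
  rw [show (finRotate 6) 0 = 1 from rfl] at h
  rw [Set.pair_comm]
  exact h

theorem perm_three_gen : Subgroup.closure ({swap 0 1, finRotate 3} : Set (Perm (Fin 3))) = ⊤ := by
  have h := Equiv.Perm.closure_cycle_adjacent_swap (isCycle_finRotate (n := 1))
    (support_finRotate (n := 1)) (0 : Fin 3)
  rw [show (finRotate 3) 0 = 1 from rfl] at h
  rw [Set.pair_comm]
  exact h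

/-- A property of the elements of a finite group closed under products holds everywhere. -/
theorem forall_of_gen {A : Type*} [Group A] [Finite A] {S : Set A}
    (hS : Subgroup.closure S = ⊤) (P : A → Prop) (h1 : P 1) (hg : ∀ a ∈ S, P a)
    (hm : ∀ a b, P a → P b → P (a * b)) (a : A) : P a := by
  let M : Submonoid A := { carrier := {a | P a}, one_mem' := h1, mul_mem' := hm _ _ }
  have hle : Subgroup.closure S ≤ subgroupOfIdempotent (M : Set A) ⟨1, h1⟩
      (Set.Subset.antisymm (by rintro _ ⟨x, hx, y, hy, rfl⟩; exact hm x y hx hy)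
        fun x hx => ⟨1, h1, x, hx, one_mul x⟩) := by
    rw [Subgroup.closure_le]
    exact hg
  exact hle (hS ▸ Subgroup.mem_top a)

theorem R_mul_gen : ∀ (p : Perm (Fin 6)) (i : Fin 8),
    R (swap 0 1 * p) (e i) = R (swap 0 1) (R p (e i)) ∧
    R (finRotate 6 * p) (e i) = R (finRotate 6) (R p (e i)) := by decide +kernel

theorem L_mul_gen : ∀ (p : Perm (Fin 3)) (i : Fin 8),
    L (swap 0 1 * p) (e i) = L (swap 0 1) (L p (e i)) ∧
    L (finRotate 3 * p) (e i) = L (finRotate 3) (L p (e i)) := by decide +kernel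

theorem R_one : ∀ v : Vec, R 1 v = v := by decide +kernel

theorem L_one : ∀ v : Vec, L 1 v = v := by decide +kernel

theorem R_mul (p q : Perm (Fin 6)) (v : Vec) : R (p * q) v = R p (R q v) := by
  refine forall_of_gen perm_six_gen (fun p => ∀ q v, R (p * q) v = R p (R q v)) ?_ ?_ ?_ p q v
  · intro q v; rw [one_mul, R_one]
  · rintro a (rfl | rfl) q v
    · exact ext_basis (f := R _) (g := fun x => R _ (R q x)) (R_xor _)
        (fun v w => by simp only [R_xor]) (fun i => (R_mul_gen q i).1) v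
    · exact ext_basis (f := R _) (g := fun x => R _ (R q x)) (R_xor _)
        (fun v w => by simp only [R_xor]) (fun i => (R_mul_gen q i).2) v
  · intro a b ha hb q v
    rw [mul_assoc, ha, hb, ha]

theorem L_mul (p q : Perm (Fin 3)) (v : Vec) : L (p * q) v = L p (L q v) := by
  refine forall_of_gen perm_three_gen (fun p => ∀ q v, L (p * q) v = L p (L q v)) ?_ ?_ ?_ p q v
  · intro q v; rw [one_mul, L_one]
  · rintro a (rfl | rfl) q v
    · exact ext_basis (f := L _) (g := fun x => L _ (L q x)) (L_xor _)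
        (fun v w => by simp only [L_xor]) (fun i => (L_mul_gen q i).1) v
    · exact ext_basis (f := L _) (g := fun x => L _ (L q x)) (L_xor _)
        (fun v w => by simp only [L_xor]) (fun i => (L_mul_gen q i).2) v
  · intro a b ha hb q v
    rw [mul_assoc, ha, hb, ha]

theorem comm_gen : ∀ (s : Perm (Fin 3)) (i : Fin 8),
    L s (R (swap 0 1) (e i)) = R (swap 0 1) (L s (e i)) ∧
    L s (R (finRotate 6) (e i)) = R (finRotate 6) (L s (e i)) := by decide +kernel

theorem L_R_comm (s : Perm (Fin 3)) (p : Perm (Fin 6)) (v : Vec) : L s (R p v) = R p (L s v) := by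
  refine forall_of_gen perm_six_gen (fun p => ∀ v, L s (R p v) = R p (L s v)) ?_ ?_ ?_ p v
  · intro v; rw [R_one, R_one]
  · rintro a (rfl | rfl) v
    · exact ext_basis (f := fun x => L s (R _ x)) (g := fun x => R _ (L s x))
        (fun v w => by simp only [R_xor, L_xor]) (fun v w => by simp only [R_xor, L_xor])
        (fun i => (comm_gen s i).1) v
    · exact ext_basis (f := fun x => L s (R _ x)) (g := fun x => R _ (L s x))
        (fun v w => by simp only [R_xor, L_xor]) (fun v w => by simp only [R_xor, L_xor])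
        (fun i => (comm_gen s i).2) v
  · intro a b ha hb v
    rw [R_mul, ha, hb, ← R_mul]

theorem act_mul (g h : K) (v : Vec) : act (g * h) v = act g (act h v) := by
  simp only [act, Prod.fst_mul, Prod.snd_mul, R_mul, L_mul, L_R_comm]

theorem act_one (v : Vec) : act 1 v = v := by simp only [act, Prod.fst_one, Prod.snd_one, R_one, L_one]

/-- The quadratic form. -/
def Qf (v : Vec) : Bool :=
  let b : ℕ → Bool := fun i => v.val.testBit i
  Bool.xor (Bool.xor (Bool.xor (b 0 && b 5) (b 1 && b 4)) (Bool.xor (b 1 && b 6) (b 2 && b 5)))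
    (Bool.xor (b 2 && b 7) (b 3 && b 6))

/-- The polar form. -/
def Bf (v w : Vec) : Bool := Bool.xor (Qf (v ^^^ w)) (Bool.xor (Qf v) (Qf w))

theorem Qf_gen : ∀ v : Vec, Qf (R (swap 0 1) v) = Qf v ∧ Qf (R (finRotate 6) v) = Qf v ∧
    Qf (L (swap 0 1) v) = Qf v ∧ Qf (L (finRotate 3) v) = Qf v := by decide +kernel

theorem Qf_act (g : K) (v : Vec) : Qf (act g v) = Qf v := by
  have hR : ∀ p v, Qf (R p v) = Qf v := forall_of_gen perm_six_gen _ (fun v => by rw [R_one])
    (by rintro a (rfl | rfl) v; exacts [(Qf_gen v).1, (Qf_gen v).2.1])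
    fun a b ha hb v => by rw [R_mul, ha, hb]
  have hL : ∀ p v, Qf (L p v) = Qf v := forall_of_gen perm_three_gen _ (fun v => by rw [L_one])
    (by rintro a (rfl | rfl) v; exacts [(Qf_gen v).2.2.1, (Qf_gen v).2.2.2])
    fun a b ha hb v => by rw [L_mul, ha, hb]
  rw [act, hL, hR]

theorem Bf_act (g : K) (v w : Vec) : Bf (act g v) (act g w) = Bf v w := by
  simp only [Bf, ← act_xor, Qf_act]

end CfsgLib.Characterizations.ExtraNine
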