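import Cfsg.Agent.Lib.Characterizations.ExtraNine.Facts

/-!
A faithful action of a subgroup of `S₃ × S₆` containing `A₃ × A₆` and an element inverting `A₃` on a
quadratic space of dimension eight over the field of two elements.
-/

set_option autoImplicit false

namespace CfsgLib.Characterizations.ExtraNine

open Equiv

/-- The data. -/
structure Rep (V : Type*) [AddCommGroup V] where
  KI : Subgroup K
  op : K → V → V
  q : V → ZMod 2
  two : ∀ v : V, v + v = 0
  card : Nat.card V = 256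
  op_add : ∀ g ∈ KI, ∀ v w, op g (v + w) = op g v + op g w
  op_one : ∀ v, op 1 v = v
  op_mul : ∀ g ∈ KI, ∀ h ∈ KI, ∀ v, op (g * h) v = op g (op h v)
  faithful : ∀ g ∈ KI, (∀ v, op g v = v) → g = 1
  q_zero : q 0 = 0
  q_op : ∀ g ∈ KI, ∀ v, q (op g v) = q v
  polar_add : ∀ x y w, q (x + y + w) + q (x + y) + q (y + w) + q (x + w) + q x + q y + q w = 0
  nondeg : ∀ x, (∀ y, q (x + y) + q x + q y = 0) → x = 0
  alt_le : ∀ g : K, Perm.sign g.1 = 1 → Perm.sign g.2 = 1 → g ∈ KI
  odd : ∃ g ∈ KI, Perm.sign g.1 = -1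

/-- A singular vector with a subspace and a group of transformations, as produced by a fused involution. -/
structure Fused {V : Type*} [AddCommGroup V] (D : Rep V) where
  u : V
  u_ne : u ≠ 0
  u_singular : D.q u = 0
  U : AddSubgroup V
  W : Subgroup K
  u_mem : u ∈ U
  U_singular : ∀ x ∈ U, D.q x = 0
  card_U : Nat.card U ≤ 16
  card_mul : Nat.card W * Nat.card U = 128
  W_le : W ≤ D.KI
  W_sq : ∀ w ∈ W, w * w = 1
  W_fix : ∀ w ∈ W, D.op w u = u
  W_perp : ∀ w ∈ W, ∀ v, D.q (u + v) + D.q u + D.q v = 0 → D.op w v + v ∈ U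
  W_U : ∀ w ∈ W, ∀ x ∈ U, D.op w x + x = 0 ∨ D.op w x + x = u
  stab_U : ∀ g ∈ D.KI, D.op g u = u → ∀ x ∈ U, D.op g x ∈ U
  stab_W : ∀ g ∈ D.KI, D.op g u = u → ∀ w ∈ W, g * w * g⁻¹ ∈ W

namespace Rep

variable {V : Type*} [AddCommGroup V] (D : Rep V)

/-- The polar form. -/
def B (x y : V) : ZMod 2 := D.q (x + y) + D.q x + D.q y

theorem B_comm (x y : V) : D.B x y = D.B y x := by
  unfold B; rw [add_comm x y]; ring

theorem B_add_left (x y w : V) : D.B (x + y) w = D.B x w + D.B y w := by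
  have h := D.polar_add x y w
  unfold B
  have e : D.q (x + y + w) = D.q (x + y) + D.q (y + w) + D.q (x + w) + D.q x + D.q y + D.q w := by
    rw [← sub_eq_zero]
    calc _ = D.q (x + y + w) + D.q (x + y) + D.q (y + w) + D.q (x + w) + D.q x + D.q y + D.q w := by
          simp only [CharTwo.sub_eq_add]; ring
      _ = 0 := h
  rw [e]
  generalize D.q (x + y) = a
  generalize D.q (y + w) = b
  generalize D.q (x + w) = c
  generalize D.q x = d
  generalize D.q y = i
  generalize D.q w = j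
  revert a b c d i j
  decide

theorem B_add_right (x y w : V) : D.B x (y + w) = D.B x y + D.B x w := by
  rw [B_comm, B_add_left, B_comm D y, B_comm D w]

theorem q_add (x y : V) : D.q (x + y) = D.q x + D.q y + D.B x y := by
  unfold B
  generalize D.q (x + y) = a
  generalize D.q x = d
  generalize D.q y = i
  revert a d i
  decide

theorem B_zero_left (y : V) : D.B 0 y = 0 := by
  have h := D.B_add_left 0 0 y
  rw [add_zero] at h
  simpa using h

theorem B_zero_right (x : V) : D.B x 0 = 0 := by rw [B_comm, B_zero_left]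

theorem B_self (x : V) : D.B x x = 0 := by
  unfold B
  rw [D.two, D.q_zero, zero_add]
  generalize D.q x = d
  revert d
  decide

theorem eq_zero_of_B {x : V} (h : ∀ y, D.B x y = 0) : x = 0 := D.nondeg x h

theorem op_zero {g : K} (hg : g ∈ D.KI) : D.op g 0 = 0 := by
  have h := D.op_add g hg 0 0
  rw [add_zero] at h
  simpa using h

theorem op_inv_op {g : K} (hg : g ∈ D.KI) (v : V) : D.op g⁻¹ (D.op g v) = v := by
  rw [← D.op_mul _ (inv_mem hg) _ hg, inv_mul_cancel, D.op_one]

theorem op_op_inv {g : K} (hg : g ∈ D.KI) (v : V) : D.op g (D.op g⁻¹ v) = v := by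
  rw [← D.op_mul _ hg _ (inv_mem hg), mul_inv_cancel, D.op_one]

theorem op_conj {g h : K} (hg : g ∈ D.KI) (hh : h ∈ D.KI) (v : V) :
    D.op (g * h * g⁻¹) (D.op g v) = D.op g (D.op h v) := by
  rw [← D.op_mul _ (mul_mem (mul_mem hg hh) (inv_mem hg)) _ hg, inv_mul_cancel_right, D.op_mul _ hg _ hh]

theorem B_op {g : K} (hg : g ∈ D.KI) (x y : V) : D.B (D.op g x) (D.op g y) = D.B x y := by
  unfold B
  rw [← D.op_add g hg, D.q_op g hg, D.q_op g hg, D.q_op g hg]

theorem gen5_mem (i : Fin 5) : gen5 i ∈ D.KI :=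
  D.alt_le _ (by revert i; decide +kernel) (by revert i; decide +kernel)

theorem gth_mem : gth ∈ D.KI := D.gen5_mem 0

theorem ga_mem : ga ∈ D.KI := D.gen5_mem 1

theorem gb_mem : gb ∈ D.KI := D.gen5_mem 2

theorem gn_mem : gn ∈ D.KI := D.gen5_mem 3

theorem gr_mem : gr ∈ D.KI := D.gen5_mem 4

/-- Transport along an automorphism of the second factor preserving signs. -/
def pull (ψ : Perm (Fin 6) ≃* Perm (Fin 6)) (hψ : ∀ p, Perm.sign (ψ p) = Perm.sign p) : Rep V where
  KI := D.KI.comap ((MonoidHom.id _).prodMap ψ.toMonoidHom)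
  op g := D.op (g.1, ψ g.2)
  q := D.q
  two := D.two
  card := D.card
  op_add g hg := D.op_add _ hg
  op_one := by
    intro v
    show D.op ((1 : K).1, ψ (1 : K).2) v = v
    rw [Prod.snd_one, map_one]
    exact D.op_one v
  op_mul g hg h hh v := by
    show D.op ((g * h).1, ψ (g * h).2) v = _
    rw [Prod.snd_mul, map_mul]
    exact D.op_mul _ hg _ hh v
  faithful g hg h := by
    have := D.faithful _ hg h
    rw [Prod.ext_iff] at this
    exact Prod.ext this.1 (ψ.injective (this.2.trans (map_one ψ).symm))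
  q_zero := D.q_zero
  q_op g hg := D.q_op _ hg
  polar_add := D.polar_add
  nondeg := D.nondeg
  alt_le g h1 h2 := D.alt_le (g.1, ψ g.2) h1 (by rw [hψ]; exact h2)
  odd := by
    obtain ⟨g, hg, hs⟩ := D.odd
    refine ⟨(g.1, ψ.symm g.2), ?_, hs⟩
    show (g.1, ψ (ψ.symm g.2)) ∈ D.KI
    rwa [ψ.apply_symm_apply]

end Rep

end CfsgLib.Characterizations.ExtraNine
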